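import Mathlib

set_option autoImplicit false
universe u

open TensorProduct

namespace Groth.Agent.H8.Rig

/-- flatness descends along a surjective ring map (for modules over the target). -/
theorem flat_of_surjective_algebraMap {Q R' N : Type*} [CommRing Q] [CommRing R'] [Algebra Q R']
    (hs : Function.Surjective (algebraMap Q R')) [AddCommGroup N] [Module Q N] [Module R' N]
    [IsScalarTower Q R' N] [Module.Flat Q N] : Module.Flat R' N := by
  have hbc : IsBaseChange R' (LinearMap.id : N →ₗ[Q] N) := by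
    apply IsBaseChange.of_lift_unique
    intro P _ _ _ _ g
    refine ⟨{ g with map_smul' := ?_ }, ?_, ?_⟩
    · intro r x
      obtain ⟨c, rfl⟩ := hs r
      simp only [AddHom.toFun_eq_coe, LinearMap.coe_toAddHom, RingHom.id_apply, algebraMap_smul]
      exact g.map_smul c x
    · ext x; rfl
    · intro g' hg'
      ext x
      have := congrArg (fun h => h x) hg'
      simpa using this
  exact Module.Flat.isBaseChange Q R' N N hbc

attribute [local instance] Algebra.TensorProduct.rightAlgebra in
theorem isPushout_quotient (A R : Type*) [CommRing A] [CommRing R] [Algebra A R] (a : Ideal A) :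
    Algebra.IsPushout A (A ⧸ a) R (R ⧸ a.map (algebraMap A R)) := by
  have h : Algebra.IsPushout A (A ⧸ a) R ((A ⧸ a) ⊗[A] R) := inferInstance
  refine Algebra.IsPushout.of_equiv (Algebra.TensorProduct.quotIdealMapEquivQuotTensor R a).symm ?_
  ext r
  change (Algebra.TensorProduct.quotIdealMapEquivQuotTensor R a).symm
    (algebraMap R ((A ⧸ a) ⊗[A] R) r) = _
  rw [AlgEquiv.symm_apply_eq]
  rfl

/-- flat `A`-module `S` (also an `R`-module): `(R/aR) ⊗_R S` is flat over `R/aR` as soon as
`A/a → R/aR` is surjective. -/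
theorem flat_quotient_tensor (A R S : Type*) [CommRing A] [CommRing R] [Algebra A R]
    (a : Ideal A)
    (hs : Function.Surjective (algebraMap (A ⧸ a) (R ⧸ a.map (algebraMap A R))))
    [AddCommGroup S] [Module A S] [Module R S] [IsScalarTower A R S] [Module.Flat A S] :
    Module.Flat (R ⧸ a.map (algebraMap A R)) ((R ⧸ a.map (algebraMap A R)) ⊗[R] S) := by
  haveI := isPushout_quotient A R a
  let e := Algebra.IsPushout.cancelBaseChange A (A ⧸ a) R (R ⧸ a.map (algebraMap A R)) S
  haveI : Module.Flat (A ⧸ a) ((R ⧸ a.map (algebraMap A R)) ⊗[R] S) :=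
    Module.Flat.of_linearEquiv e
  exact flat_of_surjective_algebraMap hs

theorem isUnit_mk_pow {A : Type*} [CommRing A] (p : Ideal A) (f : A)
    (hf : IsUnit (Ideal.Quotient.mk p f)) (n : ℕ) : IsUnit (Ideal.Quotient.mk (p ^ n) f) := by
  obtain ⟨g, hg⟩ := hf.exists_right_inv
  obtain ⟨g, rfl⟩ := Ideal.Quotient.mk_surjective g
  have h1 : f * g - 1 ∈ p := by
    rw [← Ideal.Quotient.eq, map_mul, map_one]; exact hg
  have h2 : (f * g - 1) ^ n ∈ p ^ n := Ideal.pow_mem_pow h1 n
  have hnil : IsNilpotent (Ideal.Quotient.mk (p ^ n) (f * g - 1)) :=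
    ⟨n, by rw [← map_pow]; exact Ideal.Quotient.eq_zero_iff_mem.mpr h2⟩
  have hu : IsUnit (Ideal.Quotient.mk (p ^ n) (f * g)) := by
    have : Ideal.Quotient.mk (p ^ n) (f * g) = Ideal.Quotient.mk (p ^ n) (f * g - 1) + 1 := by
      rw [← map_one (Ideal.Quotient.mk (p ^ n)), ← map_add]; congr 1; ring
    rw [this]
    exact hnil.isUnit_add_one
  rw [map_mul] at hu
  exact isUnit_of_mul_isUnit_left hu

end Groth.Agent.H8.Rig
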