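import Mathlib
import Groth.Agent.Lib.Helper9.ChevMod
import Groth.Agent.Lib.Helper8.CTensor2

set_option autoImplicit false
universe u

namespace Groth.Agent.H8.Rig

open Polynomial

section Core

variable {D : Type*} [CommRing D] [IsDomain D] [IsNoetherianRing D]

/-- In a Noetherian domain, given a nonzero nonunit `a` and a prime `P` of height `> 1`, there is a
nonzero prime avoiding `a`. -/
theorem exists_prime_not_mem_of_height (a : D) (ha0 : a ≠ 0) (hau : ¬ IsUnit a)
    (P : Ideal D) [P.IsPrime] (hP : ¬ P.height ≤ 1) :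
    ∃ P' : Ideal D, P'.IsPrime ∧ P' ≠ ⊥ ∧ a ∉ P' := by
  classical
  have hfin := Ideal.finite_minimalPrimes_of_isNoetherianRing D (Ideal.span {a})
  have hne_top : Ideal.span {a} ≠ ⊤ := by
    rw [Ne, Ideal.span_singleton_eq_top]; exact hau
  obtain ⟨M, hM, haM⟩ := Ideal.exists_le_maximal _ hne_top
  haveI := hM.isPrime
  obtain ⟨P1, hP1, -⟩ := Ideal.exists_minimalPrimes_le haM
  have hnot : ¬ ((P : Set D) ⊆ ⋃ i ∈ (↑hfin.toFinset : Set (Ideal D)), ((id i : Ideal D) : Set D)) := by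
    rw [Ideal.subset_union_prime (f := id) ⊥ ⊥]
    · rintro ⟨Q, hQ, hPQ⟩
      rw [Set.Finite.mem_toFinset] at hQ
      have h1 : Q.height ≤ 1 :=
        Ideal.height_le_one_of_isPrincipal_of_mem_minimalPrimes _ Q hQ
      exact hP ((Ideal.height_mono hPQ).trans h1)
    · intro Q hQ _ _
      rw [Set.Finite.mem_toFinset] at hQ
      exact hQ.isPrime
  rw [Set.not_subset] at hnot
  obtain ⟨x, hxP, hx⟩ := hnot
  have hx' : ∀ Q ∈ (Ideal.span {a}).minimalPrimes, x ∉ Q := by
    intro Q hQ hxQ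
    apply hx
    simp only [Set.mem_iUnion]
    exact ⟨Q, by simpa using hQ, hxQ⟩
  have hx0 : x ≠ 0 := by
    rintro rfl
    exact hx' P1 hP1 (zero_mem _)
  have hxle : Ideal.span {x} ≤ P := by
    rw [Ideal.span_le]; simpa using hxP
  obtain ⟨P', hP', hP'P⟩ := Ideal.exists_minimalPrimes_le hxle
  haveI := hP'.isPrime
  have hxP' : x ∈ P' := hP'.1.2 (Ideal.subset_span rfl)
  have hht : P'.height ≤ 1 := Ideal.height_le_one_of_isPrincipal_of_mem_minimalPrimes _ P' hP'
  refine ⟨P', hP'.isPrime, ?_, ?_⟩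
  · rintro rfl
    exact hx0 (by simpa using hxP')
  · intro haP'
    have hale : Ideal.span {a} ≤ P' := by
      rw [Ideal.span_le]; simpa using haP'
    obtain ⟨Q, hQ, hQP'⟩ := Ideal.exists_minimalPrimes_le hale
    haveI := hQ.isPrime
    have haQ : a ∈ Q := hQ.1.2 (Ideal.subset_span rfl)
    rcases eq_or_lt_of_le hQP' with h | h
    · exact hx' Q hQ (h ▸ hxP')
    · have h2 := Ideal.height_add_one_le_of_lt_of_isPrime h
      have h3 : Q.height + 1 ≤ 1 := h2.trans hht
      have h4 : Q.height = 0 := by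
        have : Q.height + 1 ≤ 0 + 1 := by simpa using h3
        exact le_antisymm ((ENat.add_le_add_iff_right (by simp)).mp this) bot_le
      rw [Ideal.height_eq_zero_iff_eq_bot] at h4
      subst h4
      exact ha0 (by simpa using haQ)

/-- idempotent lifting along an adically complete ideal -/
theorem exists_idempotent_lift {R : Type*} [CommRing R] (J : Ideal R) [IsAdicComplete J R]
    (e : R) (he : e ^ 2 - e ∈ J) : ∃ e' : R, IsIdempotentElem e' ∧ e' - e ∈ J := by
  have hH : HenselianRing R J := inferInstance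
  obtain ⟨a, ha, haJ⟩ := hH.is_henselian (X ^ 2 - X)
      (monic_X_pow_sub (lt_of_le_of_lt degree_X_le (by norm_num))) e (by simpa using he) (by
      have hd : (derivative (X ^ 2 - X : R[X])).eval e = 2 * e - 1 := by
        simp only [derivative_sub, derivative_X_pow, derivative_X, eval_sub, eval_mul, eval_pow,
          eval_X, eval_one, eval_C]
        ring
      rw [hd]
      refine IsUnit.of_mul_eq_one (Ideal.Quotient.mk J (2 * e - 1)) ?_
      rw [← map_mul, ← map_one (Ideal.Quotient.mk J), Ideal.Quotient.eq]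
      have : (2 * e - 1) * (2 * e - 1) - 1 = 4 * (e ^ 2 - e) := by ring
      rw [this]
      exact Ideal.mul_mem_left _ _ he)
  refine ⟨a, ?_, haJ⟩
  have : a ^ 2 - a = 0 := by simpa [IsRoot] using ha
  rw [IsIdempotentElem, ← sq]
  exact sub_eq_zero.mp this

/-- A Noetherian domain, complete for an ideal `J` all of whose over-primes are maximal,
has at most one maximal ideal. -/
theorem isMaximal_unique (J : Ideal D) [IsAdicComplete J D]
    (hmax : ∀ P : Ideal D, P.IsPrime → J ≤ P → P.IsMaximal)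
    (m1 m2 : Ideal D) (h1 : m1.IsMaximal) (h2 : m2.IsMaximal) : m1 = m2 := by
  classical
  by_contra hne
  have hjac : J ≤ Ideal.jacobson ⊥ := IsAdicComplete.le_jacobson_bot J
  have hJm : ∀ m : Ideal D, m.IsMaximal → J ≤ m := fun m hm x hx =>
    (Ideal.mem_sInf.mp (hjac hx)) ⟨bot_le, hm⟩
  have hmem : ∀ m : Ideal D, m.IsMaximal → m ∈ J.minimalPrimes := by
    intro m hm
    haveI := hm.isPrime
    obtain ⟨P, hP, hPm⟩ := Ideal.exists_minimalPrimes_le (hJm m hm)
    have hPmax := hmax P hP.isPrime hP.1.2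
    have : P = m := hPmax.eq_of_le hm.ne_top hPm
    exact this ▸ hP
  have hfin := Ideal.finite_minimalPrimes_of_isNoetherianRing D J
  set S := hfin.toFinset with hS
  have hm1S : m1 ∈ S := by rw [hS, Set.Finite.mem_toFinset]; exact hmem m1 h1
  have hm2S : m2 ∈ S.erase m1 := by
    rw [Finset.mem_erase]
    exact ⟨fun h => hne h.symm, by rw [hS, Set.Finite.mem_toFinset]; exact hmem m2 h2⟩
  set b : Ideal D := ∏ P ∈ S.erase m1, P with hb
  have hcop : m1 ⊔ b = ⊤ := by
    apply Ideal.sup_prod_eq_top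
    intro P hP
    rw [Finset.mem_erase, hS, Set.Finite.mem_toFinset] at hP
    have hPmax := hmax P hP.2.isPrime hP.2.1.2
    exact Ideal.IsMaximal.coprime_of_ne h1 hPmax (Ne.symm hP.1)
  have hprod : m1 * b ≤ J.radical := by
    rw [hb, Finset.mul_prod_erase S (fun P => P) hm1S, ← Ideal.sInf_minimalPrimes]
    refine le_sInf fun P hP => ?_
    refine Ideal.prod_le_inf.trans ?_
    exact Finset.inf_le (f := fun P => P) (by rw [hS, Set.Finite.mem_toFinset]; exact hP)
  obtain ⟨N, hN⟩ := Ideal.exists_radical_pow_le_of_fg J (IsNoetherian.noetherian _)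
  have hN1 : (m1 * b) ^ (N + 1) ≤ J :=
    (Ideal.pow_right_mono hprod _).trans ((Ideal.pow_le_pow_right (Nat.le_succ N)).trans hN)
  have hcop' : m1 ^ (N + 1) ⊔ b ^ (N + 1) = ⊤ := Ideal.pow_sup_pow_eq_top hcop
  obtain ⟨e, he, f, hf, hef⟩ := Submodule.mem_sup.mp
    (show (1 : D) ∈ m1 ^ (N + 1) ⊔ b ^ (N + 1) by rw [hcop']; trivial)
  have hefJ : e * f ∈ J := hN1 (by rw [mul_pow]; exact Ideal.mul_mem_mul he hf)
  have heJ : e ^ 2 - e ∈ J := by
    have : e ^ 2 - e = - (e * f) := by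
      have hf' : f = 1 - e := by rw [← hef]; ring
      rw [hf']; ring
    rw [this]; exact neg_mem hefJ
  obtain ⟨e', he', he'J⟩ := exists_idempotent_lift J e heJ
  have hem1 : e ∈ m1 := Ideal.pow_le_self (Nat.succ_ne_zero N) he
  have hbm2 : b ≤ m2 := by
    rw [hb]
    exact Ideal.prod_le_inf.trans (Finset.inf_le (f := fun P => P) hm2S)
  have hfm2 : f ∈ m2 := hbm2 (Ideal.pow_le_self (Nat.succ_ne_zero N) hf)
  rcases IsIdempotentElem.iff_eq_zero_or_one.mp he' with h0 | h1'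
  · subst h0
    have heJ' : e ∈ J := by simpa using neg_mem he'J
    apply h2.ne_top
    rw [Ideal.eq_top_iff_one, ← hef]
    exact add_mem (hJm m2 h2 heJ') hfm2
  · subst h1'
    apply h1.ne_top
    rw [Ideal.eq_top_iff_one]
    have : (1 : D) = (1 - e) + e := by ring
    rw [this]
    exact add_mem (hJm m1 h1 he'J) hem1

end Core

section Main

variable (A : Type u) [CommRing A] [IsNoetherianRing A] (I : Ideal A)

/-- rig-closed: `I ⊄ q` and `q` maximal among primes not containing `I`. -/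
def IsRigClosed (q : PrimeSpectrum A) : Prop :=
  ¬ I ≤ q.asIdeal ∧ ∀ q' : PrimeSpectrum A, q ≤ q' → ¬ I ≤ q'.asIdeal → q' = q

theorem isAdicComplete_quotient [IsAdicComplete I A] (q : Ideal A) :
    IsAdicComplete (I.map (Ideal.Quotient.mk q)) (A ⧸ q) := by
  have h1 : IsAdicComplete I (A ⧸ q) := Groth.Agent.H9.ChevMod.isAdicComplete_of_finite A I (A ⧸ q)
  exact (IsAdicComplete.map_algebraMap_iff (S := A ⧸ q) I (A ⧸ q)).mpr h1

variable {A I}

theorem le_of_isMaximal (hI : I ≤ Ideal.jacobson ⊥) (m : Ideal A) (hm : m.IsMaximal) : I ≤ m :=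
  fun _ hx => (Ideal.mem_sInf.mp (hI hx)) ⟨bot_le, hm⟩

theorem not_isUnit_mk (hI : I ≤ Ideal.jacobson ⊥) (q : Ideal A) (hq : q ≠ ⊤) (a : A) (ha : a ∈ I) :
    ¬ IsUnit (Ideal.Quotient.mk q a) := by
  intro hu
  obtain ⟨M, hM, hqM⟩ := Ideal.exists_le_maximal q hq
  obtain ⟨b, hb⟩ := hu.exists_right_inv
  obtain ⟨b, rfl⟩ := Ideal.Quotient.mk_surjective b
  rw [← map_mul, ← map_one (Ideal.Quotient.mk q), Ideal.Quotient.eq] at hb
  apply hM.ne_top
  rw [Ideal.eq_top_iff_one]
  have h1 : a * b ∈ M := Ideal.mul_mem_right _ _ (le_of_isMaximal hI M hM ha)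
  have h2 : a * b - 1 ∈ M := hqM hb
  have : (1 : A) = a * b - (a * b - 1) := by ring
  rw [this]
  exact sub_mem h1 h2

theorem dim_le_one_of_isRigClosed (hI : I ≤ Ideal.jacobson ⊥) (q : PrimeSpectrum A)
    (h : IsRigClosed A I q) : ringKrullDim (A ⧸ q.asIdeal) ≤ 1 := by
  rw [ringKrullDim_le_iff_height_le]
  intro P hP
  by_contra hht
  obtain ⟨a, haI, haq⟩ := SetLike.not_le_iff_exists.mp h.1
  have ha0 : Ideal.Quotient.mk q.asIdeal a ≠ 0 := by
    rwa [Ne, Ideal.Quotient.eq_zero_iff_mem]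
  have hau := not_isUnit_mk hI q.asIdeal q.2.ne_top a haI
  have hht' : ¬ P.height ≤ 1 := by exact_mod_cast hht
  obtain ⟨P', hP'prime, hP'bot, haP'⟩ := exists_prime_not_mem_of_height _ ha0 hau P hht'
  set q' : PrimeSpectrum A := ⟨P'.comap (Ideal.Quotient.mk q.asIdeal), inferInstance⟩ with hq'
  have hle : q ≤ q' := by
    intro x hx
    change Ideal.Quotient.mk q.asIdeal x ∈ P'
    rw [Ideal.Quotient.eq_zero_iff_mem.mpr hx]
    exact zero_mem _
  have hI' : ¬ I ≤ q'.asIdeal := fun hle' => haP' (hle' haI)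
  have heq := h.2 q' hle hI'
  apply hP'bot
  rw [eq_bot_iff]
  intro y hy
  obtain ⟨y, rfl⟩ := Ideal.Quotient.mk_surjective y
  have : y ∈ q'.asIdeal := hy
  rw [heq] at this
  simpa [Ideal.Quotient.eq_zero_iff_mem] using this

theorem one_le_dim (hI : I ≤ Ideal.jacobson ⊥) (q : PrimeSpectrum A) (h : ¬ I ≤ q.asIdeal) :
    1 ≤ ringKrullDim (A ⧸ q.asIdeal) := by
  rw [ringKrullDim, Order.one_le_krullDim_iff]
  obtain ⟨M, hM⟩ := Ideal.exists_maximal (A ⧸ q.asIdeal)
  refine ⟨⟨⊥, Ideal.isPrime_bot⟩, ⟨M, hM.isPrime⟩, ?_⟩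
  rw [← PrimeSpectrum.asIdeal_lt_asIdeal]
  change (⊥ : Ideal _) < M
  rw [bot_lt_iff_ne_bot]
  rintro rfl
  apply h
  have hmax : (Ideal.comap (Ideal.Quotient.mk q.asIdeal) ⊥).IsMaximal :=
    Ideal.comap_isMaximal_of_surjective _ Ideal.Quotient.mk_surjective
  have : Ideal.comap (Ideal.Quotient.mk q.asIdeal) ⊥ = q.asIdeal := by
    rw [← RingHom.ker_eq_comap_bot, Ideal.mk_ker]
  rw [this] at hmax
  exact le_of_isMaximal hI _ hmax

theorem isRigClosed_of_dim (hI : I ≤ Ideal.jacobson ⊥) (q : PrimeSpectrum A)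
    (hdim : ringKrullDim (A ⧸ q.asIdeal) ≤ 1) (h : ¬ I ≤ q.asIdeal) : IsRigClosed A I q := by
  refine ⟨h, fun q' hqq' hI' => ?_⟩
  rw [ringKrullDim, Order.krullDim_le_one_iff] at hdim
  have hker : RingHom.ker (Ideal.Quotient.mk q.asIdeal) ≤ q'.asIdeal := by
    rw [Ideal.mk_ker]; exact hqq'
  have hprime : (q'.asIdeal.map (Ideal.Quotient.mk q.asIdeal)).IsPrime :=
    Ideal.map_isPrime_of_surjective Ideal.Quotient.mk_surjective hker
  have hcomap : (q'.asIdeal.map (Ideal.Quotient.mk q.asIdeal)).comap (Ideal.Quotient.mk q.asIdeal)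
      = q'.asIdeal := by
    rw [Ideal.comap_map_of_surjective _ Ideal.Quotient.mk_surjective, ← RingHom.ker_eq_comap_bot]
    exact sup_eq_left.mpr hker
  rcases hdim ⟨_, hprime⟩ with hmin | hmax
  · have hbot : q'.asIdeal.map (Ideal.Quotient.mk q.asIdeal) = ⊥ := by
      have := @hmin ⟨⊥, Ideal.isPrime_bot⟩ bot_le
      exact le_bot_iff.mp this
    rw [hbot, ← RingHom.ker_eq_comap_bot, Ideal.mk_ker] at hcomap
    exact PrimeSpectrum.ext hcomap.symm
  · exfalso
    apply hI'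
    obtain ⟨M, hM, hle⟩ := Ideal.exists_le_maximal _ hprime.ne_top
    have hM' := @hmax ⟨M, hM.isPrime⟩ hle
    have hMeq : M = q'.asIdeal.map (Ideal.Quotient.mk q.asIdeal) := le_antisymm hM' hle
    have hmax' : (M.comap (Ideal.Quotient.mk q.asIdeal)).IsMaximal :=
      Ideal.comap_isMaximal_of_surjective _ Ideal.Quotient.mk_surjective
    rw [hMeq, hcomap] at hmax'
    exact le_of_isMaximal hI _ hmax'

theorem isRigClosed_iff (hI : I ≤ Ideal.jacobson ⊥) (q : PrimeSpectrum A) :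
    IsRigClosed A I q ↔ ringKrullDim (A ⧸ q.asIdeal) = 1 ∧ ¬ I ≤ q.asIdeal :=
  ⟨fun h => ⟨le_antisymm (dim_le_one_of_isRigClosed hI q h) (one_le_dim hI q h.1), h.1⟩,
    fun h => isRigClosed_of_dim hI q h.1.le h.2⟩

/-- the domain `A/q` for `q` with `dim A/q ≤ 1`, `I ⊄ q`: every maximal ideal is `rad(I (A/q))`. -/
theorem eq_radical_of_isMaximal [IsAdicComplete I A] (q : PrimeSpectrum A)
    (hdim : ringKrullDim (A ⧸ q.asIdeal) ≤ 1) (h : ¬ I ≤ q.asIdeal)
    (m : Ideal (A ⧸ q.asIdeal)) (hm : m.IsMaximal) :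
    m = (I.map (Ideal.Quotient.mk q.asIdeal)).radical := by
  haveI := isAdicComplete_quotient A I q.asIdeal
  set J := I.map (Ideal.Quotient.mk q.asIdeal) with hJ
  have hJ0 : J ≠ ⊥ := by
    intro h0
    apply h
    rw [hJ, Ideal.map_eq_bot_iff_le_ker, Ideal.mk_ker] at h0
    exact h0
  have hmax : ∀ P : Ideal (A ⧸ q.asIdeal), P.IsPrime → J ≤ P → P.IsMaximal := by
    intro P hP hJP
    rw [ringKrullDim, Order.krullDim_le_one_iff] at hdim
    rcases hdim ⟨P, hP⟩ with hmin | hmax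
    · exfalso
      apply hJ0
      have := @hmin ⟨⊥, Ideal.isPrime_bot⟩ bot_le
      have hPbot : P = ⊥ := le_bot_iff.mp this
      rw [eq_bot_iff, ← hPbot]; exact hJP
    · obtain ⟨M, hM, hle⟩ := Ideal.exists_le_maximal _ hP.ne_top
      have hM' := @hmax ⟨M, hM.isPrime⟩ hle
      have : M = P := le_antisymm hM' hle
      exact this ▸ hM
  have hjac : J ≤ Ideal.jacobson ⊥ := IsAdicComplete.le_jacobson_bot J
  have hmin : J.minimalPrimes = {m} := by
    ext P
    simp only [Set.mem_singleton_iff]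
    constructor
    · intro hP
      exact isMaximal_unique J hmax P m (hmax P hP.isPrime hP.1.2) hm
    · rintro rfl
      haveI := hm.isPrime
      obtain ⟨P', hP', hP'm⟩ := Ideal.exists_minimalPrimes_le (le_of_isMaximal hjac P hm)
      have := isMaximal_unique J hmax P' P (hmax P' hP'.isPrime hP'.1.2) hm
      exact this ▸ hP'
  rw [← Ideal.sInf_minimalPrimes, hmin, sInf_singleton]

theorem isAdicComplete_radical {R : Type*} [CommRing R] [IsNoetherianRing R] (J : Ideal R)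
    [IsAdicComplete J R] : IsAdicComplete J.radical R := by
  obtain ⟨N, hN⟩ := Ideal.exists_radical_pow_le_of_fg J (IsNoetherian.noetherian _)
  exact Groth.Agent.H8.CT.isAdicComplete_of_le_of_pow_le J J.radical Ideal.le_radical N hN

theorem tfae (A : Type u) [CommRing A] [IsNoetherianRing A] (I : Ideal A) [IsAdicComplete I A]
    (q : PrimeSpectrum A) :
    List.TFAE [¬ I ≤ q.asIdeal ∧ ∀ q' : PrimeSpectrum A, q ≤ q' → ¬ I ≤ q'.asIdeal → q' = q,
      ringKrullDim (A ⧸ q.asIdeal) = 1 ∧ ¬ I ≤ q.asIdeal,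
      ringKrullDim (A ⧸ q.asIdeal) = 1 ∧
        (∀ m : Ideal (A ⧸ q.asIdeal), m.IsMaximal →
          m = (I.map (Ideal.Quotient.mk q.asIdeal)).radical) ∧
        IsAdicComplete (I.map (Ideal.Quotient.mk q.asIdeal)).radical (A ⧸ q.asIdeal)] := by
  have hI : I ≤ Ideal.jacobson ⊥ := IsAdicComplete.le_jacobson_bot I
  tfae_have 1 ↔ 2 := isRigClosed_iff hI q
  tfae_have 2 → 3 := by
    rintro ⟨hdim, h⟩
    haveI := isAdicComplete_quotient A I q.asIdeal
    exact ⟨hdim, eq_radical_of_isMaximal q hdim.le h, isAdicComplete_radical _⟩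
  tfae_have 3 → 2 := by
    rintro ⟨hdim, hm, -⟩
    refine ⟨hdim, fun hle => ?_⟩
    have hJ : I.map (Ideal.Quotient.mk q.asIdeal) = ⊥ := by
      rw [Ideal.map_eq_bot_iff_le_ker, Ideal.mk_ker]; exact hle
    obtain ⟨M, hM⟩ := Ideal.exists_maximal (A ⧸ q.asIdeal)
    have hM0 : M = ⊥ := by
      rw [hm M hM, hJ]
      exact (Ideal.radical_eq_iff.mpr (Ideal.isPrime_bot.isRadical))
    have hfield : IsField (A ⧸ q.asIdeal) := by
      rw [Ring.isField_iff_maximal_bot]
      exact hM0 ▸ hM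
    rw [ringKrullDim_eq_zero_of_isField hfield] at hdim
    exact zero_ne_one hdim
  tfae_finish

end Main

end Groth.Agent.H8.Rig
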