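import Mathlib
import Groth.Agent.Lib.Helper8.Rig.Basic
import Groth.Agent.Lib.Helper8.CTensor1
import Groth.Agent.S0543

set_option autoImplicit false
universe u

namespace Groth.Agent.H8.Rig

section LocQuot

variable {A : Type u} [CommRing A] (p : Ideal A) [hp : p.IsPrime] (f : A)
  (T : Type u) [CommRing T] [Algebra A T] [IsLocalization.Away f T]

/-- if `f` is a unit mod `p`, then `A/p → A_f / p A_f` is bijective. -/
theorem quotientMap_away_bijective (hf : IsUnit (Ideal.Quotient.mk p f)) :
    Function.Bijective (Ideal.quotientMap (p.map (algebraMap A T)) (algebraMap A T)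
      Ideal.le_comap_map) := by
  have hdisj : Disjoint ((Submonoid.powers f : Submonoid A) : Set A) (p : Set A) := by
    rw [Set.disjoint_left]
    rintro x ⟨n, rfl⟩ hx
    have hfp : f ∈ p := hp.mem_of_pow_mem n hx
    have : Ideal.Quotient.mk p f = 0 := Ideal.Quotient.eq_zero_iff_mem.mpr hfp
    rw [this] at hf
    haveI : Nontrivial (A ⧸ p) := Ideal.Quotient.nontrivial_iff.2 hp.ne_top
    exact not_isUnit_zero hf
  constructor
  · apply Ideal.quotientMap_injective'
    have := IsLocalization.under_map_of_isPrime_disjoint (Submonoid.powers f) T hp hdisj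
    exact this.le
  · intro y
    obtain ⟨t, rfl⟩ := Ideal.Quotient.mk_surjective y
    obtain ⟨⟨x, ⟨_, n, rfl⟩⟩, hx⟩ := IsLocalization.surj (Submonoid.powers f) t
    obtain ⟨g, hg⟩ := hf.exists_right_inv
    obtain ⟨g, rfl⟩ := Ideal.Quotient.mk_surjective g
    refine ⟨Ideal.Quotient.mk p (x * g ^ n), ?_⟩
    rw [Ideal.quotientMap_mk]
    simp only at hx
    have hfg : Ideal.Quotient.mk (p.map (algebraMap A T)) (algebraMap A T (f * g)) = 1 := by
      have h1 : f * g - 1 ∈ p := by
        rw [← Ideal.Quotient.eq, map_mul, map_one]; exact hg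
      rw [← map_one (Ideal.Quotient.mk (p.map (algebraMap A T))), ← map_one (algebraMap A T),
        Ideal.Quotient.eq, ← map_sub]
      exact Ideal.mem_map_of_mem _ h1
    calc Ideal.Quotient.mk (p.map (algebraMap A T)) (algebraMap A T (x * g ^ n))
        = Ideal.Quotient.mk _ (t * algebraMap A T (f ^ n) * algebraMap A T (g ^ n)) := by
          rw [map_mul (algebraMap A T), ← hx]
      _ = Ideal.Quotient.mk _ t * (Ideal.Quotient.mk _ (algebraMap A T (f * g))) ^ n := by
          rw [mul_assoc, ← map_mul (algebraMap A T), ← mul_pow, map_mul, map_pow (algebraMap A T),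
            map_pow]
      _ = Ideal.Quotient.mk _ t := by rw [hfg, one_pow, mul_one]

end LocQuot

section Main

variable (A : Type u) [CommRing A] [IsNoetherianRing A] (I : Ideal A) [IsAdicComplete I A]
  (p : Ideal A) [hp : p.IsPrime] (f : A)
  (T : Type u) [CommRing T] [Algebra A T] [IsLocalization.Away f T]

theorem isAdicComplete_quotient_away (hf : IsUnit (Ideal.Quotient.mk p f)) :
    IsAdicComplete ((I.map (algebraMap A T)).map (Ideal.Quotient.mk (p.map (algebraMap A T))))
      (T ⧸ p.map (algebraMap A T)) := by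
  have hbij := quotientMap_away_bijective p f T hf
  let φ : A ⧸ p →+* T ⧸ p.map (algebraMap A T) :=
    Ideal.quotientMap (p.map (algebraMap A T)) (algebraMap A T) Ideal.le_comap_map
  let Φ : A ⧸ p ≃+* T ⧸ p.map (algebraMap A T) := RingEquiv.ofBijective φ hbij
  have h1 : IsAdicComplete (I.map (Ideal.Quotient.mk p)) (A ⧸ p) := isAdicComplete_quotient A I p
  have h2 := (IsAdicComplete.congr_ringEquiv (I.map (Ideal.Quotient.mk p)) Φ).mpr h1
  have hcomp : φ.comp (Ideal.Quotient.mk p) =
      (Ideal.Quotient.mk (p.map (algebraMap A T))).comp (algebraMap A T) :=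
    Ideal.quotientMap_comp_mk _
  have h3 : (I.map (Ideal.Quotient.mk p)).map Φ =
      (I.map (algebraMap A T)).map (Ideal.Quotient.mk (p.map (algebraMap A T))) := by
    have : (I.map (Ideal.Quotient.mk p)).map Φ = (I.map (Ideal.Quotient.mk p)).map φ := rfl
    rw [this, Ideal.map_map, Ideal.map_map, hcomp]
  rwa [h3] at h2

/-- Stacks: for `f` a unit mod `p`, `p A_{f}` is prime with quotient `A/p`. -/
theorem isPrime_map_and_bijective (hf : IsUnit (Ideal.Quotient.mk p f)) :
    (p.map (algebraMap A (AdicCompletion (I.map (algebraMap A T)) T))).IsPrime ∧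
    Function.Bijective (Ideal.quotientMap
      (p.map (algebraMap A (AdicCompletion (I.map (algebraMap A T)) T)))
      (algebraMap A (AdicCompletion (I.map (algebraMap A T)) T)) Ideal.le_comap_map) := by
  haveI hT : IsNoetherianRing T := IsLocalization.isNoetherianRing (Submonoid.powers f) T inferInstance
  set J := I.map (algebraMap A T) with hJ
  set a := p.map (algebraMap A T) with ha
  haveI : IsNoetherianRing (AdicCompletion J T) := Groth.Agent.S0543.result T J
  haveI hc : IsAdicComplete (J.map (Ideal.Quotient.mk a)) (T ⧸ a) :=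
    isAdicComplete_quotient_away A I p f T hf
  have hJfg : J.FG := IsNoetherian.noetherian J
  let e := Groth.Agent.H8.CT.quotEquiv J a hJfg
  have hK : p.map (algebraMap A (AdicCompletion J T)) = a.map (algebraMap T (AdicCompletion J T)) := by
    rw [ha, Ideal.map_map, ← IsScalarTower.algebraMap_eq]
  have hbij0 := quotientMap_away_bijective p f T hf
  have hbij : Function.Bijective (Ideal.quotientMap
      (p.map (algebraMap A (AdicCompletion J T)))
      (algebraMap A (AdicCompletion J T)) Ideal.le_comap_map) := by
    let e' : (AdicCompletion J T ⧸ p.map (algebraMap A (AdicCompletion J T))) ≃+* T ⧸ a :=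
      (Ideal.quotEquivOfEq hK).trans e.toRingEquiv
    rw [← Function.Bijective.of_comp_iff' e'.bijective]
    convert hbij0 using 1
    funext x
    obtain ⟨x, rfl⟩ := Ideal.Quotient.mk_surjective x
    simp only [Function.comp_apply, Ideal.quotientMap_mk]
    change e (Ideal.quotEquivOfEq hK (Ideal.Quotient.mk _ (algebraMap A (AdicCompletion J T) x))) = _
    rw [Ideal.quotEquivOfEq_mk, IsScalarTower.algebraMap_apply A T (AdicCompletion J T)]
    exact e.commutes (algebraMap A T x)
  refine ⟨?_, hbij⟩
  rw [← Ideal.Quotient.isDomain_iff_prime]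
  exact MulEquiv.isDomain (A ⧸ p) (RingEquiv.ofBijective _ hbij).symm.toMulEquiv

end Main

end Groth.Agent.H8.Rig
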