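import Mathlib
import Groth.Agent.Lib.Helper8.Rig.ComplLoc

set_option autoImplicit false
universe u

namespace Groth.Agent.H8.Rig

section LocQuot

variable {A : Type u} [CommRing A] (a : Ideal A) (f : A)
  (T : Type u) [CommRing T] [Algebra A T] [IsLocalization.Away f T]

/-- if `f` is a unit mod `a`, then `A/a → A_f / a A_f` is bijective (any ideal `a`). -/
theorem quotientMap_away_bijective' (hf : IsUnit (Ideal.Quotient.mk a f)) :
    Function.Bijective (Ideal.quotientMap (a.map (algebraMap A T)) (algebraMap A T)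
      Ideal.le_comap_map) := by
  obtain ⟨g, hg⟩ := hf.exists_right_inv
  obtain ⟨g, rfl⟩ := Ideal.Quotient.mk_surjective g
  have h1 : f * g - 1 ∈ a := by
    rw [← Ideal.Quotient.eq, map_mul, map_one]; exact hg
  have hpow : ∀ n : ℕ, (f * g) ^ n - 1 ∈ a := by
    intro n
    rw [← Ideal.Quotient.eq, map_pow, map_mul, hg, one_pow, map_one]
  constructor
  · apply Ideal.quotientMap_injective'
    intro x hx
    rw [Ideal.mem_comap, IsLocalization.mem_map_algebraMap_iff (Submonoid.powers f) T] at hx
    obtain ⟨⟨c, ⟨_, k, rfl⟩⟩, hc⟩ := hx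
    simp only at hc
    rw [← map_mul] at hc
    obtain ⟨⟨_, l, rfl⟩, hl⟩ := (IsLocalization.eq_iff_exists (Submonoid.powers f) T).mp hc
    simp only at hl
    have h2 : f ^ (l + k) * x ∈ a := by
      have : f ^ (l + k) * x = f ^ l * (x * f ^ k) := by ring
      rw [this, hl]
      exact Ideal.mul_mem_left _ _ c.2
    have h3 : x = g ^ (l + k) * (f ^ (l + k) * x) - ((f * g) ^ (l + k) - 1) * x := by ring
    rw [h3]
    exact sub_mem (Ideal.mul_mem_left _ _ h2) (Ideal.mul_mem_right _ _ (hpow _))
  · intro y
    obtain ⟨t, rfl⟩ := Ideal.Quotient.mk_surjective y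
    obtain ⟨⟨x, ⟨_, n, rfl⟩⟩, hx⟩ := IsLocalization.surj (Submonoid.powers f) t
    refine ⟨Ideal.Quotient.mk a (x * g ^ n), ?_⟩
    rw [Ideal.quotientMap_mk]
    simp only at hx
    have hfg : Ideal.Quotient.mk (a.map (algebraMap A T)) (algebraMap A T (f * g)) = 1 := by
      rw [← map_one (Ideal.Quotient.mk (a.map (algebraMap A T))), ← map_one (algebraMap A T),
        Ideal.Quotient.eq, ← map_sub]
      exact Ideal.mem_map_of_mem _ h1
    calc Ideal.Quotient.mk (a.map (algebraMap A T)) (algebraMap A T (x * g ^ n))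
        = Ideal.Quotient.mk _ (t * algebraMap A T (f ^ n) * algebraMap A T (g ^ n)) := by
          rw [map_mul (algebraMap A T), ← hx]
      _ = Ideal.Quotient.mk _ t * (Ideal.Quotient.mk _ (algebraMap A T (f * g))) ^ n := by
          rw [mul_assoc, ← map_mul (algebraMap A T), ← mul_pow, map_mul, map_pow (algebraMap A T),
            map_pow]
      _ = Ideal.Quotient.mk _ t := by rw [hfg, one_pow, mul_one]

end LocQuot

section Main

variable (A : Type u) [CommRing A] [IsNoetherianRing A] (I : Ideal A) [IsAdicComplete I A]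
  (a : Ideal A) (f : A)
  (T : Type u) [CommRing T] [Algebra A T] [IsLocalization.Away f T]

theorem isAdicComplete_quotient_away' (hf : IsUnit (Ideal.Quotient.mk a f)) :
    IsAdicComplete ((I.map (algebraMap A T)).map (Ideal.Quotient.mk (a.map (algebraMap A T))))
      (T ⧸ a.map (algebraMap A T)) := by
  have hbij := quotientMap_away_bijective' a f T hf
  let φ : A ⧸ a →+* T ⧸ a.map (algebraMap A T) :=
    Ideal.quotientMap (a.map (algebraMap A T)) (algebraMap A T) Ideal.le_comap_map
  let Φ : A ⧸ a ≃+* T ⧸ a.map (algebraMap A T) := RingEquiv.ofBijective φ hbij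
  have h1 : IsAdicComplete (I.map (Ideal.Quotient.mk a)) (A ⧸ a) := isAdicComplete_quotient A I a
  have h2 := (IsAdicComplete.congr_ringEquiv (I.map (Ideal.Quotient.mk a)) Φ).mpr h1
  have hcomp : φ.comp (Ideal.Quotient.mk a) =
      (Ideal.Quotient.mk (a.map (algebraMap A T))).comp (algebraMap A T) :=
    Ideal.quotientMap_comp_mk _
  have h3 : (I.map (Ideal.Quotient.mk a)).map Φ =
      (I.map (algebraMap A T)).map (Ideal.Quotient.mk (a.map (algebraMap A T))) := by
    have : (I.map (Ideal.Quotient.mk a)).map Φ = (I.map (Ideal.Quotient.mk a)).map φ := rfl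
    rw [this, Ideal.map_map, Ideal.map_map, hcomp]
  rwa [h3] at h2

/-- for `f` a unit mod `a`, `A/a → A_{f}/a A_{f}` is bijective. -/
theorem quotientMap_completion_bijective (hf : IsUnit (Ideal.Quotient.mk a f)) :
    Function.Bijective (Ideal.quotientMap
      (a.map (algebraMap A (AdicCompletion (I.map (algebraMap A T)) T)))
      (algebraMap A (AdicCompletion (I.map (algebraMap A T)) T)) Ideal.le_comap_map) := by
  haveI hT : IsNoetherianRing T := IsLocalization.isNoetherianRing (Submonoid.powers f) T inferInstance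
  set J := I.map (algebraMap A T) with hJ
  set b := a.map (algebraMap A T) with hb
  haveI : IsNoetherianRing (AdicCompletion J T) := Groth.Agent.S0543.result T J
  haveI hc : IsAdicComplete (J.map (Ideal.Quotient.mk b)) (T ⧸ b) :=
    isAdicComplete_quotient_away' A I a f T hf
  have hJfg : J.FG := IsNoetherian.noetherian J
  let e := Groth.Agent.H8.CT.quotEquiv J b hJfg
  have hK : a.map (algebraMap A (AdicCompletion J T)) = b.map (algebraMap T (AdicCompletion J T)) := by
    rw [hb, Ideal.map_map, ← IsScalarTower.algebraMap_eq]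
  have hbij0 := quotientMap_away_bijective' a f T hf
  let e' : (AdicCompletion J T ⧸ a.map (algebraMap A (AdicCompletion J T))) ≃+* T ⧸ b :=
    (Ideal.quotEquivOfEq hK).trans e.toRingEquiv
  rw [← Function.Bijective.of_comp_iff' e'.bijective]
  convert hbij0 using 1
  funext x
  obtain ⟨x, rfl⟩ := Ideal.Quotient.mk_surjective x
  simp only [Function.comp_apply, Ideal.quotientMap_mk]
  change e (Ideal.quotEquivOfEq hK (Ideal.Quotient.mk _ (algebraMap A (AdicCompletion J T) x))) = _
  rw [Ideal.quotEquivOfEq_mk, IsScalarTower.algebraMap_apply A T (AdicCompletion J T)]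
  exact e.commutes (algebraMap A T x)

end Main

end Groth.Agent.H8.Rig
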