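import Mathlib
import Groth.Agent.Lib.Helper8.Rig.Basic
import Groth.Agent.Lib.Helper5.Car.CF2

set_option autoImplicit false
universe u

namespace Groth.Agent.H8.Rig

/-- complete Nakayama over a Noetherian base -/
theorem finite_of_finite_quotient {A : Type*} [CommRing A] [IsNoetherianRing A] (I : Ideal A)
    [IsPrecomplete I A] (M : Type*) [AddCommGroup M] [Module A M] [IsHausdorff I M]
    [Module.Finite A (M ⧸ (I • ⊤ : Submodule A M))] : Module.Finite A M := by
  haveI := Groth.Agent.H5.CF.finite_adicCompletion_of_finite_quotient I M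
  exact Module.Finite.of_injective (AdicCompletion.of I M) (AdicCompletion.of_injective I M)

/-- Zariski / Nullstellensatz: residue field of finite type over a Jacobson quotient is finite. -/
theorem finite_quotient_of_isJacobsonRing {A B : Type*} [CommRing A] [CommRing B] [Algebra A B]
    (m : Ideal B) [hm : m.IsMaximal] (n : Ideal A) (hn : n ≤ m.comap (algebraMap A B))
    [IsJacobsonRing (A ⧸ n)]
    [Algebra.FiniteType A (B ⧸ m)] : Module.Finite A (B ⧸ m) := by
  letI := Ideal.Quotient.field m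
  let f : A ⧸ n →+* B ⧸ m := Ideal.quotientMap m (algebraMap A B) hn
  have hcomp : f.comp (Ideal.Quotient.mk n) = algebraMap A (B ⧸ m) := by
    ext a; rfl
  have hft : (f.comp (Ideal.Quotient.mk n)).FiniteType := by
    rw [hcomp, RingHom.finiteType_algebraMap]; infer_instance
  have hf : f.Finite := RingHom.finite_iff_finiteType_of_isJacobsonRing.mpr
    (RingHom.FiniteType.of_comp_finiteType hft)
  have : (f.comp (Ideal.Quotient.mk n)).Finite :=
    hf.comp (RingHom.Finite.of_surjective _ Ideal.Quotient.mk_surjective)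
  rw [hcomp, RingHom.finite_algebraMap] at this
  exact this

section Generic

variable {A : Type u} [CommRing A] [IsNoetherianRing A] {I : Ideal A}

/-- primes of `A/q` containing the image of `I` are maximal when `dim A/q ≤ 1` and `I ⊄ q`. -/
theorem isMaximal_of_map_le (q : PrimeSpectrum A) (hdim : ringKrullDim (A ⧸ q.asIdeal) ≤ 1)
    (h : ¬ I ≤ q.asIdeal) (P : Ideal (A ⧸ q.asIdeal)) (hP : P.IsPrime)
    (hJP : I.map (Ideal.Quotient.mk q.asIdeal) ≤ P) : P.IsMaximal := by
  have hJ0 : I.map (Ideal.Quotient.mk q.asIdeal) ≠ ⊥ := by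
    intro h0
    apply h
    rw [Ideal.map_eq_bot_iff_le_ker, Ideal.mk_ker] at h0
    exact h0
  rw [ringKrullDim, Order.krullDim_le_one_iff] at hdim
  rcases hdim ⟨P, hP⟩ with hmin | hmax
  · exfalso
    apply hJ0
    have := @hmin ⟨⊥, Ideal.isPrime_bot⟩ bot_le
    have hPbot : P = ⊥ := le_bot_iff.mp this
    rw [eq_bot_iff, ← hPbot]; exact hJP
  · obtain ⟨M, hM, hle⟩ := Ideal.exists_le_maximal _ hP.ne_top
    have hM' := @hmax ⟨M, hM.isPrime⟩ hle
    have : M = P := le_antisymm hM' hle
    exact this ▸ hM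

/-- primes of `A` containing a rig-closed `p` and `I` are maximal. -/
theorem isMaximal_of_isRigClosed_of_le (hI : I ≤ Ideal.jacobson ⊥) (p : PrimeSpectrum A)
    (hp : IsRigClosed A I p) (n : Ideal A) [hn : n.IsPrime] (hpn : p.asIdeal ≤ n) (hIn : I ≤ n) :
    n.IsMaximal := by
  have hdim := dim_le_one_of_isRigClosed hI p hp
  have hker : RingHom.ker (Ideal.Quotient.mk p.asIdeal) ≤ n := by
    rw [Ideal.mk_ker]; exact hpn
  have hprime : (n.map (Ideal.Quotient.mk p.asIdeal)).IsPrime :=
    Ideal.map_isPrime_of_surjective Ideal.Quotient.mk_surjective hker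
  have hcomap : (n.map (Ideal.Quotient.mk p.asIdeal)).comap (Ideal.Quotient.mk p.asIdeal) = n := by
    rw [Ideal.comap_map_of_surjective _ Ideal.Quotient.mk_surjective, ← RingHom.ker_eq_comap_bot]
    exact sup_eq_left.mpr hker
  have hmax := isMaximal_of_map_le p hdim hp.1 _ hprime (Ideal.map_mono hIn)
  have := Ideal.comap_isMaximal_of_surjective (Ideal.Quotient.mk p.asIdeal)
    Ideal.Quotient.mk_surjective (K := n.map (Ideal.Quotient.mk p.asIdeal))
  rwa [hcomap] at this

end Generic

section Main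

variable (A : Type u) [CommRing A] [IsNoetherianRing A] (I : Ideal A)
  (B : Type u) [CommRing B] [Algebra A B] [IsNoetherianRing B]

/-- (3) ⟹ (2) -/
theorem isRigClosed_comap_of_finite (q : PrimeSpectrum B)
    (hq : IsRigClosed B (I.map (algebraMap A B)) q)
    (h3 : Module.Finite A (B ⧸ q.asIdeal)) :
    IsRigClosed A I (PrimeSpectrum.comap (algebraMap A B) q) := by
  have hIq : ¬ I ≤ (PrimeSpectrum.comap (algebraMap A B) q).asIdeal := by
    intro hle
    apply hq.1
    rw [Ideal.map_le_iff_le_comap]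
    exact hle
  refine ⟨hIq, fun p' hpp' hIp' => ?_⟩
  haveI : Algebra.IsIntegral A (B ⧸ q.asIdeal) := Algebra.IsIntegral.of_finite A _
  have hker : RingHom.ker (algebraMap A (B ⧸ q.asIdeal)) ≤ p'.asIdeal := by
    intro a ha
    apply hpp'
    change algebraMap A B a ∈ q.asIdeal
    rw [RingHom.mem_ker, IsScalarTower.algebraMap_apply A B (B ⧸ q.asIdeal),
      Ideal.Quotient.algebraMap_eq, Ideal.Quotient.eq_zero_iff_mem] at ha
    exact ha
  obtain ⟨Q, hQprime, hQ⟩ :=
    Ideal.exists_ideal_over_prime_of_isIntegral_of_isDomain (S := B ⧸ q.asIdeal) p'.asIdeal hker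
  set q' : PrimeSpectrum B := ⟨Q.comap (Ideal.Quotient.mk q.asIdeal), inferInstance⟩ with hq'
  have hle : q ≤ q' := by
    intro x hx
    change Ideal.Quotient.mk q.asIdeal x ∈ Q
    rw [Ideal.Quotient.eq_zero_iff_mem.mpr hx]
    exact zero_mem _
  have hq'A : (PrimeSpectrum.comap (algebraMap A B) q') = p' := by
    apply PrimeSpectrum.ext
    rw [← hQ]
    rfl
  have hI' : ¬ (I.map (algebraMap A B)) ≤ q'.asIdeal := by
    intro hle'
    apply hIp'
    rw [Ideal.map_le_iff_le_comap] at hle'
    rw [← hq'A]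
    exact hle'
  have := hq.2 q' hle hI'
  rw [← hq'A, this]

variable [IsAdicComplete I A] [IsAdicComplete (I.map (algebraMap A B)) B]

/-- (1) ⟹ (3) -/
theorem finite_quotient_of_finite_residue (q : PrimeSpectrum B)
    (hq : IsRigClosed B (I.map (algebraMap A B)) q)
    (h1 : ∀ m : Ideal B, m.IsMaximal → q.asIdeal ≤ m → Module.Finite A (B ⧸ m)) :
    Module.Finite A (B ⧸ q.asIdeal) := by
  have hjac : I.map (algebraMap A B) ≤ Ideal.jacobson ⊥ := IsAdicComplete.le_jacobson_bot _
  have hdim := dim_le_one_of_isRigClosed hjac q hq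
  set J : Ideal (B ⧸ q.asIdeal) := (I.map (algebraMap A B)).map (Ideal.Quotient.mk q.asIdeal) with hJ
  haveI hcJ : IsAdicComplete J (B ⧸ q.asIdeal) := isAdicComplete_quotient B _ q.asIdeal
  have hJeq : J = I.map (algebraMap A (B ⧸ q.asIdeal)) := by
    rw [hJ, Ideal.map_map]; rfl
  haveI hcI : IsAdicComplete I (B ⧸ q.asIdeal) := by
    rw [hJeq] at hcJ
    exact (IsAdicComplete.map_algebraMap_iff (S := B ⧸ q.asIdeal) I (B ⧸ q.asIdeal)).mp hcJ
  -- the maximal ideal
  obtain ⟨M, hM⟩ := Ideal.exists_maximal (B ⧸ q.asIdeal)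
  have hMuniq : ∀ N : Ideal (B ⧸ q.asIdeal), N.IsMaximal → N = M := by
    intro N hN
    rw [eq_radical_of_isMaximal q hdim hq.1 N hN, eq_radical_of_isMaximal q hdim hq.1 M hM]
  set m : Ideal B := M.comap (Ideal.Quotient.mk q.asIdeal) with hm
  have hmmax : m.IsMaximal := Ideal.comap_isMaximal_of_surjective _ Ideal.Quotient.mk_surjective
  have hqm : q.asIdeal ≤ m := by
    intro x hx
    change Ideal.Quotient.mk q.asIdeal x ∈ M
    rw [Ideal.Quotient.eq_zero_iff_mem.mpr hx]
    exact zero_mem _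
  haveI hfin_m : Module.Finite A (B ⧸ m) := h1 m hmmax hqm
  -- D/J is Artinian
  haveI hart : IsArtinianRing ((B ⧸ q.asIdeal) ⧸ J) := by
    rw [isArtinianRing_iff_isNoetherianRing_krullDimLE_zero]
    refine ⟨inferInstance, ?_⟩
    rw [Ring.krullDimLE_zero_iff]
    intro P hP
    have hker : RingHom.ker (Ideal.Quotient.mk J) ≤ P.comap (Ideal.Quotient.mk J) := by
      intro x hx
      change Ideal.Quotient.mk J x ∈ P
      rw [RingHom.mem_ker.mp hx]; exact zero_mem _
    have hmax : (P.comap (Ideal.Quotient.mk J)).IsMaximal := by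
      apply isMaximal_of_map_le q hdim hq.1 _ (Ideal.comap_isPrime _ P)
      rw [← hJ]
      rw [Ideal.mk_ker] at hker
      exact hker
    haveI := hmax
    have := Ideal.IsMaximal.map_of_surjective_of_ker_le (Ideal.Quotient.mk_surjective (I := J))
      hker
    rwa [Ideal.map_comap_of_surjective _ Ideal.Quotient.mk_surjective] at this
  -- residue ring finite over A
  haveI : Module.Finite A (((B ⧸ q.asIdeal) ⧸ J) ⧸ Ring.jacobson ((B ⧸ q.asIdeal) ⧸ J)) := by
    let f : B →ₐ[A] (((B ⧸ q.asIdeal) ⧸ J) ⧸ Ring.jacobson ((B ⧸ q.asIdeal) ⧸ J)) :=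
      ((Ideal.Quotient.mkₐ A _).comp (Ideal.Quotient.mkₐ A J)).comp (Ideal.Quotient.mkₐ A q.asIdeal)
    have hf : ∀ a ∈ m, f a = 0 := by
      intro a ha
      change Ideal.Quotient.mk _ (Ideal.Quotient.mk J (Ideal.Quotient.mk q.asIdeal a)) = 0
      rw [Ideal.Quotient.eq_zero_iff_mem, ← Ideal.jacobson_bot, Ideal.jacobson, Ideal.mem_sInf]
      rintro N ⟨-, hN⟩
      have hN' : (N.comap (Ideal.Quotient.mk J)).IsMaximal :=
        Ideal.comap_isMaximal_of_surjective _ Ideal.Quotient.mk_surjective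
      have := hMuniq _ hN'
      change Ideal.Quotient.mk q.asIdeal a ∈ N.comap (Ideal.Quotient.mk J)
      rw [this]
      exact ha
    let g : (B ⧸ m) →ₐ[A] _ := Ideal.Quotient.liftₐ m f hf
    have hg : Function.Surjective g := by
      intro y
      obtain ⟨y', rfl⟩ := Ideal.Quotient.mk_surjective y
      obtain ⟨y'', rfl⟩ := Ideal.Quotient.mk_surjective y'
      obtain ⟨a, rfl⟩ := Ideal.Quotient.mk_surjective y''
      exact ⟨Ideal.Quotient.mk _ a, rfl⟩
    exact Module.Finite.of_surjective g.toLinearMap hg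
  haveI hfinJ : Module.Finite A ((B ⧸ q.asIdeal) ⧸ J) :=
    IsSemiprimaryRing.finite_of_isArtinian A ((B ⧸ q.asIdeal) ⧸ J) ((B ⧸ q.asIdeal) ⧸ J)
  -- transfer to the module quotient
  have hsub : (I • ⊤ : Submodule A (B ⧸ q.asIdeal)) = J.restrictScalars A := by
    rw [hJeq, Ideal.smul_top_eq_map]
  haveI : Module.Finite A ((B ⧸ q.asIdeal) ⧸ (I • ⊤ : Submodule A (B ⧸ q.asIdeal))) := by
    rw [hsub]
    exact Module.Finite.equiv (Submodule.Quotient.restrictScalarsEquiv A J).symm
  exact finite_of_finite_quotient I (B ⧸ q.asIdeal)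

theorem finiteType_quotient_of_le
    (hft : Algebra.FiniteType A (B ⧸ (I.map (algebraMap A B)))) (m : Ideal B)
    (hle : I.map (algebraMap A B) ≤ m) : Algebra.FiniteType A (B ⧸ m) :=
  Algebra.FiniteType.of_surjective (Ideal.Quotient.factorₐ A hle)
    (Ideal.Quotient.factor_surjective hle)

/-- (2) ⟹ (1) -/
theorem finite_residue_of_isRigClosed_comap
    (hft : Algebra.FiniteType A (B ⧸ (I.map (algebraMap A B))))
    (q : PrimeSpectrum B) (hp : IsRigClosed A I (PrimeSpectrum.comap (algebraMap A B) q))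
    (m : Ideal B) (hm : m.IsMaximal) (hqm : q.asIdeal ≤ m) : Module.Finite A (B ⧸ m) := by
  have hjacB : I.map (algebraMap A B) ≤ Ideal.jacobson ⊥ := IsAdicComplete.le_jacobson_bot _
  have hjacA : I ≤ Ideal.jacobson ⊥ := IsAdicComplete.le_jacobson_bot _
  have hIm : I.map (algebraMap A B) ≤ m := le_of_isMaximal hjacB m hm
  haveI := hm.isPrime
  have hn : (m.comap (algebraMap A B)).IsMaximal := by
    apply isMaximal_of_isRigClosed_of_le hjacA _ hp
    · exact Ideal.comap_mono hqm
    · rw [← Ideal.map_le_iff_le_comap]; exact hIm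
  letI := Ideal.Quotient.field (m.comap (algebraMap A B))
  haveI := finiteType_quotient_of_le A I B hft m hIm
  exact finite_quotient_of_isJacobsonRing m (m.comap (algebraMap A B)) le_rfl

/-- Stacks: TFAE for a rig-closed prime of `B` and its contraction to `A`. -/
theorem tfae_comap (hft : Algebra.FiniteType A (B ⧸ (I.map (algebraMap A B))))
    (q : PrimeSpectrum B) (hq : IsRigClosed B (I.map (algebraMap A B)) q) :
    List.TFAE [∀ m : Ideal B, m.IsMaximal → q.asIdeal ≤ m → Module.Finite A (B ⧸ m),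
      IsRigClosed A I (PrimeSpectrum.comap (algebraMap A B) q),
      Module.Finite A (B ⧸ q.asIdeal)] := by
  tfae_have 1 → 3 := finite_quotient_of_finite_residue A I B q hq
  tfae_have 3 → 2 := isRigClosed_comap_of_finite A I B q hq
  tfae_have 2 → 1 := fun hp m hm hqm =>
    finite_residue_of_isRigClosed_comap A I B hft q hp m hm hqm
  tfae_finish

/-- if `A/I` is Jacobson, contractions of rig-closed primes are rig-closed. -/
theorem isRigClosed_comap_of_isJacobsonRing
    (hft : Algebra.FiniteType A (B ⧸ (I.map (algebraMap A B))))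
    (q : PrimeSpectrum B) (hq : IsRigClosed B (I.map (algebraMap A B)) q)
    (hJ : IsJacobsonRing (A ⧸ I)) :
    IsRigClosed A I (PrimeSpectrum.comap (algebraMap A B) q) := by
  have h := (tfae_comap A I B hft q hq).out 0 1
  rw [← h]
  intro m hm hqm
  have hjacB : I.map (algebraMap A B) ≤ Ideal.jacobson ⊥ := IsAdicComplete.le_jacobson_bot _
  have hIm : I.map (algebraMap A B) ≤ m := le_of_isMaximal hjacB m hm
  have hIn : I ≤ m.comap (algebraMap A B) := by
    rw [← Ideal.map_le_iff_le_comap]; exact hIm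
  haveI : IsJacobsonRing (A ⧸ m.comap (algebraMap A B)) :=
    isJacobsonRing_of_surjective ⟨Ideal.Quotient.factor hIn, Ideal.Quotient.factor_surjective hIn⟩
  haveI := finiteType_quotient_of_le A I B hft m hIm
  exact finite_quotient_of_isJacobsonRing m (m.comap (algebraMap A B)) le_rfl

end Main

end Groth.Agent.H8.Rig
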