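import Mathlib

set_option autoImplicit false
universe u

namespace Groth.Agent.H8.Rig

/-- Artin–Tate / Zariski: a field of finite type over a ring `R` is integral over `R[1/f]` for a
suitable `f` not in the kernel; stated without localizations. -/
theorem exists_pow_mul_isIntegral (R K : Type*) [CommRing R] [Field K] [Algebra R K]
    [hft : Algebra.FiniteType R K] :
    ∃ f : R, algebraMap R K f ≠ 0 ∧ ∀ x : K, ∃ n : ℕ, IsIntegral R (algebraMap R K f ^ n * x) := by
  classical
  set P := RingHom.ker (algebraMap R K) with hP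
  haveI hPprime : P.IsPrime := RingHom.ker_isPrime _
  letI alg0 : Algebra (R ⧸ P) K := (RingHom.kerLift (algebraMap R K)).toAlgebra
  haveI tower : IsScalarTower R (R ⧸ P) K := IsScalarTower.of_algebraMap_eq (fun _ => rfl)
  have hinj : Function.Injective (algebraMap (R ⧸ P) K) := RingHom.kerLift_injective _
  haveI : FaithfulSMul (R ⧸ P) K := (faithfulSMul_iff_algebraMap_injective _ _).mpr hinj
  haveI : Algebra.FiniteType (R ⧸ P) K := Algebra.FiniteType.of_restrictScalars_finiteType R _ K
  letI := FractionRing.liftAlgebra (R ⧸ P) K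
  haveI : Algebra.FiniteType (FractionRing (R ⧸ P)) K :=
    Algebra.FiniteType.of_restrictScalars_finiteType (R ⧸ P) _ K
  haveI : Module.Finite (FractionRing (R ⧸ P)) K := finite_of_finite_type_of_isJacobsonRing _ K
  haveI : Algebra.IsAlgebraic (FractionRing (R ⧸ P)) K := Algebra.IsAlgebraic.of_finite _ K
  haveI : Algebra.IsAlgebraic (R ⧸ P) K :=
    (IsFractionRing.comap_isAlgebraic_iff (A := R ⧸ P) (K := FractionRing (R ⧸ P))).mpr ‹_›
  obtain ⟨s, hs⟩ := hft.out
  obtain ⟨y, hy0, hy⟩ := Algebra.IsAlgebraic.exists_integral_multiples (R ⧸ P) (A := K) s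
  obtain ⟨f, rfl⟩ := Ideal.Quotient.mk_surjective y
  have hfK : algebraMap R K f ≠ 0 := by
    intro h
    apply hy0
    apply hinj
    rw [map_zero]
    exact h
  haveI : Algebra.IsIntegral R (R ⧸ P) :=
    Algebra.isIntegral_of_surjective Ideal.Quotient.mk_surjective
  refine ⟨f, hfK, fun x => ?_⟩
  have hx : x ∈ Algebra.adjoin R (s : Set K) := by rw [hs]; trivial
  induction hx using Algebra.adjoin_induction with
  | mem z hz =>
    refine ⟨1, ?_⟩
    have h1 : IsIntegral (R ⧸ P) ((Ideal.Quotient.mk P f) • z) := hy z hz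
    have h2 : (Ideal.Quotient.mk P f) • z = algebraMap R K f ^ 1 * z := by
      rw [Algebra.smul_def, pow_one]; rfl
    rw [← h2]
    exact isIntegral_trans _ h1
  | algebraMap r => exact ⟨0, by rw [pow_zero, one_mul]; exact isIntegral_algebraMap⟩
  | add a b _ _ ha hb =>
    obtain ⟨n, hn⟩ := ha
    obtain ⟨m, hm⟩ := hb
    refine ⟨n + m, ?_⟩
    have : algebraMap R K f ^ (n + m) * (a + b) =
        algebraMap R K (f ^ m) * (algebraMap R K f ^ n * a) +
        algebraMap R K (f ^ n) * (algebraMap R K f ^ m * b) := by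
      rw [map_pow, map_pow]; ring
    rw [this]
    exact (isIntegral_algebraMap.mul hn).add (isIntegral_algebraMap.mul hm)
  | mul a b _ _ ha hb =>
    obtain ⟨n, hn⟩ := ha
    obtain ⟨m, hm⟩ := hb
    refine ⟨n + m, ?_⟩
    have : algebraMap R K f ^ (n + m) * (a * b) =
        (algebraMap R K f ^ n * a) * (algebraMap R K f ^ m * b) := by ring
    rw [this]
    exact hn.mul hm

end Groth.Agent.H8.Rig
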