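import Mathlib
import Groth.Agent.Lib.Helper8.Rig.Finite
import Groth.Agent.Lib.Helper8.Rig.Zar
import Groth.Agent.Lib.Helper8.Rig.ComplLoc2

set_option autoImplicit false
universe u

open Polynomial

namespace Groth.Agent.H8.Rig

section Abstract

variable (A : Type u) [CommRing A] [IsNoetherianRing A] (I : Ideal A)
  (B : Type u) [CommRing B] [Algebra A B] [IsNoetherianRing B]
  [IsAdicComplete (I.map (algebraMap A B)) B]

theorem isRigClosed_comap_of_integral
    (hft : Algebra.FiniteType A (B ⧸ I.map (algebraMap A B)))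
    (q : PrimeSpectrum B) (hq : IsRigClosed B (I.map (algebraMap A B)) q)
    (f : A)
    (hint : ∀ m' : Ideal B, m'.IsMaximal → q.asIdeal ≤ m' → ∀ x : B, ∃ n : ℕ,
      IsIntegral A (Ideal.Quotient.mk m' (algebraMap A B f ^ n * x)))
    (A₁ B₁ : Type u) [CommRing A₁] [CommRing B₁] [IsNoetherianRing A₁] [IsNoetherianRing B₁]
    (α : A →+* A₁) (β : B →+* B₁) (ψ : A₁ →+* B₁) (hcomm : ψ.comp α = β.comp (algebraMap A B))
    [IsAdicComplete (I.map α) A₁] [hcB : IsAdicComplete ((I.map (algebraMap A B)).map β) B₁]
    (hf : IsUnit (α f))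
    (hprime : (q.asIdeal.map β).IsPrime)
    (hbij : Function.Bijective (Ideal.quotientMap (q.asIdeal.map β) β Ideal.le_comap_map)) :
    ((q.asIdeal.map β).comap ψ).IsPrime ∧ ¬ I.map α ≤ (q.asIdeal.map β).comap ψ ∧
      ∀ y : PrimeSpectrum A₁, (q.asIdeal.map β).comap ψ ≤ y.asIdeal → ¬ I.map α ≤ y.asIdeal →
        y.asIdeal = (q.asIdeal.map β).comap ψ := by
  letI algψ : Algebra A₁ B₁ := ψ.toAlgebra
  have hjacB : I.map (algebraMap A B) ≤ Ideal.jacobson ⊥ := IsAdicComplete.le_jacobson_bot _
  have hJ : (I.map α).map (algebraMap A₁ B₁) = (I.map (algebraMap A B)).map β := by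
    change (I.map α).map ψ = _
    rw [Ideal.map_map, Ideal.map_map, hcomm]
  haveI hc₁ : IsAdicComplete ((I.map α).map (algebraMap A₁ B₁)) B₁ := by rw [hJ]; exact hcB
  have hjacB₁ : (I.map α).map (algebraMap A₁ B₁) ≤ Ideal.jacobson ⊥ :=
    IsAdicComplete.le_jacobson_bot _
  set q₁ : PrimeSpectrum B₁ := ⟨q.asIdeal.map β, hprime⟩ with hq₁def
  have hq₁ : IsRigClosed B₁ ((I.map α).map (algebraMap A₁ B₁)) q₁ := by
    rw [isRigClosed_iff hjacB₁]
    constructor
    · have h1 := ((isRigClosed_iff hjacB q).mp hq).1
      rw [← h1]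
      exact (ringKrullDim_eq_of_ringEquiv (RingEquiv.ofBijective _ hbij)).symm
    · intro h
      apply hq.1
      rw [Ideal.map_le_iff_le_comap]
      intro i hi
      have h2 : β (algebraMap A B i) ∈ q.asIdeal.map β := by
        apply h
        rw [hJ]
        exact Ideal.mem_map_of_mem _ (Ideal.mem_map_of_mem _ hi)
      have h3 : Ideal.quotientMap (q.asIdeal.map β) β Ideal.le_comap_map
          (Ideal.Quotient.mk q.asIdeal (algebraMap A B i)) = 0 := by
        rw [Ideal.quotientMap_mk, Ideal.Quotient.eq_zero_iff_mem]; exact h2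
      have h4 := hbij.1 (h3.trans (map_zero _).symm)
      exact Ideal.mem_comap.mpr (Ideal.Quotient.eq_zero_iff_mem.mp h4)
  have h1 : ∀ m : Ideal B₁, m.IsMaximal → q₁.asIdeal ≤ m → Module.Finite A₁ (B₁ ⧸ m) := by
    intro m hm hqm
    letI := Ideal.Quotient.field m
    have hsurj : Function.Surjective ((Ideal.Quotient.mk m).comp β) := by
      intro y
      obtain ⟨b₁, rfl⟩ := Ideal.Quotient.mk_surjective y
      obtain ⟨x, hx⟩ := hbij.2 (Ideal.Quotient.mk (q.asIdeal.map β) b₁)
      obtain ⟨x, rfl⟩ := Ideal.Quotient.mk_surjective x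
      rw [Ideal.quotientMap_mk, Ideal.Quotient.eq] at hx
      refine ⟨x, ?_⟩
      rw [RingHom.comp_apply, Ideal.Quotient.eq]
      exact hqm hx
    have hm'max : (m.comap β).IsMaximal := by
      have := RingHom.ker_isMaximal_of_surjective ((Ideal.Quotient.mk m).comp β) hsurj
      rwa [← RingHom.comap_ker, Ideal.mk_ker] at this
    have hqm' : q.asIdeal ≤ m.comap β := fun x hx => hqm (Ideal.mem_map_of_mem _ hx)
    have hIm' : I.map (algebraMap A B) ≤ m.comap β := le_of_isMaximal hjacB _ hm'max
    let θ : B ⧸ m.comap β →+* B₁ ⧸ m := Ideal.quotientMap m β le_rfl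
    have hθcomp : θ.comp (algebraMap A (B ⧸ m.comap β)) = (algebraMap A₁ (B₁ ⧸ m)).comp α := by
      ext a
      change Ideal.Quotient.mk m (β (algebraMap A B a)) = Ideal.Quotient.mk m (ψ (α a))
      have := congrArg (fun g => g a) hcomm
      simp only [RingHom.comp_apply] at this
      rw [this]
    have hθsurj : Function.Surjective θ := by
      intro y
      obtain ⟨x, rfl⟩ := hsurj y
      exact ⟨Ideal.Quotient.mk _ x, rfl⟩
    -- finite type
    haveI hft' : Algebra.FiniteType A (B ⧸ m.comap β) :=
      Algebra.FiniteType.of_surjective (Ideal.Quotient.factorₐ A hIm')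
        (Ideal.Quotient.factor_surjective hIm')
    have hft₁ : ((algebraMap A₁ (B₁ ⧸ m)).comp α).FiniteType := by
      rw [← hθcomp]
      exact (RingHom.FiniteType.of_surjective θ hθsurj).comp
        (RingHom.finiteType_algebraMap.mpr hft')
    haveI : Algebra.FiniteType A₁ (B₁ ⧸ m) :=
      RingHom.finiteType_algebraMap.mp (RingHom.FiniteType.of_comp_finiteType hft₁)
    -- integral
    obtain ⟨u, hu⟩ := hf.exists_right_inv
    haveI : Algebra.IsIntegral A₁ (B₁ ⧸ m) := by
      constructor
      intro y
      obtain ⟨x, rfl⟩ := hsurj y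
      obtain ⟨n, p, hpmonic, hp⟩ := hint _ hm'max hqm' x
      have h2 : IsIntegral A₁ (θ (Ideal.Quotient.mk (m.comap β) (algebraMap A B f ^ n * x))) := by
        refine ⟨p.map α, hpmonic.map α, ?_⟩
        rw [Polynomial.eval₂_map, ← hθcomp, ← Polynomial.hom_eval₂, hp, map_zero]
      have h3 : θ (Ideal.Quotient.mk (m.comap β) (algebraMap A B f ^ n * x)) =
          algebraMap A₁ (B₁ ⧸ m) (α f ^ n) * (Ideal.Quotient.mk m).comp β x := by
        change Ideal.Quotient.mk m (β (algebraMap A B f ^ n * x)) =
          Ideal.Quotient.mk m (ψ (α f ^ n)) * Ideal.Quotient.mk m (β x)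
        have := congrArg (fun g => g f) hcomm
        simp only [RingHom.comp_apply] at this
        rw [map_mul, map_pow, map_mul, map_pow ψ, this, map_pow]
      have h4 : (Ideal.Quotient.mk m).comp β x =
          algebraMap A₁ (B₁ ⧸ m) (u ^ n) *
            θ (Ideal.Quotient.mk (m.comap β) (algebraMap A B f ^ n * x)) := by
        rw [h3, ← mul_assoc, ← map_mul, ← mul_pow, mul_comm u, hu, one_pow, map_one, one_mul]
      rw [h4]
      exact isIntegral_algebraMap.mul h2
    exact Algebra.IsIntegral.finite
  have hfin := finite_quotient_of_finite_residue A₁ (I.map α) B₁ q₁ hq₁ h1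
  have hrig := isRigClosed_comap_of_finite A₁ (I.map α) B₁ q₁ hq₁ hfin
  refine ⟨(PrimeSpectrum.comap (algebraMap A₁ B₁) q₁).2, hrig.1, fun y hy hIy => ?_⟩
  have := hrig.2 y hy hIy
  rw [this]
  rfl

end Abstract

section Concrete

variable (A : Type u) [CommRing A] [IsNoetherianRing A] (I : Ideal A) [IsAdicComplete I A]
  (B : Type u) [CommRing B] [Algebra A B] [IsNoetherianRing B]
  [IsAdicComplete (I.map (algebraMap A B)) B]

omit [IsNoetherianRing A] [IsAdicComplete I A] in
/-- uniqueness of the maximal ideal over a rig-closed prime -/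
theorem isMaximal_unique_of_isRigClosed (q : PrimeSpectrum B)
    (hq : IsRigClosed B (I.map (algebraMap A B)) q) (m₁ m₂ : Ideal B) (h₁ : m₁.IsMaximal)
    (h₂ : m₂.IsMaximal) (hq₁ : q.asIdeal ≤ m₁) (hq₂ : q.asIdeal ≤ m₂) : m₁ = m₂ := by
  have hjacB : I.map (algebraMap A B) ≤ Ideal.jacobson ⊥ := IsAdicComplete.le_jacobson_bot _
  have hdim := dim_le_one_of_isRigClosed hjacB q hq
  have key : ∀ m : Ideal B, m.IsMaximal → q.asIdeal ≤ m →
      m = ((I.map (algebraMap A B)).map (Ideal.Quotient.mk q.asIdeal)).radical.comap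
        (Ideal.Quotient.mk q.asIdeal) := by
    intro m hm hqm
    have hker : RingHom.ker (Ideal.Quotient.mk q.asIdeal) ≤ m := by rw [Ideal.mk_ker]; exact hqm
    haveI := hm
    have hmax : (m.map (Ideal.Quotient.mk q.asIdeal)).IsMaximal :=
      Ideal.IsMaximal.map_of_surjective_of_ker_le Ideal.Quotient.mk_surjective hker
    rw [← eq_radical_of_isMaximal q hdim hq.1 _ hmax,
      Ideal.comap_map_of_surjective _ Ideal.Quotient.mk_surjective, ← RingHom.ker_eq_comap_bot]
    exact (sup_eq_left.mpr hker).symm
  rw [key m₁ h₁ hq₁, key m₂ h₂ hq₂]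

omit [IsNoetherianRing A] [IsAdicComplete I A] in
theorem isUnit_mk_of_notMem (q : PrimeSpectrum B)
    (hq : IsRigClosed B (I.map (algebraMap A B)) q) (m₀ : Ideal B) (h₀ : m₀.IsMaximal)
    (hq₀ : q.asIdeal ≤ m₀) (b : B) (hb : b ∉ m₀) : IsUnit (Ideal.Quotient.mk q.asIdeal b) := by
  by_contra hnu
  obtain ⟨M, hM, hbM⟩ := exists_max_ideal_of_mem_nonunits hnu
  have hM' : (M.comap (Ideal.Quotient.mk q.asIdeal)).IsMaximal :=
    Ideal.comap_isMaximal_of_surjective _ Ideal.Quotient.mk_surjective
  have hqM : q.asIdeal ≤ M.comap (Ideal.Quotient.mk q.asIdeal) := by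
    intro x hx
    change Ideal.Quotient.mk q.asIdeal x ∈ M
    rw [Ideal.Quotient.eq_zero_iff_mem.mpr hx]; exact zero_mem _
  have := isMaximal_unique_of_isRigClosed A I B q hq _ _ hM' h₀ hqM hq₀
  apply hb
  rw [← this]
  exact hbM

omit [IsAdicComplete I A] in
theorem isAdicComplete_map_completion (f : A) :
    IsAdicComplete (I.map (algebraMap A
      (AdicCompletion (I.map (algebraMap A (Localization.Away f))) (Localization.Away f))))
      (AdicCompletion (I.map (algebraMap A (Localization.Away f))) (Localization.Away f)) := by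
  have hJfg : (I.map (algebraMap A (Localization.Away f))).FG :=
    Ideal.FG.map (IsNoetherian.noetherian I) _
  have := Groth.Agent.H8.CT.isAdicComplete_map (I.map (algebraMap A (Localization.Away f))) hJfg
  rwa [Ideal.map_map, ← IsScalarTower.algebraMap_eq] at this

/-- Stacks: after a completed principal localization, the contraction of a rig-closed prime is
rig-closed. -/
theorem exists_rigClosed_below
    (hft : Algebra.FiniteType A (B ⧸ (I.map (algebraMap A B))))
    (q : PrimeSpectrum B) (hq : IsRigClosed B (I.map (algebraMap A B)) q) :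
    ∃ f : A, IsUnit (Ideal.Quotient.mk q.asIdeal (algebraMap A B f)) ∧
      ∀ ψ : (AdicCompletion (I.map (algebraMap A (Localization.Away f))) (Localization.Away f)) →+*
        (AdicCompletion ((I.map (algebraMap A B)).map (algebraMap B
          (Localization.Away (algebraMap A B f)))) (Localization.Away (algebraMap A B f))),
      ψ.comp (algebraMap (Localization.Away f)
        (AdicCompletion (I.map (algebraMap A (Localization.Away f))) (Localization.Away f))) =
      (algebraMap (Localization.Away (algebraMap A B f))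
        (AdicCompletion ((I.map (algebraMap A B)).map (algebraMap B
          (Localization.Away (algebraMap A B f)))) (Localization.Away (algebraMap A B f)))).comp
        (Localization.awayMap (algebraMap A B) f) →
      (((q.asIdeal.map (algebraMap B (AdicCompletion ((I.map (algebraMap A B)).map (algebraMap B
          (Localization.Away (algebraMap A B f)))) (Localization.Away (algebraMap A B f))))).comap
          ψ).IsPrime ∧
        ¬ (I.map (algebraMap A (AdicCompletion (I.map (algebraMap A (Localization.Away f)))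
          (Localization.Away f)))) ≤
          ((q.asIdeal.map (algebraMap B (AdicCompletion ((I.map (algebraMap A B)).map (algebraMap B
          (Localization.Away (algebraMap A B f)))) (Localization.Away (algebraMap A B f))))).comap
          ψ) ∧
        ∀ y : PrimeSpectrum (AdicCompletion (I.map (algebraMap A (Localization.Away f)))
          (Localization.Away f)),
          ((q.asIdeal.map (algebraMap B (AdicCompletion ((I.map (algebraMap A B)).map (algebraMap B
          (Localization.Away (algebraMap A B f)))) (Localization.Away (algebraMap A B f))))).comap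
          ψ) ≤ y.asIdeal →
          ¬ (I.map (algebraMap A (AdicCompletion (I.map (algebraMap A (Localization.Away f)))
            (Localization.Away f)))) ≤ y.asIdeal →
          y.asIdeal = ((q.asIdeal.map (algebraMap B (AdicCompletion ((I.map (algebraMap A B)).map
            (algebraMap B (Localization.Away (algebraMap A B f))))
            (Localization.Away (algebraMap A B f))))).comap ψ)) := by
  have hjacB : I.map (algebraMap A B) ≤ Ideal.jacobson ⊥ := IsAdicComplete.le_jacobson_bot _
  obtain ⟨m₀, h₀, hq₀⟩ := Ideal.exists_le_maximal q.asIdeal q.2.ne_top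
  letI := Ideal.Quotient.field m₀
  have hIm₀ : I.map (algebraMap A B) ≤ m₀ := le_of_isMaximal hjacB _ h₀
  haveI : Algebra.FiniteType A (B ⧸ m₀) :=
    Algebra.FiniteType.of_surjective (Ideal.Quotient.factorₐ A hIm₀)
      (Ideal.Quotient.factor_surjective hIm₀)
  obtain ⟨f, hf0, hfint⟩ := exists_pow_mul_isIntegral A (B ⧸ m₀)
  have hfm₀ : algebraMap A B f ∉ m₀ := by
    intro h
    apply hf0
    rw [IsScalarTower.algebraMap_apply A B (B ⧸ m₀), Ideal.Quotient.algebraMap_eq]
    exact Ideal.Quotient.eq_zero_iff_mem.mpr h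
  have hunit : IsUnit (Ideal.Quotient.mk q.asIdeal (algebraMap A B f)) :=
    isUnit_mk_of_notMem A I B q hq m₀ h₀ hq₀ _ hfm₀
  refine ⟨f, hunit, fun ψ hψ => ?_⟩
  have hint : ∀ m' : Ideal B, m'.IsMaximal → q.asIdeal ≤ m' → ∀ x : B, ∃ n : ℕ,
      IsIntegral A (Ideal.Quotient.mk m' (algebraMap A B f ^ n * x)) := by
    intro m' hm' hqm' x
    obtain rfl := isMaximal_unique_of_isRigClosed A I B q hq _ _ hm' h₀ hqm' hq₀
    obtain ⟨n, hn⟩ := hfint (Ideal.Quotient.mk m' x)
    refine ⟨n, ?_⟩
    rw [map_mul, map_pow]
    exact hn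
  obtain ⟨hprime, hbij⟩ := isPrime_map_and_bijective B (I.map (algebraMap A B)) q.asIdeal
    (algebraMap A B f) (Localization.Away (algebraMap A B f)) hunit
  haveI := Groth.Agent.S0543.result (Localization.Away f) (I.map (algebraMap A (Localization.Away f)))
  haveI := Groth.Agent.S0543.result (Localization.Away (algebraMap A B f))
    ((I.map (algebraMap A B)).map (algebraMap B (Localization.Away (algebraMap A B f))))
  haveI := isAdicComplete_map_completion A I f
  haveI := isAdicComplete_map_completion B (I.map (algebraMap A B)) (algebraMap A B f)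
  refine isRigClosed_comap_of_integral A I B hft q hq f hint _ _ (algebraMap A _) (algebraMap B _)
    ψ ?_ ?_ hprime hbij
  · have e1 := IsScalarTower.algebraMap_eq A (Localization.Away f)
      (AdicCompletion (I.map (algebraMap A (Localization.Away f))) (Localization.Away f))
    have e2 := IsScalarTower.algebraMap_eq B (Localization.Away (algebraMap A B f))
      (AdicCompletion ((I.map (algebraMap A B)).map (algebraMap B
          (Localization.Away (algebraMap A B f)))) (Localization.Away (algebraMap A B f)))
    have e3 : (Localization.awayMap (algebraMap A B) f).comp (algebraMap A (Localization.Away f)) =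
        (algebraMap B (Localization.Away (algebraMap A B f))).comp (algebraMap A B) := by
      ext a
      simp [Localization.awayMap, IsLocalization.Away.map]
    rw [e1, ← RingHom.comp_assoc, hψ, RingHom.comp_assoc, e3, ← RingHom.comp_assoc, ← e2]
  · rw [IsScalarTower.algebraMap_apply A (Localization.Away f)]
    exact (IsLocalization.Away.algebraMap_isUnit f).map _

end Concrete

end Groth.Agent.H8.Rig
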