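import Mathlib
import Groth.Agent.Lib.Helper8.Rig.Below

set_option autoImplicit false
universe u

namespace Groth.Agent.H8.Rig

/-- completed principal localization `A_{f}` -/
abbrev CLoc (A : Type u) [CommRing A] (I : Ideal A) (f : A) : Type u :=
  AdicCompletion (I.map (algebraMap A (Localization.Away f))) (Localization.Away f)

namespace CLoc

variable (A : Type u) [CommRing A] (I : Ideal A) (f : A)

theorem isNoetherianRing [IsNoetherianRing A] : IsNoetherianRing (CLoc A I f) :=
  Groth.Agent.S0543.result (Localization.Away f) (I.map (algebraMap A (Localization.Away f)))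

theorem isAdicComplete [IsNoetherianRing A] :
    IsAdicComplete (I.map (algebraMap A (CLoc A I f))) (CLoc A I f) :=
  isAdicComplete_map_completion A I f

theorem isUnit_algebraMap : IsUnit (algebraMap A (CLoc A I f) f) := by
  rw [IsScalarTower.algebraMap_apply A (Localization.Away f)]
  exact (IsLocalization.Away.algebraMap_isUnit f).map _

theorem flat [IsNoetherianRing A] : Module.Flat A (CLoc A I f) :=
  Module.Flat.trans A (Localization.Away f) (CLoc A I f)

theorem map_eq : I.map (algebraMap A (CLoc A I f)) =
    (I.map (algebraMap A (Localization.Away f))).map (algebraMap (Localization.Away f) (CLoc A I f)) := by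
  rw [Ideal.map_map, ← IsScalarTower.algebraMap_eq]

/-- `A_{f} / I A_{f} ≃ A_f / I A_f`. -/
noncomputable def quotEquiv [IsNoetherianRing A] :
    (CLoc A I f ⧸ (I.map (algebraMap A (Localization.Away f))).map
      (algebraMap (Localization.Away f) (CLoc A I f))) ≃ₐ[Localization.Away f]
      (Localization.Away f ⧸ I.map (algebraMap A (Localization.Away f))) := by
  haveI := isNoetherianRing A I f
  haveI : IsAdicComplete ((I.map (algebraMap A (Localization.Away f))).map
      (Ideal.Quotient.mk (I.map (algebraMap A (Localization.Away f)))))
      (Localization.Away f ⧸ I.map (algebraMap A (Localization.Away f))) := by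
    rw [Ideal.map_quotient_self]; infer_instance
  exact Groth.Agent.H8.CT.quotEquiv (I.map (algebraMap A (Localization.Away f)))
    (I.map (algebraMap A (Localization.Away f))) (Ideal.FG.map (IsNoetherian.noetherian I) _)

theorem finiteType_quotient [IsNoetherianRing A] (R : Type u) [CommRing R] [Algebra R A]
    (h : Algebra.FiniteType R (A ⧸ I)) :
    Algebra.FiniteType R (CLoc A I f ⧸ I.map (algebraMap A (CLoc A I f))) := by
  haveI : Algebra.FiniteType A
      (Localization.Away f ⧸ I.map (algebraMap A (Localization.Away f))) :=
    Algebra.FiniteType.of_surjective (Ideal.Quotient.mkₐ A _) Ideal.Quotient.mk_surjective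
  haveI : Algebra.FiniteType (A ⧸ I)
      (Localization.Away f ⧸ I.map (algebraMap A (Localization.Away f))) :=
    Algebra.FiniteType.of_restrictScalars_finiteType A _ _
  haveI : IsScalarTower R (A ⧸ I)
      (Localization.Away f ⧸ I.map (algebraMap A (Localization.Away f))) :=
    IsScalarTower.of_algebraMap_eq (fun x => by
      rw [IsScalarTower.algebraMap_apply R A (A ⧸ I),
        ← IsScalarTower.algebraMap_apply A (A ⧸ I)
          (Localization.Away f ⧸ I.map (algebraMap A (Localization.Away f))),
        ← IsScalarTower.algebraMap_apply R A
          (Localization.Away f ⧸ I.map (algebraMap A (Localization.Away f)))])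
  have h1 : Algebra.FiniteType R
      (Localization.Away f ⧸ I.map (algebraMap A (Localization.Away f))) :=
    Algebra.FiniteType.trans h inferInstance
  have h2 : Algebra.FiniteType R (CLoc A I f ⧸ (I.map (algebraMap A (Localization.Away f))).map
      (algebraMap (Localization.Away f) (CLoc A I f))) :=
    Algebra.FiniteType.equiv h1 ((quotEquiv A I f).symm.restrictScalars R)
  exact Algebra.FiniteType.equiv h2
    (Ideal.quotientEquivAlgOfEq R (map_eq A I f).symm)

end CLoc

end Groth.Agent.H8.Rig
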