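import Mathlib
import Groth.Agent.Lib.Helper8.Rig.CLoc

set_option autoImplicit false
universe u

namespace Groth.Agent.H8.Rig

namespace CLoc

variable (A : Type u) [CommRing A] (I : Ideal A) (f : A)

theorem formallyUnramified_quotient [IsNoetherianRing A] (R : Type u) [CommRing R] [Algebra R A]
    [h : Algebra.FormallyUnramified R (A ⧸ I)] :
    Algebra.FormallyUnramified R (CLoc A I f ⧸ I.map (algebraMap A (CLoc A I f))) := by
  haveI : Algebra.FormallyUnramified (A ⧸ I)
      (Localization.Away f ⧸ I.map (algebraMap A (Localization.Away f))) :=
    Algebra.FormallyUnramified.of_isLocalization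
      (Algebra.algebraMapSubmonoid (A ⧸ I) (Submonoid.powers f))
  haveI : IsScalarTower R (A ⧸ I)
      (Localization.Away f ⧸ I.map (algebraMap A (Localization.Away f))) :=
    IsScalarTower.of_algebraMap_eq (fun x => by
      rw [IsScalarTower.algebraMap_apply R A (A ⧸ I),
        ← IsScalarTower.algebraMap_apply A (A ⧸ I)
          (Localization.Away f ⧸ I.map (algebraMap A (Localization.Away f))),
        ← IsScalarTower.algebraMap_apply R A
          (Localization.Away f ⧸ I.map (algebraMap A (Localization.Away f)))])
  have h1 : Algebra.FormallyUnramified R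
      (Localization.Away f ⧸ I.map (algebraMap A (Localization.Away f))) :=
    Algebra.FormallyUnramified.comp R (A ⧸ I) _
  have h2 : Algebra.FormallyUnramified R
      (CLoc A I f ⧸ (I.map (algebraMap A (Localization.Away f))).map
      (algebraMap (Localization.Away f) (CLoc A I f))) :=
    Algebra.FormallyUnramified.of_equiv ((quotEquiv A I f).symm.restrictScalars R)
  exact Algebra.FormallyUnramified.of_equiv
    (Ideal.quotientEquivAlgOfEq R (map_eq A I f).symm)

end CLoc

end Groth.Agent.H8.Rig
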