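import Mathlib
import Groth.Agent.Lib.Helper8.Rig.CLoc
import Groth.Agent.Lib.Helper3.CA.CplMap

set_option autoImplicit false
universe u

namespace Groth.Agent.H8.Rig

namespace CLoc

section lift

variable (A B : Type u) [CommRing A] [CommRing B] [Algebra A B] (I : Ideal A) (K : Ideal B)
  (f : A) (g : B)

/-- the map of localizations `A_f → B_g` when `f` becomes a unit in `B_g`. -/
noncomputable def awayLift (hu : IsUnit (algebraMap B (Localization.Away g) (algebraMap A B f))) :
    Localization.Away f →+* Localization.Away g :=
  IsLocalization.Away.lift f (g := (algebraMap B (Localization.Away g)).comp (algebraMap A B)) hu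

theorem awayLift_comp (hu : IsUnit (algebraMap B (Localization.Away g) (algebraMap A B f))) :
    (awayLift A B f g hu).comp (algebraMap A (Localization.Away f)) =
      (algebraMap B (Localization.Away g)).comp (algebraMap A B) :=
  IsLocalization.Away.lift_comp _ _

theorem awayLift_algebraMap (hu : IsUnit (algebraMap B (Localization.Away g) (algebraMap A B f)))
    (a : A) : awayLift A B f g hu (algebraMap A (Localization.Away f) a) =
      algebraMap B (Localization.Away g) (algebraMap A B a) :=
  IsLocalization.Away.lift_eq _ _ _

theorem awayLift_eq_awayMap :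
    awayLift A B f (algebraMap A B f) (IsLocalization.Away.algebraMap_isUnit _) =
      Localization.awayMap (algebraMap A B) f := rfl

theorem map_awayLift_le (hu : IsUnit (algebraMap B (Localization.Away g) (algebraMap A B f)))
    (hIK : I.map (algebraMap A B) ≤ K) :
    (I.map (algebraMap A (Localization.Away f))).map (awayLift A B f g hu) ≤
      K.map (algebraMap B (Localization.Away g)) := by
  rw [Ideal.map_map, awayLift_comp, ← Ideal.map_map]
  exact Ideal.map_mono hIK

/-- the canonical map of completed localizations `A_{f} → B_{g}`. -/
noncomputable def lift (hu : IsUnit (algebraMap B (Localization.Away g) (algebraMap A B f)))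
    (hIK : I.map (algebraMap A B) ≤ K) : CLoc A I f →+* CLoc B K g :=
  Groth.Agent.H3.CplMap.cplMap (awayLift A B f g hu) _ _ (map_awayLift_le A B I K f g hu hIK)

theorem lift_comp (hu : IsUnit (algebraMap B (Localization.Away g) (algebraMap A B f)))
    (hIK : I.map (algebraMap A B) ≤ K) :
    (lift A B I K f g hu hIK).comp (algebraMap (Localization.Away f) (CLoc A I f)) =
      (algebraMap (Localization.Away g) (CLoc B K g)).comp (awayLift A B f g hu) := by
  refine RingHom.ext fun x => ?_
  exact Groth.Agent.H3.CplMap.cplMap_of (awayLift A B f g hu) _ _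
    (map_awayLift_le A B I K f g hu hIK) x

theorem lift_algebraMap (hu : IsUnit (algebraMap B (Localization.Away g) (algebraMap A B f)))
    (hIK : I.map (algebraMap A B) ≤ K) (a : A) :
    lift A B I K f g hu hIK (algebraMap A (CLoc A I f) a) =
      algebraMap B (CLoc B K g) (algebraMap A B a) := by
  rw [IsScalarTower.algebraMap_apply A (Localization.Away f) (CLoc A I f),
    IsScalarTower.algebraMap_apply B (Localization.Away g) (CLoc B K g)]
  have := congrArg (fun h => h (algebraMap A (Localization.Away f) a)) (lift_comp A B I K f g hu hIK)
  simp only [RingHom.comp_apply] at this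
  rw [this, awayLift_algebraMap]

end lift

section unique

variable {T : Type u} [CommRing T] (J : Ideal T) {C : Type u} [CommRing C] (N : Ideal C)

/-- two ring maps out of a completion which agree on `T` and are adic agree, when the target is
Hausdorff. -/
theorem hom_ext_of_isHausdorff (hJ : J.FG) [IsHausdorff N C]
    (p1 p2 : AdicCompletion J T →+* C)
    (h12 : p1.comp (algebraMap T (AdicCompletion J T)) = p2.comp (algebraMap T (AdicCompletion J T)))
    (hN : J.map (p1.comp (algebraMap T (AdicCompletion J T))) ≤ N) : p1 = p2 := by
  refine RingHom.ext fun x => ?_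
  rw [← sub_eq_zero]
  apply IsHausdorff.haus' (I := N)
  intro n
  rw [SModEq.zero, smul_eq_mul, Ideal.mul_top]
  obtain ⟨t, ht⟩ := Groth.Agent.H8.CT.exists_sub_mem J hJ x n
  have key : ∀ p : AdicCompletion J T →+* C,
      J.map (p.comp (algebraMap T (AdicCompletion J T))) ≤ N →
      p (x - algebraMap T (AdicCompletion J T) t) ∈ N ^ n := by
    intro p hp
    have h1 : ((J ^ n).map (algebraMap T (AdicCompletion J T))).map p ≤ N ^ n := by
      rw [Ideal.map_map, Ideal.map_pow]
      exact Ideal.pow_right_mono hp n
    exact h1 (Ideal.mem_map_of_mem _ ht)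
  have e1 := key p1 hN
  have e2 := key p2 (h12 ▸ hN)
  have e3 : p1 (algebraMap T (AdicCompletion J T) t) = p2 (algebraMap T (AdicCompletion J T) t) :=
    congrArg (fun h => h t) h12
  have : p1 x - p2 x = p1 (x - algebraMap T (AdicCompletion J T) t) -
      p2 (x - algebraMap T (AdicCompletion J T) t) := by
    rw [map_sub, map_sub, e3]; ring
  rw [this]
  exact Ideal.sub_mem _ e1 e2

end unique

section lift_unique

variable (A B : Type u) [CommRing A] [CommRing B] [Algebra A B] (I : Ideal A) (K : Ideal B)
  (f : A) (g : B)

theorem isHausdorff_map (hK : K.FG) :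
    IsHausdorff ((K.map (algebraMap B (Localization.Away g))).map
      (algebraMap (Localization.Away g) (CLoc B K g))) (CLoc B K g) :=
  haveI := Groth.Agent.H8.CT.isAdicComplete_map (K.map (algebraMap B (Localization.Away g)))
    (Ideal.FG.map hK _)
  inferInstance

theorem lift_unique (hI : I.FG) (hK : K.FG)
    (hu : IsUnit (algebraMap B (Localization.Away g) (algebraMap A B f)))
    (hIK : I.map (algebraMap A B) ≤ K) (p : CLoc A I f →+* CLoc B K g)
    (hp : p.comp (algebraMap (Localization.Away f) (CLoc A I f)) =
      (algebraMap (Localization.Away g) (CLoc B K g)).comp (awayLift A B f g hu)) :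
    p = lift A B I K f g hu hIK := by
  haveI := isHausdorff_map B K g hK
  refine hom_ext_of_isHausdorff (I.map (algebraMap A (Localization.Away f)))
    ((K.map (algebraMap B (Localization.Away g))).map
      (algebraMap (Localization.Away g) (CLoc B K g))) (Ideal.FG.map hI _) p _ ?_ ?_
  · rw [hp, lift_comp]
  · rw [hp, ← Ideal.map_map]
    exact Ideal.map_mono (map_awayLift_le A B I K f g hu hIK)

end lift_unique

end CLoc

end Groth.Agent.H8.Rig
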