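import Mathlib
import Groth.Agent.Lib.Helper8.Rig.CLocMap

set_option autoImplicit false
universe u

namespace Groth.Agent.H8.Rig

section general

/-- every prime not containing `J` is contained in a rig-closed prime. -/
theorem exists_isRigClosed_ge (R : Type u) [CommRing R] [IsNoetherianRing R] (J : Ideal R)
    (q : PrimeSpectrum R) (hq : ¬ J ≤ q.asIdeal) :
    ∃ Q : PrimeSpectrum R, IsRigClosed R J Q ∧ q ≤ Q := by
  let S : Set (Ideal R) := {P | P.IsPrime ∧ q.asIdeal ≤ P ∧ ¬ J ≤ P}
  have hne : S.Nonempty := ⟨q.asIdeal, q.isPrime, le_rfl, hq⟩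
  obtain ⟨P, hP, hmax⟩ := (wellFounded_gt (α := Ideal R)).has_min S hne
  obtain ⟨hPp, hqP, hJP⟩ := hP
  refine ⟨⟨P, hPp⟩, ⟨hJP, ?_⟩, hqP⟩
  intro q' hle hJ'
  by_contra hne'
  have hlt : P < q'.asIdeal := lt_of_le_of_ne hle (fun h => hne' (PrimeSpectrum.ext h.symm))
  exact hmax q'.asIdeal ⟨q'.isPrime, hqP.trans hle, hJ'⟩ hlt

variable {R S : Type u} [CommRing R] [CommRing S] (f : R →+* S)

/-- if `S_P` is flat over `R`, then it is flat over `R_Q` for `Q = f⁻¹ P`. -/
theorem localRingHom_flat_of_flat_atPrime (P : Ideal S) [P.IsPrime] (Q : Ideal R) [Q.IsPrime]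
    (hQP : Q = Ideal.comap f P)
    (h : ((algebraMap S (Localization.AtPrime P)).comp f).Flat) :
    (Localization.localRingHom Q P f hQP).Flat := by
  subst hQP
  algebraize [(algebraMap S (Localization.AtPrime P)).comp f,
    Localization.localRingHom (Ideal.comap f P) P f rfl]
  have : IsScalarTower R (Localization.AtPrime (Ideal.comap f P)) (Localization.AtPrime P) :=
    .of_algebraMap_eq fun x ↦ (Localization.localRingHom_to_map _ _ _ rfl x).symm
  rw [RingHom.Flat, Module.flat_iff_of_isLocalization
    (S := (Localization.AtPrime (Ideal.comap f P))) (p := (Ideal.comap f P).primeCompl)]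
  exact h

/-- flatness of `S_P'` over `R` passes to the further localization `S_P`, `P ≤ P'`. -/
theorem flat_atPrime_of_le (P P' : Ideal S) [P.IsPrime] [P'.IsPrime] (hle : P ≤ P')
    (h : ((algebraMap S (Localization.AtPrime P')).comp f).Flat) :
    ((algebraMap S (Localization.AtPrime P)).comp f).Flat := by
  have hM : P'.primeCompl ≤ P.primeCompl := fun x hx hxP => hx (hle hxP)
  let i : Localization.AtPrime P' →+* Localization.AtPrime P :=
    IsLocalization.lift (M := P'.primeCompl) (g := algebraMap S (Localization.AtPrime P))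
      (fun y => IsLocalization.map_units (M := P.primeCompl) _ ⟨y.1, hM y.2⟩)
  have hi : i.comp (algebraMap S (Localization.AtPrime P')) =
      algebraMap S (Localization.AtPrime P) := IsLocalization.lift_comp _
  have hflat : i.Flat := by
    algebraize [i]
    have : IsScalarTower S (Localization.AtPrime P') (Localization.AtPrime P) :=
      .of_algebraMap_eq fun x ↦ (congrArg (fun g => g x) hi).symm
    have := IsLocalization.isLocalization_of_submonoid_le (Localization.AtPrime P')
      (Localization.AtPrime P) P'.primeCompl P.primeCompl hM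
    rw [RingHom.Flat]
    exact IsLocalization.flat _ (P.primeCompl.map (algebraMap S (Localization.AtPrime P')))
  have := h.comp hflat
  rwa [← RingHom.comp_assoc, hi] at this

/-- naive rig-flatness gives flatness at all primes away from `V(J)`. -/
theorem flat_atPrime_of_rigFlat [IsNoetherianRing S] (J : Ideal S)
    (h : ∀ Q : PrimeSpectrum S, IsRigClosed S J Q →
      ((algebraMap S (Localization.AtPrime Q.asIdeal)).comp f).Flat)
    (q : PrimeSpectrum S) (hq : ¬ J ≤ q.asIdeal) :
    ((algebraMap S (Localization.AtPrime q.asIdeal)).comp f).Flat := by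
  obtain ⟨Q, hQ, hle⟩ := exists_isRigClosed_ge S J q hq
  exact flat_atPrime_of_le f q.asIdeal Q.asIdeal hle (h Q hQ)

end general

namespace CLoc

section trans

variable (A B C : Type u) [CommRing A] [CommRing B] [CommRing C] [Algebra A B] [Algebra B C]
  [Algebra A C] [IsScalarTower A B C] (I : Ideal A) (K : Ideal B) (L : Ideal C)
  (e : A) (g : B) (h : C)

theorem awayLift_trans (hu1 : IsUnit (algebraMap B (Localization.Away g) (algebraMap A B e)))
    (hu2 : IsUnit (algebraMap C (Localization.Away h) (algebraMap B C g)))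
    (hu3 : IsUnit (algebraMap C (Localization.Away h) (algebraMap A C e))) :
    (awayLift B C g h hu2).comp (awayLift A B e g hu1) = awayLift A C e h hu3 := by
  apply IsLocalization.ringHom_ext (Submonoid.powers e)
  rw [RingHom.comp_assoc, awayLift_comp, ← RingHom.comp_assoc, awayLift_comp, awayLift_comp,
    RingHom.comp_assoc, ← IsScalarTower.algebraMap_eq]

theorem lift_trans (hI : I.FG) (hL : L.FG)
    (hu1 : IsUnit (algebraMap B (Localization.Away g) (algebraMap A B e)))
    (hu2 : IsUnit (algebraMap C (Localization.Away h) (algebraMap B C g)))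
    (hu3 : IsUnit (algebraMap C (Localization.Away h) (algebraMap A C e)))
    (hIK : I.map (algebraMap A B) ≤ K) (hKL : K.map (algebraMap B C) ≤ L)
    (hIL : I.map (algebraMap A C) ≤ L) :
    (lift B C K L g h hu2 hKL).comp (lift A B I K e g hu1 hIK) = lift A C I L e h hu3 hIL := by
  apply lift_unique A C I L e h hI hL hu3 hIL
  rw [RingHom.comp_assoc, lift_comp, ← RingHom.comp_assoc, lift_comp, RingHom.comp_assoc,
    awayLift_trans A B C e g h hu1 hu2 hu3]

end trans


section comp

variable (A B C : Type u) [CommRing A] [CommRing B] [CommRing C] [Algebra A B] [Algebra B C]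
  [Algebra A C] [IsScalarTower A B C] [IsNoetherianRing A] [IsNoetherianRing B]
  [IsNoetherianRing C] (I : Ideal A) (K : Ideal B) (L : Ideal C)
  (e : A) (g : B) (h : C)

theorem map_lift_eq (hu2 : IsUnit (algebraMap C (Localization.Away h) (algebraMap B C g)))
    (hKL : K.map (algebraMap B C) ≤ L) :
    ((K.map (algebraMap B (Localization.Away g))).map
      (algebraMap (Localization.Away g) (CLoc B K g))).map (lift B C K L g h hu2 hKL) =
    ((K.map (algebraMap B C)).map (algebraMap C (Localization.Away h))).map
      (algebraMap (Localization.Away h) (CLoc C L h)) := by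
  rw [Ideal.map_map, lift_comp, ← Ideal.map_map, Ideal.map_map (algebraMap B (Localization.Away g)),
    awayLift_comp, ← Ideal.map_map (algebraMap B C)]

/-- composition of rig-flat maps, in terms of the canonical lifts -/
theorem flat_comp
    (hu1 : IsUnit (algebraMap B (Localization.Away g) (algebraMap A B e)))
    (hu2 : IsUnit (algebraMap C (Localization.Away h) (algebraMap B C g)))
    (hu3 : IsUnit (algebraMap C (Localization.Away h) (algebraMap A C e)))
    (hIK : I.map (algebraMap A B) ≤ K) (hKL : K.map (algebraMap B C) ≤ L)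
    (hLK : L ≤ K.map (algebraMap B C))
    (hIL : I.map (algebraMap A C) ≤ L)
    (hAB : ∀ Q : PrimeSpectrum (CLoc B K g),
      IsRigClosed (CLoc B K g) ((K.map (algebraMap B (Localization.Away g))).map
        (algebraMap (Localization.Away g) (CLoc B K g))) Q →
      ((algebraMap (CLoc B K g) (Localization.AtPrime Q.asIdeal)).comp
        (lift A B I K e g hu1 hIK)).Flat)
    (hBC : ∀ Q : PrimeSpectrum (CLoc C L h),
      IsRigClosed (CLoc C L h) ((L.map (algebraMap C (Localization.Away h))).map
        (algebraMap (Localization.Away h) (CLoc C L h))) Q →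
      ((algebraMap (CLoc C L h) (Localization.AtPrime Q.asIdeal)).comp
        (lift B C K L g h hu2 hKL)).Flat)
    (Q : PrimeSpectrum (CLoc C L h))
    (hQ : ¬ ((L.map (algebraMap C (Localization.Away h))).map
        (algebraMap (Localization.Away h) (CLoc C L h))) ≤ Q.asIdeal) :
    ((algebraMap (CLoc C L h) (Localization.AtPrime Q.asIdeal)).comp
        (lift A C I L e h hu3 hIL)).Flat := by
  haveI := isNoetherianRing B K g
  haveI := isNoetherianRing C L h
  have F2 := flat_atPrime_of_rigFlat (lift B C K L g h hu2 hKL) _ hBC Q hQ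
  let qB : PrimeSpectrum (CLoc B K g) := PrimeSpectrum.comap (lift B C K L g h hu2 hKL) Q
  have hqB : ¬ ((K.map (algebraMap B (Localization.Away g))).map
        (algebraMap (Localization.Away g) (CLoc B K g))) ≤ qB.asIdeal := by
    intro hle
    apply hQ
    have h1 := Ideal.map_mono (f := lift B C K L g h hu2 hKL) hle
    rw [map_lift_eq] at h1
    refine le_trans ?_ (h1.trans (Ideal.map_comap_le))
    exact Ideal.map_mono (Ideal.map_mono hLK)
  have F1 := flat_atPrime_of_rigFlat (lift A B I K e g hu1 hIK) _ hAB qB hqB
  have F3 := localRingHom_flat_of_flat_atPrime (lift B C K L g h hu2 hKL) Q.asIdeal qB.asIdeal rfl F2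
  have F4 := F1.comp F3
  have e1 : (Localization.localRingHom qB.asIdeal Q.asIdeal (lift B C K L g h hu2 hKL) rfl).comp
      (algebraMap (CLoc B K g) (Localization.AtPrime qB.asIdeal)) =
      (algebraMap (CLoc C L h) (Localization.AtPrime Q.asIdeal)).comp
        (lift B C K L g h hu2 hKL) :=
    RingHom.ext fun x => Localization.localRingHom_to_map _ _ _ rfl x
  rw [← RingHom.comp_assoc, e1, RingHom.comp_assoc,
    lift_trans A B C I K L e g h (IsNoetherian.noetherian I) (IsNoetherian.noetherian L)
      hu1 hu2 hu3 hIK hKL hIL] at F4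
  exact F4

end comp

end CLoc

end Groth.Agent.H8.Rig
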