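import Mathlib
import Groth.Agent.Lib.Helper8.Rig.RigFlatComp

set_option autoImplicit false
universe u

namespace Groth.Agent.H8.Rig

namespace CLoc

section flat

variable (A B : Type u) [CommRing A] [CommRing B] [Algebra A B] [IsNoetherianRing A]
  [IsNoetherianRing B] (I : Ideal A) (K : Ideal B) (f : A) (g : B)

theorem map_awayLift_eq (hu : IsUnit (algebraMap B (Localization.Away g) (algebraMap A B f)))
    (hK : I.map (algebraMap A B) = K) :
    (I.map (algebraMap A (Localization.Away f))).map (awayLift A B f g hu) =
      K.map (algebraMap B (Localization.Away g)) := by
  rw [Ideal.map_map, awayLift_comp, ← Ideal.map_map, hK]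

/-- the canonical map of completed localizations is flat when `A → B` is flat and adic. -/
theorem lift_flat [Module.Flat A B]
    (hu : IsUnit (algebraMap B (Localization.Away g) (algebraMap A B f)))
    (hK : I.map (algebraMap A B) = K) :
    (lift A B I K f g hu hK.le).Flat := by
  algebraize [awayLift A B f g hu, lift A B I K f g hu hK.le,
    (algebraMap (Localization.Away g) (CLoc B K g)).comp (awayLift A B f g hu)]
  haveI : IsScalarTower (Localization.Away f) (Localization.Away g) (CLoc B K g) :=
    .of_algebraMap_eq fun x => rfl
  haveI : IsScalarTower (Localization.Away f) (CLoc A I f) (CLoc B K g) :=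
    .of_algebraMap_eq fun x =>
      (congrArg (fun h => h x) (lift_comp A B I K f g hu hK.le)).symm
  haveI : IsScalarTower A (Localization.Away f) (Localization.Away g) :=
    .of_algebraMap_eq fun x => by
      rw [IsScalarTower.algebraMap_apply A B (Localization.Away g)]
      exact (awayLift_algebraMap A B f g hu x).symm
  haveI : Module.Flat A (Localization.Away g) := Module.Flat.trans A B _
  haveI : Module.Flat (Localization.Away f) (Localization.Away g) :=
    (Module.flat_iff_of_isLocalization (S := Localization.Away f) (p := Submonoid.powers f)
      (M := Localization.Away g)).mpr inferInstance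
  haveI : Module.Flat (Localization.Away f) (CLoc B K g) :=
    Module.Flat.trans (Localization.Away f) (Localization.Away g) _
  have c2 : IsAdicComplete (K.map (algebraMap B (Localization.Away g))) (CLoc B K g) :=
    AdicCompletion.isAdicComplete (Ideal.FG.map (IsNoetherian.noetherian K) _)
  have key : ∀ J : Ideal (Localization.Away g), J = K.map (algebraMap B (Localization.Away g)) →
      IsAdicComplete J (CLoc B K g) := by
    rintro J rfl; exact c2
  have c3 : IsAdicComplete ((I.map (algebraMap A (Localization.Away f))).map
      (algebraMap (Localization.Away f) (Localization.Away g))) (CLoc B K g) :=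
    key _ (map_awayLift_eq A B I K f g hu hK)
  rw [IsAdicComplete.map_algebraMap_iff] at c3
  haveI c4 : IsAdicComplete ((I.map (algebraMap A (Localization.Away f))).map
      (algebraMap (Localization.Away f) (CLoc A I f))) (CLoc B K g) :=
    (IsAdicComplete.map_algebraMap_iff (S := CLoc A I f) _ _).mpr c3
  rw [RingHom.Flat]
  exact Groth.Agent.H3.CplMap.flat_over_completion (Localization.Away f)
    (I.map (algebraMap A (Localization.Away f))) (CLoc B K g)

end flat

end CLoc

end Groth.Agent.H8.Rig
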