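import Mathlib
import Groth.Agent.Lib.Helper8.Rig.CLocFlat

set_option autoImplicit false
universe u

namespace Groth.Agent.H8.Rig

namespace CLoc

section primes

variable (B : Type u) [CommRing B] (K : Ideal B) (g : B)

/-- the `K`-ideal of the completed localization -/
theorem ideal_le_of_le_comap (P : Ideal (CLoc B K g))
    (h : K ≤ P.comap (algebraMap B (CLoc B K g))) :
    (K.map (algebraMap B (Localization.Away g))).map
      (algebraMap (Localization.Away g) (CLoc B K g)) ≤ P := by
  rw [Ideal.map_map, ← IsScalarTower.algebraMap_eq, Ideal.map_le_iff_le_comap]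
  exact h

/-- a prime of `B` containing `K` and not `g` lifts to the completed localization. -/
theorem exists_prime_over (n : Ideal B) [n.IsPrime] (hKn : K ≤ n) (hg : g ∉ n) :
    ∃ P : Ideal (CLoc B K g), P.IsPrime ∧ P.comap (algebraMap B (CLoc B K g)) = n := by
  have hdisj : Disjoint (Submonoid.powers g : Set B) (n : Set B) := by
    rw [Set.disjoint_left]
    rintro x ⟨k, rfl⟩ hx
    exact hg (Ideal.IsPrime.mem_of_pow_mem inferInstance k hx)
  have hP : (n.map (algebraMap B (Localization.Away g))).IsPrime :=
    IsLocalization.isPrime_of_isPrime_disjoint (Submonoid.powers g) _ n inferInstance hdisj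
  have hPc : (n.map (algebraMap B (Localization.Away g))).comap
      (algebraMap B (Localization.Away g)) = n :=
    IsLocalization.under_map_of_isPrime_disjoint (Submonoid.powers g) _ inferInstance hdisj
  have hJ : (K.map (algebraMap B (Localization.Away g))) ^ 1 ≤
      n.map (algebraMap B (Localization.Away g)) := by
    rw [pow_one]; exact Ideal.map_mono hKn
  have hker : RingHom.ker (Ideal.Quotient.mk ((K.map (algebraMap B (Localization.Away g))) ^ 1)) ≤
      n.map (algebraMap B (Localization.Away g)) := by
    rw [Ideal.mk_ker]; exact hJ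
  have hP' : ((n.map (algebraMap B (Localization.Away g))).map
      (Ideal.Quotient.mk ((K.map (algebraMap B (Localization.Away g))) ^ 1))).IsPrime :=
    Ideal.map_isPrime_of_surjective Ideal.Quotient.mk_surjective hker
  refine ⟨((n.map (algebraMap B (Localization.Away g))).map
      (Ideal.Quotient.mk ((K.map (algebraMap B (Localization.Away g))) ^ 1))).comap
      (AdicCompletion.evalₐ (K.map (algebraMap B (Localization.Away g))) 1).toRingHom,
      Ideal.comap_isPrime _ _, ?_⟩
  rw [IsScalarTower.algebraMap_eq B (Localization.Away g) (CLoc B K g), ← Ideal.comap_comap,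
    Ideal.comap_comap (algebraMap (Localization.Away g) (CLoc B K g))]
  have e1 : (AdicCompletion.evalₐ (K.map (algebraMap B (Localization.Away g))) 1).toRingHom.comp
      (algebraMap (Localization.Away g) (CLoc B K g)) =
      Ideal.Quotient.mk ((K.map (algebraMap B (Localization.Away g))) ^ 1) := by
    refine RingHom.ext fun x => ?_
    exact (AdicCompletion.evalₐ (K.map (algebraMap B (Localization.Away g))) 1).commutes x
  rw [e1, Ideal.comap_map_of_surjective _ Ideal.Quotient.mk_surjective, ← RingHom.ker_eq_comap_bot,
    sup_eq_left.mpr hker, hPc]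

variable {B K g}

/-- primes of the completed localization containing the ideal of definition are determined by
their contraction to `B`. -/
theorem le_of_comap_le (hK : K.FG) (P P' : Ideal (CLoc B K g))
    (hP : (K.map (algebraMap B (Localization.Away g))).map
      (algebraMap (Localization.Away g) (CLoc B K g)) ≤ P)
    (hP' : (K.map (algebraMap B (Localization.Away g))).map
      (algebraMap (Localization.Away g) (CLoc B K g)) ≤ P')
    (h : P.comap (algebraMap B (CLoc B K g)) ≤ P'.comap (algebraMap B (CLoc B K g))) :
    P ≤ P' := by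
  intro x hx
  obtain ⟨t, ht⟩ := Groth.Agent.H8.CT.exists_sub_mem (K.map (algebraMap B (Localization.Away g)))
    (Ideal.FG.map hK _) x 1
  rw [pow_one] at ht
  have h1 : algebraMap (Localization.Away g) (CLoc B K g) t ∈ P := by
    have := P.sub_mem hx (hP ht)
    rwa [sub_sub_cancel] at this
  obtain ⟨k, a, ha⟩ := IsLocalization.Away.surj g t
  have h2 : algebraMap B (CLoc B K g) a ∈ P := by
    rw [IsScalarTower.algebraMap_apply B (Localization.Away g) (CLoc B K g), ← ha, map_mul]
    exact P.mul_mem_right _ h1
  have h3 : algebraMap B (CLoc B K g) a ∈ P' := h h2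
  rw [IsScalarTower.algebraMap_apply B (Localization.Away g) (CLoc B K g), ← ha, map_mul] at h3
  have hu : IsUnit (algebraMap (Localization.Away g) (CLoc B K g)
      (algebraMap B (Localization.Away g) g ^ k)) :=
    ((IsLocalization.Away.algebraMap_isUnit g).pow k).map _
  have h4 : algebraMap (Localization.Away g) (CLoc B K g) t ∈ P' := by
    obtain ⟨u, hu'⟩ := hu
    have := P'.mul_mem_right (↑u⁻¹ : CLoc B K g) h3
    rwa [← hu', mul_assoc, Units.mul_inv, mul_one] at this
  have := P'.add_mem (hP' ht) h4
  rwa [sub_add_cancel] at this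

end primes

section surj

variable (A B : Type u) [CommRing A] [CommRing B] [Algebra A B] [IsNoetherianRing A]
  [IsNoetherianRing B] (I : Ideal A) (K : Ideal B) (f : A) (g : B)

/-- For `A → B` faithfully flat and adic, the canonical map `A_{f} → B_{f}` is surjective on
spectra. -/
theorem comap_lift_surjective [Module.FaithfullyFlat A B]
    (hu : IsUnit (algebraMap B (Localization.Away g) (algebraMap A B f)))
    (hK : I.map (algebraMap A B) = K) (hfg : algebraMap A B f = g)
    (q : PrimeSpectrum (CLoc A I f)) :
    ∃ Q : PrimeSpectrum (CLoc B K g), PrimeSpectrum.comap (lift A B I K f g hu hK.le) Q = q := by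
  have hIfg : I.FG := IsNoetherian.noetherian I
  have hKfg : K.FG := IsNoetherian.noetherian K
  obtain ⟨m, hm, hqm⟩ := Ideal.exists_le_maximal q.asIdeal q.isPrime.ne_top
  haveI := hm.isPrime
  -- `I`-ideal is in `m`
  have hIm : (I.map (algebraMap A (Localization.Away f))).map
      (algebraMap (Localization.Away f) (CLoc A I f)) ≤ m := by
    have h1 := Groth.Agent.H8.CT.map_le_jacobson (I.map (algebraMap A (Localization.Away f)))
      (Ideal.FG.map hIfg _)
    refine h1.trans ?_
    exact (Ideal.jacobson_mono bot_le).trans (le_of_eq (Ideal.jacobson_eq_self_of_isMaximal (I := m)))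
  set n : Ideal A := m.comap (algebraMap A (CLoc A I f)) with hn
  haveI : n.IsPrime := Ideal.comap_isPrime _ _
  obtain ⟨n', hn'⟩ := PrimeSpectrum.comap_surjective_of_faithfullyFlat (B := B) ⟨n, inferInstance⟩
  have hn'c : n'.asIdeal.comap (algebraMap A B) = n := congrArg PrimeSpectrum.asIdeal hn'
  have hIn : I ≤ n := by
    rw [hn, ← Ideal.map_le_iff_le_comap, map_eq]
    exact hIm
  have hKn' : K ≤ n'.asIdeal := by
    rw [← hK, Ideal.map_le_iff_le_comap, hn'c]; exact hIn
  have hgn' : g ∉ n'.asIdeal := by
    intro hg
    have h1 : f ∈ n := by rw [← hn'c, Ideal.mem_comap, hfg]; exact hg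
    exact hm.ne_top (Ideal.eq_top_of_isUnit_mem _ h1 (isUnit_algebraMap A I f))
  obtain ⟨P2, hP2, hP2c⟩ := exists_prime_over B K g n'.asIdeal hKn' hgn'
  have hKP2 : (K.map (algebraMap B (Localization.Away g))).map
      (algebraMap (Localization.Away g) (CLoc B K g)) ≤ P2 :=
    ideal_le_of_le_comap B K g P2 (hP2c ▸ hKn')
  -- contraction of `P2`
  have hc : (P2.comap (lift A B I K f g hu hK.le)).comap (algebraMap A (CLoc A I f)) = n := by
    rw [Ideal.comap_comap]
    have e1 : (lift A B I K f g hu hK.le).comp (algebraMap A (CLoc A I f)) =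
        (algebraMap B (CLoc B K g)).comp (algebraMap A B) :=
      RingHom.ext fun a => lift_algebraMap A B I K f g hu hK.le a
    rw [e1, ← Ideal.comap_comap, hP2c, hn'c]
  have hIP : (I.map (algebraMap A (Localization.Away f))).map
      (algebraMap (Localization.Away f) (CLoc A I f)) ≤ P2.comap (lift A B I K f g hu hK.le) := by
    apply ideal_le_of_le_comap A I f
    rw [hc]; exact hIn
  have hmP : m ≤ P2.comap (lift A B I K f g hu hK.le) :=
    le_of_comap_le hIfg m _ hIm hIP (by rw [hc])
  -- going down
  have hflat := lift_flat A B I K f g hu hK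
  have hgen := hflat.generalizingMap_comap
  have hsp : q ⤳ PrimeSpectrum.comap (lift A B I K f g hu hK.le) ⟨P2, hP2⟩ := by
    rw [← PrimeSpectrum.le_iff_specializes]
    exact hqm.trans hmP
  obtain ⟨Q, -, hQ⟩ := hgen hsp
  exact ⟨Q, hQ⟩

end surj

end CLoc

end Groth.Agent.H8.Rig
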