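import Mathlib
import Groth.Agent.Lib.Helper8.Rig.CLocSpec
import Groth.Agent.Lib.Helper1.LocalCriterion3

set_option autoImplicit false
universe u

namespace Groth.Agent.H8.Rig

/-- descent of flatness of local rings along a flat map -/
theorem flat_atPrime_descent {R S1 S2 : Type u} [CommRing R] [CommRing S1] [CommRing S2]
    (p : R →+* S1) (b : S1 →+* S2) (hb : b.Flat) (Q : PrimeSpectrum S2)
    (h : ((algebraMap S2 (Localization.AtPrime Q.asIdeal)).comp (b.comp p)).Flat) :
    ((algebraMap S1 (Localization.AtPrime (PrimeSpectrum.comap b Q).asIdeal)).comp p).Flat := by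
  have hi := RingHom.Flat.localRingHom hb Q.asIdeal (PrimeSpectrum.comap b Q).asIdeal rfl
  algebraize [(algebraMap S1 (Localization.AtPrime (PrimeSpectrum.comap b Q).asIdeal)).comp p,
    Localization.localRingHom (PrimeSpectrum.comap b Q).asIdeal Q.asIdeal b rfl,
    (algebraMap S2 (Localization.AtPrime Q.asIdeal)).comp (b.comp p)]
  haveI : IsScalarTower R (Localization.AtPrime (PrimeSpectrum.comap b Q).asIdeal)
      (Localization.AtPrime Q.asIdeal) :=
    .of_algebraMap_eq fun x => (Localization.localRingHom_to_map _ _ _ rfl (p x)).symm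
  haveI : IsLocalHom (algebraMap (Localization.AtPrime (PrimeSpectrum.comap b Q).asIdeal)
      (Localization.AtPrime Q.asIdeal)) :=
    Localization.isLocalHom_localRingHom _ _ _ rfl
  haveI : Module.FaithfullyFlat (Localization.AtPrime (PrimeSpectrum.comap b Q).asIdeal)
      (Localization.AtPrime Q.asIdeal) := Module.FaithfullyFlat.of_flat_of_isLocalHom
  rw [RingHom.Flat]
  exact Groth.Agent.H1.flat_of_flat_of_faithfullyFlat_module R
    (Localization.AtPrime (PrimeSpectrum.comap b Q).asIdeal) (Localization.AtPrime Q.asIdeal)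

end Groth.Agent.H8.Rig
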