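import Mathlib
import Groth.Agent.Lib.Helper8.Rig.Descent

set_option autoImplicit false
universe u
open TensorProduct

namespace Groth.Agent.H8.Rig

/-- flatness in a commutative square of rings with flat vertical maps, when the left vertical
map is "unramified" at the prime in question (fibrewise criterion). -/
theorem flat_atPrime_of_square {R1 S1 R2 S2 : Type u} [CommRing R1] [CommRing S1] [CommRing R2]
    [CommRing S2] [IsNoetherianRing R2] [IsNoetherianRing S2]
    (p1 : R1 →+* S1) (a : R1 →+* R2) (b : S1 →+* S2) (p2 : R2 →+* S2)
    (hcomm : b.comp p1 = p2.comp a) (hb : b.Flat)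
    (Q : Ideal S2) [Q.IsPrime]
    (h1 : ((algebraMap S1 (Localization.AtPrime (Q.comap b))).comp p1).Flat)
    (hmax : (((Q.comap p2).comap a).map a).map
      (algebraMap R2 (Localization.AtPrime (Q.comap p2))) =
      IsLocalRing.maximalIdeal (Localization.AtPrime (Q.comap p2))) :
    ((algebraMap S2 (Localization.AtPrime Q)).comp p2).Flat := by
  -- `T = (S2)_Q` is flat over `R1`
  have hlb := RingHom.Flat.localRingHom hb Q (Q.comap b) rfl
  have hT1 := h1.comp hlb
  have e1 : (Localization.localRingHom (Q.comap b) Q b rfl).comp
      ((algebraMap S1 (Localization.AtPrime (Q.comap b))).comp p1) =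
      (algebraMap S2 (Localization.AtPrime Q)).comp (p2.comp a) := by
    rw [← hcomm]
    refine RingHom.ext fun x => ?_
    exact Localization.localRingHom_to_map _ _ _ rfl (p1 x)
  rw [e1] at hT1
  have hP1 : (Q.comap p2).comap a = Q.comap (p2.comp a) := Ideal.comap_comap a p2
  have hT2 := localRingHom_flat_of_flat_atPrime (p2.comp a) Q ((Q.comap p2).comap a) hP1 hT1
  have e2 : Localization.localRingHom ((Q.comap p2).comap a) Q (p2.comp a) hP1 =
      (Localization.localRingHom (Q.comap p2) Q p2 rfl).comp
        (Localization.localRingHom ((Q.comap p2).comap a) (Q.comap p2) a rfl) :=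
    Localization.localRingHom_comp _ _ _ _ rfl _ rfl
  rw [e2] at hT2
  -- algebra structures
  algebraize [Localization.localRingHom ((Q.comap p2).comap a) (Q.comap p2) a rfl,
    Localization.localRingHom (Q.comap p2) Q p2 rfl,
    (Localization.localRingHom (Q.comap p2) Q p2 rfl).comp
        (Localization.localRingHom ((Q.comap p2).comap a) (Q.comap p2) a rfl)]
  haveI : IsScalarTower (Localization.AtPrime ((Q.comap p2).comap a))
      (Localization.AtPrime (Q.comap p2)) (Localization.AtPrime Q) :=
    .of_algebraMap_eq fun x => rfl
  haveI : IsLocalHom (algebraMap (Localization.AtPrime ((Q.comap p2).comap a))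
      (Localization.AtPrime (Q.comap p2))) := Localization.isLocalHom_localRingHom _ _ _ rfl
  haveI : IsLocalHom (algebraMap (Localization.AtPrime (Q.comap p2)) (Localization.AtPrime Q)) :=
    Localization.isLocalHom_localRingHom _ _ _ rfl
  haveI : Module.Flat (Localization.AtPrime ((Q.comap p2).comap a)) (Localization.AtPrime Q) := hT2
  -- the fibre ring is a field
  have hm : (IsLocalRing.maximalIdeal (Localization.AtPrime ((Q.comap p2).comap a))).map
      (algebraMap (Localization.AtPrime ((Q.comap p2).comap a))
        (Localization.AtPrime (Q.comap p2))) =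
      IsLocalRing.maximalIdeal (Localization.AtPrime (Q.comap p2)) := by
    rw [← Localization.AtPrime.map_eq_maximalIdeal, Ideal.map_map, ← hmax, Ideal.map_map]
    congr 1
    refine RingHom.ext fun x => ?_
    exact Localization.localRingHom_to_map _ _ _ rfl x
  haveI hmaxI : ((IsLocalRing.maximalIdeal (Localization.AtPrime ((Q.comap p2).comap a))).map
      (algebraMap (Localization.AtPrime ((Q.comap p2).comap a))
        (Localization.AtPrime (Q.comap p2)))).IsMaximal := by
    rw [hm]; infer_instance
  letI := Ideal.Quotient.field ((IsLocalRing.maximalIdeal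
    (Localization.AtPrime ((Q.comap p2).comap a))).map
      (algebraMap (Localization.AtPrime ((Q.comap p2).comap a))
        (Localization.AtPrime (Q.comap p2))))
  have key := (Groth.Agent.H1.flat_and_flat_of_flat_fibre
    (R := Localization.AtPrime ((Q.comap p2).comap a))
    (S := Localization.AtPrime (Q.comap p2)) (S' := Localization.AtPrime Q)
    (M := Localization.AtPrime Q)).2
  have hl2 : (Localization.localRingHom (Q.comap p2) Q p2 rfl).Flat := key
  have hloc : (algebraMap R2 (Localization.AtPrime (Q.comap p2))).Flat := by
    rw [RingHom.flat_algebraMap_iff]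
    exact IsLocalization.flat _ (Q.comap p2).primeCompl
  have := hloc.comp hl2
  have e3 : (Localization.localRingHom (Q.comap p2) Q p2 rfl).comp
      (algebraMap R2 (Localization.AtPrime (Q.comap p2))) =
      (algebraMap S2 (Localization.AtPrime Q)).comp p2 :=
    RingHom.ext fun x => Localization.localRingHom_to_map _ _ _ rfl x
  rwa [e3] at this

end Groth.Agent.H8.Rig
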