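import Mathlib
import Groth.Agent.Lib.Helper8.Rig.Finite

set_option autoImplicit false
universe u

open TensorProduct

namespace Groth.Agent.H8.Rig

section LemmaM

variable (A : Type u) [CommRing A] [IsNoetherianRing A] (I : Ideal A) [IsAdicComplete I A]
  (B : Type u) [CommRing B] [Algebra A B] [IsNoetherianRing B]
  [IsAdicComplete (I.map (algebraMap A B)) B]

/-- finiteness of the reduction: quasi-finite over an Artinian quotient. -/
theorem finite_reduction [Algebra.FormallyUnramified A (B ⧸ I.map (algebraMap A B))]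
    [Algebra.FiniteType A (B ⧸ I.map (algebraMap A B))]
    [IsArtinianRing (A ⧸ (I.map (algebraMap A B)).comap (algebraMap A B))] :
    Module.Finite A (B ⧸ I.map (algebraMap A B)) := by
  set J := I.map (algebraMap A B) with hJ
  haveI : Algebra.EssFiniteType (A ⧸ J.comap (algebraMap A B)) (B ⧸ J) :=
    Algebra.EssFiniteType.of_comp A _ _
  haveI : Algebra.FormallyUnramified (A ⧸ J.comap (algebraMap A B)) (B ⧸ J) :=
    Algebra.FormallyUnramified.of_restrictScalars A _ _
  haveI : Module.Finite (A ⧸ J.comap (algebraMap A B)) (B ⧸ J) := Module.Finite.of_quasiFinite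
  exact Module.Finite.trans (A ⧸ J.comap (algebraMap A B)) (B ⧸ J)

theorem finite_of_finite_reduction [Module.Finite A (B ⧸ I.map (algebraMap A B))] :
    Module.Finite A B := by
  set J := I.map (algebraMap A B) with hJ
  haveI hcI : IsAdicComplete I B :=
    (IsAdicComplete.map_algebraMap_iff (S := B) I B).mp inferInstance
  have hsub : (I • ⊤ : Submodule A B) = J.restrictScalars A := by
    rw [hJ, Ideal.smul_top_eq_map]
  haveI : Module.Finite A (B ⧸ (I • ⊤ : Submodule A B)) := by
    rw [hsub]
    exact Module.Finite.equiv (Submodule.Quotient.restrictScalarsEquiv A J).symm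
  exact finite_of_finite_quotient I B

attribute [local instance] Algebra.TensorProduct.rightAlgebra in
/-- formally unramified modulo `I` implies formally unramified (finite type, `IB ⊆ rad B`). -/
theorem formallyUnramified_of_reduction [Algebra.FiniteType A B]
    [Algebra.FormallyUnramified A (B ⧸ I.map (algebraMap A B))] :
    Algebra.FormallyUnramified A B := by
  set J := I.map (algebraMap A B) with hJ
  have hjac : J ≤ Ideal.jacobson ⊥ := IsAdicComplete.le_jacobson_bot J
  haveI : Algebra.FormallyUnramified (A ⧸ I) (B ⧸ J) :=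
    Algebra.FormallyUnramified.of_restrictScalars A _ _
  haveI : Algebra.FormallyUnramified (A ⧸ I) ((A ⧸ I) ⊗[A] B) :=
    Algebra.FormallyUnramified.of_equiv (Algebra.TensorProduct.quotIdealMapEquivQuotTensor B I)
  have e1 := KaehlerDifferential.tensorKaehlerEquivBase A (A ⧸ I) B ((A ⧸ I) ⊗[A] B)
  haveI : Subsingleton ((A ⧸ I) ⊗[A] Ω[B⁄A]) := e1.toEquiv.subsingleton
  have e2 := TensorProduct.quotTensorEquivQuotSMul (Ω[B⁄A]) I
  haveI : Subsingleton (Ω[B⁄A] ⧸ (I • ⊤ : Submodule A (Ω[B⁄A]))) := e2.symm.toEquiv.subsingleton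
  have htop : (I • ⊤ : Submodule A (Ω[B⁄A])) = ⊤ := Submodule.Quotient.subsingleton_iff.mp ‹_›
  have htop' : (J • ⊤ : Submodule B (Ω[B⁄A])) = ⊤ := by
    apply Submodule.restrictScalars_injective A
    rw [hJ, Submodule.restrictScalars_map_smul_eq, Submodule.restrictScalars_top, htop]
  have hfg : (⊤ : Submodule B (Ω[B⁄A])).FG := Module.finite_def.mp inferInstance
  have hbot := Submodule.eq_bot_of_le_smul_of_le_jacobson_bot J ⊤ hfg (by rw [htop']) hjac
  constructor
  exact (Submodule.subsingleton_iff B).mp (subsingleton_of_bot_eq_top hbot.symm)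

end LemmaM

section LocalUnram

/-- if `S` is unramified (ess. finite type) over `R` and `Q` lies over `P`, with `P` mapping to
zero in `S`, then the maximal ideal of `S_Q` is zero. -/
theorem maximalIdeal_eq_bot_of_formallyUnramified (R S : Type u) [CommRing R] [CommRing S]
    [Algebra R S] [Algebra.EssFiniteType R S] [Algebra.FormallyUnramified R S]
    (P : Ideal R) [P.IsPrime] (Q : Ideal S) [Q.IsPrime] [Q.LiesOver P]
    (hP : P.map (algebraMap R S) = ⊥) :
    IsLocalRing.maximalIdeal (Localization.AtPrime Q) = ⊥ := by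
  let := Localization.AtPrime.algebraOfLiesOver P Q
  have h := (Algebra.isUnramifiedAt_iff_map_eq R P Q).mp inferInstance
  rw [← h.2, IsScalarTower.algebraMap_eq R S (Localization.AtPrime Q), ← Ideal.map_map, hP,
    Ideal.map_bot]

end LocalUnram

section Main

theorem isMaximal_of_comap_mk {R : Type*} [CommRing R] (n : Ideal R) (N : Ideal (R ⧸ n))
    (h : (N.comap (Ideal.Quotient.mk n)).IsMaximal) : N.IsMaximal := by
  have hker : RingHom.ker (Ideal.Quotient.mk n) ≤ N.comap (Ideal.Quotient.mk n) := by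
    intro x hx
    change Ideal.Quotient.mk n x ∈ N
    rw [RingHom.mem_ker.mp hx]; exact zero_mem _
  have := Ideal.IsMaximal.map_of_surjective_of_ker_le (Ideal.Quotient.mk_surjective (I := n)) hker
  rwa [Ideal.map_comap_of_surjective _ Ideal.Quotient.mk_surjective] at this

variable (A : Type u) [CommRing A] [IsNoetherianRing A] (I : Ideal A) [IsAdicComplete I A]
  (B : Type u) [CommRing B] [Algebra A B] [IsNoetherianRing B]
  [IsAdicComplete (I.map (algebraMap A B)) B]

/-- `B/PB` is finite and formally unramified over `A`, for `P` rig-closed, when `B/IB` is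
unramified of finite type over `A/I`. -/
theorem finite_and_formallyUnramified_quotient
    (hft : Algebra.FiniteType A (B ⧸ (I.map (algebraMap A B))))
    [Algebra.FormallyUnramified (A ⧸ I) (B ⧸ (I.map (algebraMap A B)))]
    (P : Ideal A) [hP : P.IsPrime] (hp : IsRigClosed A I ⟨P, hP⟩) :
    Module.Finite A (B ⧸ P.map (algebraMap A B)) ∧
      Algebra.FormallyUnramified A (B ⧸ P.map (algebraMap A B)) := by
  have hjacA : I ≤ Ideal.jacobson ⊥ := IsAdicComplete.le_jacobson_bot I
  set PB := P.map (algebraMap A B) with hPB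
  haveI hc1 : IsAdicComplete (I.map (algebraMap A (B ⧸ PB))) (B ⧸ PB) := by
    have := isAdicComplete_quotient B (I.map (algebraMap A B)) PB
    rwa [Ideal.map_map] at this
  set J₁ := I.map (algebraMap A (B ⧸ PB)) with hJ₁
  let g0 : B →ₐ[A] (B ⧸ PB) ⧸ J₁ := (Ideal.Quotient.mkₐ A J₁).comp (Ideal.Quotient.mkₐ A PB)
  have hg0 : ∀ b ∈ I.map (algebraMap A B), g0 b = 0 := by
    intro b hb
    change Ideal.Quotient.mk J₁ (Ideal.Quotient.mk PB b) = 0
    rw [Ideal.Quotient.eq_zero_iff_mem]
    have : Ideal.Quotient.mk PB b ∈ (I.map (algebraMap A B)).map (Ideal.Quotient.mk PB) :=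
      Ideal.mem_map_of_mem _ hb
    rwa [Ideal.map_map] at this
  let g : (B ⧸ I.map (algebraMap A B)) →ₐ[A] (B ⧸ PB) ⧸ J₁ := Ideal.Quotient.liftₐ _ g0 hg0
  have hg : Function.Surjective g := by
    intro y
    obtain ⟨y', rfl⟩ := Ideal.Quotient.mk_surjective y
    obtain ⟨b, rfl⟩ := Ideal.Quotient.mk_surjective y'
    exact ⟨Ideal.Quotient.mk _ b, rfl⟩
  haveI : Algebra.FormallyUnramified A (B ⧸ I.map (algebraMap A B)) :=
    Algebra.FormallyUnramified.comp A (A ⧸ I) _
  haveI : Algebra.FormallyUnramified A ((B ⧸ PB) ⧸ J₁) :=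
    Algebra.FormallyUnramified.of_surjective g hg
  haveI : Algebra.FiniteType A ((B ⧸ PB) ⧸ J₁) := Algebra.FiniteType.of_surjective g hg
  haveI : IsArtinianRing (A ⧸ J₁.comap (algebraMap A (B ⧸ PB))) := by
    rw [isArtinianRing_iff_isNoetherianRing_krullDimLE_zero]
    refine ⟨inferInstance, ?_⟩
    rw [Ring.krullDimLE_zero_iff]
    intro N hN
    apply isMaximal_of_comap_mk
    haveI : (N.comap (Ideal.Quotient.mk (J₁.comap (algebraMap A (B ⧸ PB))))).IsPrime :=
      Ideal.comap_isPrime _ _
    have hle : J₁.comap (algebraMap A (B ⧸ PB)) ≤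
        N.comap (Ideal.Quotient.mk (J₁.comap (algebraMap A (B ⧸ PB)))) := by
      intro x hx
      change Ideal.Quotient.mk _ x ∈ N
      rw [Ideal.Quotient.eq_zero_iff_mem.mpr hx]; exact zero_mem _
    apply isMaximal_of_isRigClosed_of_le hjacA ⟨P, hP⟩ hp
    · refine le_trans ?_ hle
      intro a ha
      change algebraMap A (B ⧸ PB) a ∈ J₁
      have : algebraMap A (B ⧸ PB) a = 0 := by
        change Ideal.Quotient.mk PB (algebraMap A B a) = 0
        rw [Ideal.Quotient.eq_zero_iff_mem]
        exact Ideal.mem_map_of_mem _ ha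
      rw [this]; exact zero_mem _
    · exact le_trans Ideal.le_comap_map hle
  haveI := finite_reduction A I (B ⧸ PB)
  haveI : Module.Finite A (B ⧸ PB) := finite_of_finite_reduction A I (B ⧸ PB)
  exact ⟨inferInstance, formallyUnramified_of_reduction A I (B ⧸ PB)⟩

/-- Stacks: `p B_q = q B_q` under an étale reduction. -/
theorem map_map_eq_maximalIdeal
    (hft : Algebra.FiniteType A (B ⧸ (I.map (algebraMap A B))))
    [Algebra.FormallyUnramified (A ⧸ I) (B ⧸ (I.map (algebraMap A B)))]
    (q : Ideal B) [hq : q.IsPrime] (P : Ideal A) [hP : P.IsPrime]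
    (hPq : P = q.comap (algebraMap A B)) (hp : IsRigClosed A I ⟨P, hP⟩) :
    (P.map (algebraMap A B)).map (algebraMap B (Localization.AtPrime q)) =
      IsLocalRing.maximalIdeal (Localization.AtPrime q) := by
  obtain ⟨hfin, hunr⟩ := finite_and_formallyUnramified_quotient A I B hft P hp
  set PB := P.map (algebraMap A B) with hPB
  have hPBq : PB ≤ q := by
    rw [hPB, Ideal.map_le_iff_le_comap, hPq]
  have hker : RingHom.ker (Ideal.Quotient.mk PB) ≤ q := by rw [Ideal.mk_ker]; exact hPBq
  haveI hq₁ : (q.map (Ideal.Quotient.mk PB)).IsPrime :=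
    Ideal.map_isPrime_of_surjective Ideal.Quotient.mk_surjective hker
  have hcomap : (q.map (Ideal.Quotient.mk PB)).comap (Ideal.Quotient.mk PB) = q := by
    rw [Ideal.comap_map_of_surjective _ Ideal.Quotient.mk_surjective, ← RingHom.ker_eq_comap_bot]
    exact sup_eq_left.mpr hker
  haveI : (q.map (Ideal.Quotient.mk PB)).LiesOver P := by
    constructor
    change P = ((q.map (Ideal.Quotient.mk PB)).comap (Ideal.Quotient.mk PB)).comap (algebraMap A B)
    rw [hcomap, hPq]
  have hPmap : P.map (algebraMap A (B ⧸ PB)) = ⊥ := by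
    have : algebraMap A (B ⧸ PB) = (Ideal.Quotient.mk PB).comp (algebraMap A B) := rfl
    rw [this, ← Ideal.map_map, ← hPB, Ideal.map_quotient_self]
  have hmax := maximalIdeal_eq_bot_of_formallyUnramified A (B ⧸ PB) P
    (q.map (Ideal.Quotient.mk PB)) hPmap
  rw [← Localization.AtPrime.map_eq_maximalIdeal]
  apply le_antisymm (Ideal.map_mono hPBq)
  rw [Ideal.map_le_iff_le_comap]
  intro x hx
  have h1 : algebraMap (B ⧸ PB) (Localization.AtPrime (q.map (Ideal.Quotient.mk PB)))
      (Ideal.Quotient.mk PB x) ∈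
      IsLocalRing.maximalIdeal (Localization.AtPrime (q.map (Ideal.Quotient.mk PB))) := by
    rw [← Localization.AtPrime.map_eq_maximalIdeal]
    exact Ideal.mem_map_of_mem _ (Ideal.mem_map_of_mem _ hx)
  rw [hmax, Ideal.mem_bot,
    IsLocalization.map_eq_zero_iff (q.map (Ideal.Quotient.mk PB)).primeCompl] at h1
  obtain ⟨⟨s₁, hs₁⟩, hs⟩ := h1
  obtain ⟨s, rfl⟩ := Ideal.Quotient.mk_surjective s₁
  have hsq : s ∉ q := fun h => hs₁ (Ideal.mem_map_of_mem _ h)
  have hsx : s * x ∈ PB := by
    rw [← Ideal.Quotient.eq_zero_iff_mem, map_mul]; exact hs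
  have hu : IsUnit (algebraMap B (Localization.AtPrime q) s) :=
    IsLocalization.map_units (Localization.AtPrime q) (⟨s, hsq⟩ : q.primeCompl)
  rw [Ideal.mem_comap, ← Ideal.unit_mul_mem_iff_mem _ hu, ← map_mul]
  exact Ideal.mem_map_of_mem _ hsx

end Main

end Groth.Agent.H8.Rig
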