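import Mathlib
import Groth.Agent.Lib.Helper8.Rig.Square
import Groth.Agent.Lib.Helper8.Rig.CLocUnram
import Groth.Agent.Lib.Helper8.Rig.Unram

set_option autoImplicit false
universe u

namespace Groth.Agent.H8.Rig

section E

variable (A : Type u) [CommRing A] [IsNoetherianRing A] (I : Ideal A) [IsAdicComplete I A]
  (B : Type u) [CommRing B] [Algebra A B] [IsNoetherianRing B]
  (A2 : Type u) [CommRing A2] [Algebra A A2] [IsNoetherianRing A2]
  [IsAdicComplete (I.map (algebraMap A A2)) A2]
  (B2 : Type u) [CommRing B2] [Algebra A B2] [Algebra B B2] [Algebra A2 B2]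
  [IsScalarTower A B B2] [IsScalarTower A A2 B2] [IsNoetherianRing B2]
  [IsAdicComplete (I.map (algebraMap A B2)) B2]
  [Module.Flat A A2] [Module.Flat B B2]

/-- the hypotheses needed to apply `map_map_eq_maximalIdeal` to `A_{g} → A2_{g}`. -/
theorem hyp_unram (g : A)
    (hftA2 : Algebra.FiniteType A (A2 ⧸ I.map (algebraMap A A2)))
    [Algebra.FormallyUnramified A (A2 ⧸ I.map (algebraMap A A2))]
    (q : Ideal (CLoc A2 (I.map (algebraMap A A2)) (algebraMap A A2 g))) [q.IsPrime]
    (hp : IsRigClosed (CLoc A I g) (I.map (algebraMap A (CLoc A I g)))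
      ⟨q.comap (CLoc.lift A A2 I (I.map (algebraMap A A2)) g (algebraMap A A2 g)
        (IsLocalization.Away.algebraMap_isUnit _) le_rfl), Ideal.comap_isPrime _ _⟩) :
    ((q.comap (CLoc.lift A A2 I (I.map (algebraMap A A2)) g (algebraMap A A2 g)
        (IsLocalization.Away.algebraMap_isUnit _) le_rfl)).map
      (CLoc.lift A A2 I (I.map (algebraMap A A2)) g (algebraMap A A2 g)
        (IsLocalization.Away.algebraMap_isUnit _) le_rfl)).map
      (algebraMap _ (Localization.AtPrime q)) =
      IsLocalRing.maximalIdeal (Localization.AtPrime q) := by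
  letI alg : Algebra (CLoc A I g) (CLoc A2 (I.map (algebraMap A A2)) (algebraMap A A2 g)) :=
    (CLoc.lift A A2 I (I.map (algebraMap A A2)) g (algebraMap A A2 g)
        (IsLocalization.Away.algebraMap_isUnit _) le_rfl).toAlgebra
  haveI := CLoc.isNoetherianRing A I g
  haveI := CLoc.isNoetherianRing A2 (I.map (algebraMap A A2)) (algebraMap A A2 g)
  haveI := CLoc.isAdicComplete A I g
  haveI tower : IsScalarTower A (CLoc A I g)
      (CLoc A2 (I.map (algebraMap A A2)) (algebraMap A A2 g)) :=
    .of_algebraMap_eq fun x => by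
      rw [IsScalarTower.algebraMap_apply A A2 (CLoc A2 (I.map (algebraMap A A2)) (algebraMap A A2 g))]
      exact (CLoc.lift_algebraMap A A2 I _ g _ _ le_rfl x).symm
  have hideal : (I.map (algebraMap A (CLoc A I g))).map
      (algebraMap (CLoc A I g) (CLoc A2 (I.map (algebraMap A A2)) (algebraMap A A2 g))) =
      (I.map (algebraMap A A2)).map
        (algebraMap A2 (CLoc A2 (I.map (algebraMap A A2)) (algebraMap A A2 g))) := by
    have heq : (algebraMap (CLoc A I g)
        (CLoc A2 (I.map (algebraMap A A2)) (algebraMap A A2 g))).comp (algebraMap A (CLoc A I g)) =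
        (algebraMap A2 (CLoc A2 (I.map (algebraMap A A2)) (algebraMap A A2 g))).comp
          (algebraMap A A2) :=
      (IsScalarTower.algebraMap_eq A (CLoc A I g)
        (CLoc A2 (I.map (algebraMap A A2)) (algebraMap A A2 g))).symm.trans
      (IsScalarTower.algebraMap_eq A A2 (CLoc A2 (I.map (algebraMap A A2)) (algebraMap A A2 g)))
    exact (Ideal.map_map _ _).trans ((congrArg (fun h => I.map h) heq).trans
      (Ideal.map_map _ _).symm)
  haveI : IsAdicComplete ((I.map (algebraMap A (CLoc A I g))).map
      (algebraMap (CLoc A I g) (CLoc A2 (I.map (algebraMap A A2)) (algebraMap A A2 g))))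
      (CLoc A2 (I.map (algebraMap A A2)) (algebraMap A A2 g)) := by
    rw [hideal]
    exact CLoc.isAdicComplete A2 (I.map (algebraMap A A2)) (algebraMap A A2 g)
  have hft0 := CLoc.finiteType_quotient A2 (I.map (algebraMap A A2)) (algebraMap A A2 g) A hftA2
  have hfu0 := CLoc.formallyUnramified_quotient A2 (I.map (algebraMap A A2)) (algebraMap A A2 g) A
  have key : ∀ J : Ideal (CLoc A2 (I.map (algebraMap A A2)) (algebraMap A A2 g)),
      J = (I.map (algebraMap A A2)).map
        (algebraMap A2 (CLoc A2 (I.map (algebraMap A A2)) (algebraMap A A2 g))) →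
      Algebra.FiniteType A (CLoc A2 (I.map (algebraMap A A2)) (algebraMap A A2 g) ⧸ J) ∧
      Algebra.FormallyUnramified A (CLoc A2 (I.map (algebraMap A A2)) (algebraMap A A2 g) ⧸ J) := by
    rintro J rfl
    exact ⟨hft0, hfu0⟩
  obtain ⟨hft1, hfu1⟩ := key _ hideal
  have hft : Algebra.FiniteType (CLoc A I g)
      (CLoc A2 (I.map (algebraMap A A2)) (algebraMap A A2 g) ⧸
        (I.map (algebraMap A (CLoc A I g))).map
      (algebraMap (CLoc A I g) (CLoc A2 (I.map (algebraMap A A2)) (algebraMap A A2 g)))) :=
    Algebra.FiniteType.of_restrictScalars_finiteType A _ _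
  haveI : IsScalarTower A (CLoc A I g ⧸ I.map (algebraMap A (CLoc A I g)))
      (CLoc A2 (I.map (algebraMap A A2)) (algebraMap A A2 g) ⧸
        (I.map (algebraMap A (CLoc A I g))).map
      (algebraMap (CLoc A I g) (CLoc A2 (I.map (algebraMap A A2)) (algebraMap A A2 g)))) :=
    .of_algebraMap_eq fun x => by
      rw [IsScalarTower.algebraMap_apply A (CLoc A I g)
        (CLoc A I g ⧸ I.map (algebraMap A (CLoc A I g))),
        ← IsScalarTower.algebraMap_apply (CLoc A I g)
          (CLoc A I g ⧸ I.map (algebraMap A (CLoc A I g))),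
        ← IsScalarTower.algebraMap_apply A (CLoc A I g)]
  haveI : Algebra.FormallyUnramified (CLoc A I g ⧸ I.map (algebraMap A (CLoc A I g)))
      (CLoc A2 (I.map (algebraMap A A2)) (algebraMap A A2 g) ⧸
        (I.map (algebraMap A (CLoc A I g))).map
      (algebraMap (CLoc A I g) (CLoc A2 (I.map (algebraMap A A2)) (algebraMap A A2 g)))) :=
    Algebra.FormallyUnramified.of_restrictScalars A _ _
  exact map_map_eq_maximalIdeal (CLoc A I g) (I.map (algebraMap A (CLoc A I g)))
    (CLoc A2 (I.map (algebraMap A A2)) (algebraMap A A2 g)) hft q _ rfl hp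

/-- étale localization of rig-flatness: the naive conclusion, abstract form. -/
theorem flat_atPrime_of_etale_square
    (hftA2 : Algebra.FiniteType A (A2 ⧸ I.map (algebraMap A A2)))
    (hftB2 : Algebra.FiniteType A (B2 ⧸ I.map (algebraMap A B2)))
    [Algebra.FormallyUnramified A (A2 ⧸ I.map (algebraMap A A2))]
    (hAB : ∀ (g : A) (Q : PrimeSpectrum (CLoc B (I.map (algebraMap A B)) (algebraMap A B g))),
      IsRigClosed (CLoc B (I.map (algebraMap A B)) (algebraMap A B g))
        (((I.map (algebraMap A B)).map (algebraMap B (Localization.Away (algebraMap A B g)))).map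
          (algebraMap (Localization.Away (algebraMap A B g))
            (CLoc B (I.map (algebraMap A B)) (algebraMap A B g)))) Q →
      ((algebraMap (CLoc B (I.map (algebraMap A B)) (algebraMap A B g))
        (Localization.AtPrime Q.asIdeal)).comp
        (CLoc.lift A B I (I.map (algebraMap A B)) g (algebraMap A B g)
          (IsLocalization.Away.algebraMap_isUnit _) le_rfl)).Flat)
    (q : PrimeSpectrum B2) (hq : IsRigClosed B2 (I.map (algebraMap A B2)) q) :
    ((algebraMap B2 (Localization.AtPrime q.asIdeal)).comp (algebraMap A2 B2)).Flat := by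
  have hIfg : I.FG := IsNoetherian.noetherian I
  obtain ⟨g, hgu, hg⟩ := exists_rigClosed_below A I B2 hftB2 q hq
  have hu1 : IsUnit (algebraMap B (Localization.Away (algebraMap A B g)) (algebraMap A B g)) :=
    IsLocalization.Away.algebraMap_isUnit _
  have hu2 : IsUnit (algebraMap A2 (Localization.Away (algebraMap A A2 g)) (algebraMap A A2 g)) :=
    IsLocalization.Away.algebraMap_isUnit _
  have hu3 : IsUnit (algebraMap B2 (Localization.Away (algebraMap A B2 g)) (algebraMap A B2 g)) :=
    IsLocalization.Away.algebraMap_isUnit _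
  have hu4 : IsUnit (algebraMap B2 (Localization.Away (algebraMap A B2 g))
      (algebraMap B B2 (algebraMap A B g))) := by
    rw [← IsScalarTower.algebraMap_apply A B B2]; exact hu3
  have hu5 : IsUnit (algebraMap B2 (Localization.Away (algebraMap A B2 g))
      (algebraMap A2 B2 (algebraMap A A2 g))) := by
    rw [← IsScalarTower.algebraMap_apply A A2 B2]; exact hu3
  have hK1 : (I.map (algebraMap A B)).map (algebraMap B B2) = I.map (algebraMap A B2) := by
    rw [Ideal.map_map, ← IsScalarTower.algebraMap_eq]
  have hK2 : (I.map (algebraMap A A2)).map (algebraMap A2 B2) = I.map (algebraMap A B2) := by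
    rw [Ideal.map_map, ← IsScalarTower.algebraMap_eq]
  have c1 := CLoc.lift_trans A B B2 I (I.map (algebraMap A B)) (I.map (algebraMap A B2)) g
    (algebraMap A B g) (algebraMap A B2 g) hIfg (IsNoetherian.noetherian _) hu1 hu4 hu3 le_rfl
    hK1.le le_rfl
  have c2 := CLoc.lift_trans A A2 B2 I (I.map (algebraMap A A2)) (I.map (algebraMap A B2)) g
    (algebraMap A A2 g) (algebraMap A B2 g) hIfg (IsNoetherian.noetherian _) hu2 hu5 hu3 le_rfl
    hK2.le le_rfl
  haveI := CLoc.isNoetherianRing B (I.map (algebraMap A B)) (algebraMap A B g)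
  haveI := CLoc.isNoetherianRing A2 (I.map (algebraMap A A2)) (algebraMap A A2 g)
  haveI := CLoc.isNoetherianRing B2 (I.map (algebraMap A B2)) (algebraMap A B2 g)
  -- the prime `Q = q B2_{g}`
  obtain ⟨hQprime, hQbij⟩ := isPrime_map_and_bijective B2 (I.map (algebraMap A B2)) q.asIdeal
    (algebraMap A B2 g) (Localization.Away (algebraMap A B2 g)) hgu
  have hQc : (q.asIdeal.map (algebraMap B2 (CLoc B2 (I.map (algebraMap A B2))
      (algebraMap A B2 g)))).comap (algebraMap B2 (CLoc B2 (I.map (algebraMap A B2))
      (algebraMap A B2 g))) = q.asIdeal := by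
    apply le_antisymm _ Ideal.le_comap_map
    intro x hx
    have h0 : Ideal.quotientMap (q.asIdeal.map (algebraMap B2 (CLoc B2 (I.map (algebraMap A B2))
      (algebraMap A B2 g)))) (algebraMap B2 (CLoc B2 (I.map (algebraMap A B2))
      (algebraMap A B2 g))) Ideal.le_comap_map (Ideal.Quotient.mk q.asIdeal x) = 0 := by
      rw [Ideal.quotientMap_mk, Ideal.Quotient.eq_zero_iff_mem]
      exact hx
    have h1 := hQbij.1 (h0.trans (map_zero _).symm)
    exact Ideal.Quotient.eq_zero_iff_mem.mp h1
  have hQI : ¬ ((I.map (algebraMap A B2)).map (algebraMap B2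
      (Localization.Away (algebraMap A B2 g)))).map
      (algebraMap (Localization.Away (algebraMap A B2 g))
        (CLoc B2 (I.map (algebraMap A B2)) (algebraMap A B2 g))) ≤
      q.asIdeal.map (algebraMap B2 (CLoc B2 (I.map (algebraMap A B2)) (algebraMap A B2 g))) := by
    intro hle
    apply hq.1
    rw [← hQc, ← Ideal.map_le_iff_le_comap, CLoc.map_eq]
    exact hle
  -- the prime of `B_{g}`
  have hqS : ¬ ((I.map (algebraMap A B)).map (algebraMap B
      (Localization.Away (algebraMap A B g)))).map
      (algebraMap (Localization.Away (algebraMap A B g))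
        (CLoc B (I.map (algebraMap A B)) (algebraMap A B g))) ≤
      (q.asIdeal.map (algebraMap B2 (CLoc B2 (I.map (algebraMap A B2))
        (algebraMap A B2 g)))).comap
        (CLoc.lift B B2 (I.map (algebraMap A B)) (I.map (algebraMap A B2)) (algebraMap A B g)
          (algebraMap A B2 g) hu4 hK1.le) := by
    intro hle
    apply hQI
    have h1 := Ideal.map_le_iff_le_comap.mpr hle
    have h2 := (CLoc.map_lift_eq B B2 (I.map (algebraMap A B)) (I.map (algebraMap A B2))
      (algebraMap A B g) (algebraMap A B2 g) hu4 hK1.le).trans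
      (congrArg (fun L : Ideal B2 => (L.map (algebraMap B2
        (Localization.Away (algebraMap A B2 g)))).map
        (algebraMap (Localization.Away (algebraMap A B2 g))
        (CLoc B2 (I.map (algebraMap A B2)) (algebraMap A B2 g)))) hK1)
    rw [h2] at h1
    exact h1
  have F1 := flat_atPrime_of_rigFlat (CLoc.lift A B I (I.map (algebraMap A B)) g (algebraMap A B g)
    hu1 le_rfl) _ (hAB g) ⟨_, Ideal.comap_isPrime (CLoc.lift B B2 (I.map (algebraMap A B))
      (I.map (algebraMap A B2)) (algebraMap A B g) (algebraMap A B2 g) hu4 hK1.le)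
      (q.asIdeal.map (algebraMap B2 (CLoc B2 (I.map (algebraMap A B2))
        (algebraMap A B2 g))))⟩ hqS
  -- rig-closedness below
  obtain ⟨hpprime, hpI, hpmax⟩ := hg (CLoc.lift A B2 I (I.map (algebraMap A B2)) g
    (algebraMap A B2 g) hu3 le_rfl) (CLoc.lift_comp A B2 I _ g _ hu3 le_rfl)
  have hcomap : ((q.asIdeal.map (algebraMap B2 (CLoc B2 (I.map (algebraMap A B2))
        (algebraMap A B2 g)))).comap (CLoc.lift A2 B2 (I.map (algebraMap A A2))
        (I.map (algebraMap A B2)) (algebraMap A A2 g) (algebraMap A B2 g) hu5 hK2.le)).comap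
        (CLoc.lift A A2 I (I.map (algebraMap A A2)) g (algebraMap A A2 g) hu2 le_rfl) =
      (q.asIdeal.map (algebraMap B2 (CLoc B2 (I.map (algebraMap A B2))
        (algebraMap A B2 g)))).comap (CLoc.lift A B2 I (I.map (algebraMap A B2)) g
        (algebraMap A B2 g) hu3 le_rfl) := by
    rw [Ideal.comap_comap, c2]
  have hp : IsRigClosed (CLoc A I g) (I.map (algebraMap A (CLoc A I g)))
      ⟨((q.asIdeal.map (algebraMap B2 (CLoc B2 (I.map (algebraMap A B2))
        (algebraMap A B2 g)))).comap (CLoc.lift A2 B2 (I.map (algebraMap A A2))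
        (I.map (algebraMap A B2)) (algebraMap A A2 g) (algebraMap A B2 g) hu5 hK2.le)).comap
        (CLoc.lift A A2 I (I.map (algebraMap A A2)) g (algebraMap A A2 g) hu2 le_rfl),
        Ideal.comap_isPrime _ _⟩ := by
    refine ⟨?_, ?_⟩
    · change ¬ _ ≤ Ideal.comap _ (Ideal.comap _ _)
      rw [hcomap]; exact hpI
    · intro y hle hyI
      apply PrimeSpectrum.ext
      change y.asIdeal = Ideal.comap _ (Ideal.comap _ _)
      rw [hcomap]
      apply hpmax y _ hyI
      rw [← hcomap]; exact hle
  have hmax := hyp_unram A I A2 g hftA2 ((q.asIdeal.map (algebraMap B2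
    (CLoc B2 (I.map (algebraMap A B2)) (algebraMap A B2 g)))).comap
    (CLoc.lift A2 B2 (I.map (algebraMap A A2))
        (I.map (algebraMap A B2)) (algebraMap A A2 g) (algebraMap A B2 g) hu5 hK2.le)) hp
  have hflatb := CLoc.lift_flat B B2 (I.map (algebraMap A B)) (I.map (algebraMap A B2))
    (algebraMap A B g) (algebraMap A B2 g) hu4 hK1
  have F2 := flat_atPrime_of_square
    (CLoc.lift A B I (I.map (algebraMap A B)) g (algebraMap A B g) hu1 le_rfl)
    (CLoc.lift A A2 I (I.map (algebraMap A A2)) g (algebraMap A A2 g) hu2 le_rfl)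
    (CLoc.lift B B2 (I.map (algebraMap A B)) (I.map (algebraMap A B2)) (algebraMap A B g)
          (algebraMap A B2 g) hu4 hK1.le)
    (CLoc.lift A2 B2 (I.map (algebraMap A A2))
        (I.map (algebraMap A B2)) (algebraMap A A2 g) (algebraMap A B2 g) hu5 hK2.le)
    (c1.trans c2.symm) hflatb
    (q.asIdeal.map (algebraMap B2 (CLoc B2 (I.map (algebraMap A B2)) (algebraMap A B2 g))))
    F1 hmax
  -- descend to `A2 → B2`
  have hfl : (algebraMap A2 (CLoc A2 (I.map (algebraMap A A2)) (algebraMap A A2 g))).Flat :=
    RingHom.flat_algebraMap_iff.mpr (CLoc.flat A2 _ _)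
  have F3 := hfl.comp F2
  have e : (CLoc.lift A2 B2 (I.map (algebraMap A A2))
        (I.map (algebraMap A B2)) (algebraMap A A2 g) (algebraMap A B2 g) hu5 hK2.le).comp
      (algebraMap A2 (CLoc A2 (I.map (algebraMap A A2)) (algebraMap A A2 g))) =
      (algebraMap B2 (CLoc B2 (I.map (algebraMap A B2)) (algebraMap A B2 g))).comp
        (algebraMap A2 B2) :=
    RingHom.ext fun x => CLoc.lift_algebraMap A2 B2 _ _ _ _ hu5 hK2.le x
  rw [RingHom.comp_assoc, e] at F3
  have hγ : (algebraMap B2 (CLoc B2 (I.map (algebraMap A B2)) (algebraMap A B2 g))).Flat :=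
    RingHom.flat_algebraMap_iff.mpr (CLoc.flat B2 _ _)
  have F4 := flat_atPrime_descent (algebraMap A2 B2)
    (algebraMap B2 (CLoc B2 (I.map (algebraMap A B2)) (algebraMap A B2 g))) hγ
    ⟨_, hQprime⟩ F3
  have hqq : PrimeSpectrum.comap (algebraMap B2 (CLoc B2 (I.map (algebraMap A B2))
      (algebraMap A B2 g))) ⟨_, hQprime⟩ = q := PrimeSpectrum.ext hQc
  rw [hqq] at F4
  exact F4

end E

section wrap

/-- transitivity of "topologically of finite type" -/
theorem finiteType_quotient_trans (A B B' : Type u) [CommRing A] [CommRing B] [CommRing B']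
    [Algebra A B] [Algebra B B'] [Algebra A B'] [IsScalarTower A B B'] (I : Ideal A)
    (h1 : Algebra.FiniteType A (B ⧸ I.map (algebraMap A B)))
    (h2 : Algebra.FiniteType B (B' ⧸ I.map (algebraMap A B'))) :
    Algebra.FiniteType A (B' ⧸ I.map (algebraMap A B')) := by
  have hle : I.map (algebraMap A B) ≤ (I.map (algebraMap A B')).comap (algebraMap B B') := by
    rw [← Ideal.map_le_iff_le_comap, Ideal.map_map, ← IsScalarTower.algebraMap_eq]
  letI : Algebra (B ⧸ I.map (algebraMap A B)) (B' ⧸ I.map (algebraMap A B')) :=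
    (Ideal.quotientMap (I.map (algebraMap A B')) (algebraMap B B') hle).toAlgebra
  haveI : IsScalarTower B (B ⧸ I.map (algebraMap A B)) (B' ⧸ I.map (algebraMap A B')) :=
    .of_algebraMap_eq fun x => rfl
  haveI : IsScalarTower A (B ⧸ I.map (algebraMap A B)) (B' ⧸ I.map (algebraMap A B')) :=
    .of_algebraMap_eq fun x => by
      rw [IsScalarTower.algebraMap_apply A B (B ⧸ I.map (algebraMap A B)),
        ← IsScalarTower.algebraMap_apply B (B ⧸ I.map (algebraMap A B)),
        ← IsScalarTower.algebraMap_apply A B]
  haveI : Algebra.FiniteType (B ⧸ I.map (algebraMap A B)) (B' ⧸ I.map (algebraMap A B')) :=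
    Algebra.FiniteType.of_restrictScalars_finiteType B _ _
  exact Algebra.FiniteType.trans h1 inferInstance

variable (A : Type u) [CommRing A] [IsNoetherianRing A] (I : Ideal A) [IsAdicComplete I A]
  (B : Type u) [CommRing B] [Algebra A B] [IsNoetherianRing B]
  (A' : Type u) [CommRing A'] [Algebra A A'] [IsNoetherianRing A']
  (B' : Type u) [CommRing B'] [Algebra A B'] [Algebra B B'] [Algebra A' B']
  [IsScalarTower A B B'] [IsScalarTower A A' B'] [IsNoetherianRing B']
  [Module.Flat A A'] [Module.Flat B B']

theorem rigFlat_etale_localization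
    (hftB : Algebra.FiniteType A (B ⧸ I.map (algebraMap A B)))
    (hftA' : Algebra.FiniteType A (A' ⧸ I.map (algebraMap A A')))
    (hftB'B : Algebra.FiniteType B (B' ⧸ I.map (algebraMap A B')))
    [Algebra.FormallyUnramified A (A' ⧸ I.map (algebraMap A A'))]
    (hAB : ∀ (g : A) (Q : PrimeSpectrum (CLoc B (I.map (algebraMap A B)) (algebraMap A B g))),
      IsRigClosed (CLoc B (I.map (algebraMap A B)) (algebraMap A B g))
        (((I.map (algebraMap A B)).map (algebraMap B (Localization.Away (algebraMap A B g)))).map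
          (algebraMap (Localization.Away (algebraMap A B g))
            (CLoc B (I.map (algebraMap A B)) (algebraMap A B g)))) Q →
      ((algebraMap (CLoc B (I.map (algebraMap A B)) (algebraMap A B g))
        (Localization.AtPrime Q.asIdeal)).comp
        (CLoc.lift A B I (I.map (algebraMap A B)) g (algebraMap A B g)
          (IsLocalization.Away.algebraMap_isUnit _) le_rfl)).Flat)
    (f' : A')
    (q' : PrimeSpectrum (CLoc B' ((I.map (algebraMap A A')).map (algebraMap A' B'))
      (algebraMap A' B' f')))
    (hq' : IsRigClosed (CLoc B' ((I.map (algebraMap A A')).map (algebraMap A' B'))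
      (algebraMap A' B' f'))
      ((((I.map (algebraMap A A')).map (algebraMap A' B')).map
        (algebraMap B' (Localization.Away (algebraMap A' B' f')))).map
        (algebraMap (Localization.Away (algebraMap A' B' f'))
          (CLoc B' ((I.map (algebraMap A A')).map (algebraMap A' B')) (algebraMap A' B' f')))) q') :
    ((algebraMap (CLoc B' ((I.map (algebraMap A A')).map (algebraMap A' B'))
      (algebraMap A' B' f')) (Localization.AtPrime q'.asIdeal)).comp
      (CLoc.lift A' B' (I.map (algebraMap A A')) ((I.map (algebraMap A A')).map (algebraMap A' B'))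
        f' (algebraMap A' B' f') (IsLocalization.Away.algebraMap_isUnit _) le_rfl)).Flat := by
  letI alg : Algebra (CLoc A' (I.map (algebraMap A A')) f')
      (CLoc B' ((I.map (algebraMap A A')).map (algebraMap A' B')) (algebraMap A' B' f')) :=
    (CLoc.lift A' B' (I.map (algebraMap A A')) ((I.map (algebraMap A A')).map (algebraMap A' B'))
        f' (algebraMap A' B' f') (IsLocalization.Away.algebraMap_isUnit _) le_rfl).toAlgebra
  haveI : IsScalarTower A (CLoc A' (I.map (algebraMap A A')) f')
      (CLoc B' ((I.map (algebraMap A A')).map (algebraMap A' B')) (algebraMap A' B' f')) :=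
    .of_algebraMap_eq fun x => by
      rw [IsScalarTower.algebraMap_apply A A' (CLoc A' (I.map (algebraMap A A')) f'),
        IsScalarTower.algebraMap_apply A B' (CLoc B' ((I.map (algebraMap A A')).map
          (algebraMap A' B')) (algebraMap A' B' f')),
        IsScalarTower.algebraMap_apply A A' B']
      exact (CLoc.lift_algebraMap A' B' _ _ _ _ _ le_rfl (algebraMap A A' x)).symm
  haveI := CLoc.isNoetherianRing A' (I.map (algebraMap A A')) f'
  haveI := CLoc.isNoetherianRing B' ((I.map (algebraMap A A')).map (algebraMap A' B'))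
    (algebraMap A' B' f')
  -- ideals
  have hI1 : (I.map (algebraMap A A')).map (algebraMap A' (CLoc A' (I.map (algebraMap A A')) f')) =
      I.map (algebraMap A (CLoc A' (I.map (algebraMap A A')) f')) :=
    (Ideal.map_map _ _).trans (congrArg (fun h => I.map h)
      (IsScalarTower.algebraMap_eq A A' (CLoc A' (I.map (algebraMap A A')) f')).symm)
  have hI2 : ((I.map (algebraMap A A')).map (algebraMap A' B')).map (algebraMap B'
      (CLoc B' ((I.map (algebraMap A A')).map (algebraMap A' B')) (algebraMap A' B' f'))) =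
      I.map (algebraMap A (CLoc B' ((I.map (algebraMap A A')).map (algebraMap A' B'))
        (algebraMap A' B' f'))) := by
    have h0 : (I.map (algebraMap A A')).map (algebraMap A' B') = I.map (algebraMap A B') :=
      (Ideal.map_map _ _).trans (congrArg (fun h => I.map h)
        (IsScalarTower.algebraMap_eq A A' B').symm)
    exact (congrArg (fun L : Ideal B' => L.map (algebraMap B'
      (CLoc B' ((I.map (algebraMap A A')).map (algebraMap A' B')) (algebraMap A' B' f')))) h0).trans
      ((Ideal.map_map _ _).trans (congrArg (fun h => I.map h)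
      (IsScalarTower.algebraMap_eq A B' (CLoc B' ((I.map (algebraMap A A')).map
        (algebraMap A' B')) (algebraMap A' B' f'))).symm))
  -- completeness
  have keyA : ∀ J : Ideal (CLoc A' (I.map (algebraMap A A')) f'),
      (I.map (algebraMap A A')).map (algebraMap A' (CLoc A' (I.map (algebraMap A A')) f')) = J →
      IsAdicComplete J (CLoc A' (I.map (algebraMap A A')) f') ∧
      Algebra.FiniteType A (CLoc A' (I.map (algebraMap A A')) f' ⧸ J) ∧
      Algebra.FormallyUnramified A (CLoc A' (I.map (algebraMap A A')) f' ⧸ J) := by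
    rintro J rfl
    exact ⟨CLoc.isAdicComplete A' _ f', CLoc.finiteType_quotient A' _ f' A hftA',
      CLoc.formallyUnramified_quotient A' _ f' A⟩
  obtain ⟨cA, ftA, fuA⟩ := keyA _ hI1
  have hftB' : Algebra.FiniteType A (B' ⧸ (I.map (algebraMap A A')).map (algebraMap A' B')) := by
    have h0 : I.map (algebraMap A B') = (I.map (algebraMap A A')).map (algebraMap A' B') :=
      ((Ideal.map_map _ _).trans (congrArg (fun h => I.map h)
        (IsScalarTower.algebraMap_eq A A' B').symm)).symm
    have h1 := finiteType_quotient_trans A B B' I hftB hftB'B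
    have key : ∀ J : Ideal B', I.map (algebraMap A B') = J → Algebra.FiniteType A (B' ⧸ J) := by
      rintro J rfl; exact h1
    exact key _ h0
  have keyB : ∀ J : Ideal (CLoc B' ((I.map (algebraMap A A')).map (algebraMap A' B'))
        (algebraMap A' B' f')),
      ((I.map (algebraMap A A')).map (algebraMap A' B')).map (algebraMap B'
      (CLoc B' ((I.map (algebraMap A A')).map (algebraMap A' B')) (algebraMap A' B' f'))) = J →
      IsAdicComplete J (CLoc B' ((I.map (algebraMap A A')).map (algebraMap A' B'))
        (algebraMap A' B' f')) ∧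
      Algebra.FiniteType A (CLoc B' ((I.map (algebraMap A A')).map (algebraMap A' B'))
        (algebraMap A' B' f') ⧸ J) := by
    rintro J rfl
    exact ⟨CLoc.isAdicComplete B' _ _, CLoc.finiteType_quotient B' _ _ A hftB'⟩
  obtain ⟨cB, ftB⟩ := keyB _ hI2
  haveI : Module.Flat A' (CLoc A' (I.map (algebraMap A A')) f') := CLoc.flat A' _ f'
  haveI : Module.Flat A (CLoc A' (I.map (algebraMap A A')) f') := Module.Flat.trans A A' _
  haveI : Module.Flat B' (CLoc B' ((I.map (algebraMap A A')).map (algebraMap A' B'))
        (algebraMap A' B' f')) := CLoc.flat B' _ _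
  haveI : Module.Flat B (CLoc B' ((I.map (algebraMap A A')).map (algebraMap A' B'))
        (algebraMap A' B' f')) := Module.Flat.trans B B' _
  have hq2 : IsRigClosed (CLoc B' ((I.map (algebraMap A A')).map (algebraMap A' B'))
      (algebraMap A' B' f')) (I.map (algebraMap A (CLoc B' ((I.map (algebraMap A A')).map
        (algebraMap A' B')) (algebraMap A' B' f')))) q' := by
    have key : ∀ J : Ideal (CLoc B' ((I.map (algebraMap A A')).map (algebraMap A' B'))
        (algebraMap A' B' f')),
        ((((I.map (algebraMap A A')).map (algebraMap A' B')).map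
        (algebraMap B' (Localization.Away (algebraMap A' B' f')))).map
        (algebraMap (Localization.Away (algebraMap A' B' f'))
          (CLoc B' ((I.map (algebraMap A A')).map (algebraMap A' B')) (algebraMap A' B' f')))) = J →
        IsRigClosed _ J q' := by
      rintro J rfl; exact hq'
    exact key _ ((CLoc.map_eq B' _ _).symm.trans hI2)
  exact flat_atPrime_of_etale_square A I B (CLoc A' (I.map (algebraMap A A')) f')
    (CLoc B' ((I.map (algebraMap A A')).map (algebraMap A' B')) (algebraMap A' B' f'))
    ftA ftB hAB q' hq2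

end wrap

end Groth.Agent.H8.Rig
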