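import Mathlib
import Groth.Agent.Lib.Helper8.Rig.CLocMap

set_option autoImplicit false
universe u

namespace Groth.Agent.H8.Rig

open Groth.Agent.H3.CplMap

section comp

variable {T1 T2 T3 : Type u} [CommRing T1] [CommRing T2] [CommRing T3]

theorem evalₐ_cplMap' (f : T1 →+* T2) (J1 : Ideal T1) (J2 : Ideal T2) (h : J1.map f ≤ J2)
    (n : ℕ) (x : AdicCompletion J1 T1) (t : T1)
    (ht : AdicCompletion.evalₐ J1 n x = Ideal.Quotient.mk _ t) :
    AdicCompletion.evalₐ J2 n (cplMap f J1 J2 h x) = Ideal.Quotient.mk _ (f t) := by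
  rw [evalₐ_cplMap]
  change (Ideal.quotientMap (J2 ^ n) f (pow_le_comap f J1 J2 h n))
    ((AdicCompletion.evalₐ J1 n) x) = _
  rw [ht, Ideal.quotientMap_mk]

theorem cplMap_comp (f : T1 →+* T2) (g : T2 →+* T3) (J1 : Ideal T1) (J2 : Ideal T2)
    (J3 : Ideal T3) (h12 : J1.map f ≤ J2) (h23 : J2.map g ≤ J3) (h13 : J1.map (g.comp f) ≤ J3) :
    cplMap (g.comp f) J1 J3 h13 = (cplMap g J2 J3 h23).comp (cplMap f J1 J2 h12) := by
  refine RingHom.ext fun x => ?_
  apply AdicCompletion.ext_evalₐ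
  intro n
  obtain ⟨t, ht⟩ := Ideal.Quotient.mk_surjective (AdicCompletion.evalₐ J1 n x)
  rw [evalₐ_cplMap' (g.comp f) J1 J3 h13 n x t ht.symm]
  have h2 := evalₐ_cplMap' g J2 J3 h23 n _ (f t) (evalₐ_cplMap' f J1 J2 h12 n x t ht.symm)
  exact h2.symm

/-- a ring map which is bijective modulo all powers induces a bijection on completions. -/
theorem cplMap_bijective_of_levelwise (f : T1 →+* T2) (J1 : Ideal T1) (J2 : Ideal T2)
    (h : J1.map f ≤ J2)
    (hinj : ∀ (k : ℕ) (x : T1), f x ∈ J2 ^ k → x ∈ J1 ^ k)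
    (hsurj : ∀ (k : ℕ) (y : T2), ∃ x : T1, y - f x ∈ J2 ^ k) :
    Function.Bijective (cplMap f J1 J2 h) := by
  constructor
  · rw [injective_iff_map_eq_zero]
    intro x hx
    apply AdicCompletion.ext_evalₐ
    intro n
    obtain ⟨t, ht⟩ := Ideal.Quotient.mk_surjective (AdicCompletion.evalₐ J1 n x)
    have h1 := evalₐ_cplMap' f J1 J2 h n x t ht.symm
    rw [hx, map_zero] at h1
    have h2 : t ∈ J1 ^ n := hinj n t (Ideal.Quotient.eq_zero_iff_mem.mp h1.symm)
    rw [← ht, map_zero]
    exact Ideal.Quotient.eq_zero_iff_mem.mpr h2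
  · intro y
    have hch : ∀ n : ℕ, ∃ t : T1, AdicCompletion.evalₐ J2 n y = Ideal.Quotient.mk _ (f t) := by
      intro n
      obtain ⟨u, hu⟩ := Ideal.Quotient.mk_surjective (AdicCompletion.evalₐ J2 n y)
      obtain ⟨t, ht⟩ := hsurj n u
      refine ⟨t, ?_⟩
      rw [← hu, Ideal.Quotient.eq]
      exact ht
    choose t ht using hch
    have hcauchy : ∀ {m n : ℕ}, m ≤ n → t m ≡ t n [SMOD (J1 ^ m • ⊤ : Submodule T1 T1)] := by
      intro m n hmn
      rw [SModEq.sub_mem, smul_eq_mul, Ideal.mul_top]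
      apply hinj
      rw [map_sub, ← Ideal.Quotient.eq, ← ht m]
      have h1 := Groth.Agent.H8.CT.factorPow_evalₐ J2 hmn y
      rw [← h1, ht n]
      rfl
    refine ⟨AdicCompletion.mk J1 T1 (AdicCompletion.AdicCauchySequence.mk J1 T1 t (fun n => hcauchy (Nat.le_succ n))), ?_⟩
    apply AdicCompletion.ext_evalₐ
    intro n
    rw [evalₐ_cplMap, level_mk, ht n]
    rfl

end comp

section lift

variable {T : Type u} [CommRing T] (J : Ideal T) {R : Type u} [CommRing R] (K : Ideal R)
  [IsAdicComplete K R]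

/-- the extension of an adic map to the completion, when the target is complete. -/
noncomputable def liftHom (p : T →+* R) (h : J.map p ≤ K) : AdicCompletion J T →+* R :=
  ((AdicCompletion.ofAlgEquiv K).symm : AdicCompletion K R →+* R).comp (cplMap p J K h)

theorem liftHom_of (p : T →+* R) (h : J.map p ≤ K) (t : T) :
    liftHom J K p h (algebraMap T (AdicCompletion J T) t) = p t := by
  change (AdicCompletion.ofAlgEquiv K).symm (cplMap p J K h (algebraMap T _ t)) = p t
  rw [cplMap_of]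
  exact (AdicCompletion.ofAlgEquiv K).symm.commutes (p t)

theorem liftHom_comp (p : T →+* R) (h : J.map p ≤ K) :
    (liftHom J K p h).comp (algebraMap T (AdicCompletion J T)) = p :=
  RingHom.ext fun t => liftHom_of J K p h t

end lift

end Groth.Agent.H8.Rig
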