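import Mathlib
import Groth.Agent.Lib.Helper8.Rig.CplUniv

set_option autoImplicit false
universe u

namespace Groth.Agent.H8.Rig

namespace CLoc

section liftTo

variable (R : Type u) [CommRing R] (K : Ideal R) (f : R) {E : Type u} [CommRing E] (N : Ideal E)

theorem map_awayLift_le' (p : R →+* E) (hK : K.map p ≤ N) (hf : IsUnit (p f)) :
    (K.map (algebraMap R (Localization.Away f))).map
      (IsLocalization.Away.lift (S := Localization.Away f) f hf) ≤ N := by
  rw [Ideal.map_map, IsLocalization.Away.lift_comp]
  exact hK

/-- extend `p : R → E` (adic, `p f` a unit, `E` complete) to the completed localization. -/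
noncomputable def liftTo [IsAdicComplete N E] (p : R →+* E) (hK : K.map p ≤ N)
    (hf : IsUnit (p f)) : CLoc R K f →+* E :=
  liftHom (K.map (algebraMap R (Localization.Away f))) N
    (IsLocalization.Away.lift (S := Localization.Away f) f hf) (map_awayLift_le' R K f N p hK hf)

theorem liftTo_algebraMap [IsAdicComplete N E] (p : R →+* E) (hK : K.map p ≤ N)
    (hf : IsUnit (p f)) (x : R) :
    liftTo R K f N p hK hf (algebraMap R (CLoc R K f) x) = p x := by
  rw [IsScalarTower.algebraMap_apply R (Localization.Away f) (CLoc R K f)]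
  change liftHom _ N _ _ _ = _
  rw [liftHom_of, IsLocalization.Away.lift_eq]

theorem liftTo_comp [IsAdicComplete N E] (p : R →+* E) (hK : K.map p ≤ N)
    (hf : IsUnit (p f)) :
    (liftTo R K f N p hK hf).comp (algebraMap R (CLoc R K f)) = p :=
  RingHom.ext fun x => liftTo_algebraMap R K f N p hK hf x

/-- ring maps out of a completed localization into a Hausdorff ring are determined on `R`. -/
theorem hom_ext_of_agree (hKfg : K.FG) [IsHausdorff N E] (p1 p2 : CLoc R K f →+* E)
    (h12 : p1.comp (algebraMap R (CLoc R K f)) = p2.comp (algebraMap R (CLoc R K f)))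
    (hN : K.map (p1.comp (algebraMap R (CLoc R K f))) ≤ N) : p1 = p2 := by
  refine hom_ext_of_isHausdorff (K.map (algebraMap R (Localization.Away f))) N
    (Ideal.FG.map hKfg _) p1 p2 ?_ ?_
  · apply IsLocalization.ringHom_ext (Submonoid.powers f)
    rw [RingHom.comp_assoc, RingHom.comp_assoc, ← IsScalarTower.algebraMap_eq]
    exact h12
  · rw [Ideal.map_map, RingHom.comp_assoc, ← IsScalarTower.algebraMap_eq]
    exact hN

end liftTo

end CLoc

end Groth.Agent.H8.Rig
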