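import Mathlib
import Groth.Agent.Lib.Helper8.Rig.CLocLift

set_option autoImplicit false
universe u

open TensorProduct

namespace Groth.Agent.H8.Rig

/-- `D` is a completed pushout of `B` and `C` over `(A, I)`. -/
structure IsCPush (A : Type u) [CommRing A] (I : Ideal A) (B C D : Type u) [CommRing B]
    [CommRing C] [CommRing D] [Algebra A B] [Algebra A C] [Algebra A D] [Algebra B D]
    [Algebra C D] : Prop where
  exists_lift : ∀ (E : Type u) [CommRing E] [Algebra A E]
    [IsAdicComplete (I.map (algebraMap A E)) E] (fB : B →ₐ[A] E) (fC : C →ₐ[A] E),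
    ∃ s : D →+* E, s.comp (algebraMap B D) = (fB : B →+* E) ∧
      s.comp (algebraMap C D) = (fC : C →+* E)
  hom_ext : ∀ (E : Type u) [CommRing E] [Algebra A E]
    [IsHausdorff (I.map (algebraMap A E)) E] (s1 s2 : D →+* E),
    s1.comp (algebraMap A D) = algebraMap A E →
    s1.comp (algebraMap B D) = s2.comp (algebraMap B D) →
    s1.comp (algebraMap C D) = s2.comp (algebraMap C D) → s1 = s2

section tensor

attribute [local instance] Algebra.TensorProduct.rightAlgebra

variable (A : Type u) [CommRing A] (I : Ideal A) (B C : Type u) [CommRing B] [CommRing C]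
  [Algebra A B] [Algebra A C]

theorem map_map_tensor_eq : (I.map (algebraMap A C)).map (algebraMap C (C ⊗[A] B)) =
    I.map (algebraMap A (C ⊗[A] B)) := by
  rw [Ideal.map_map, ← IsScalarTower.algebraMap_eq]

theorem isCPush_tensor (hI : I.FG) :
    IsCPush A I B C (AdicCompletion ((I.map (algebraMap A C)).map (algebraMap C (C ⊗[A] B)))
      (C ⊗[A] B)) := by
  have hKfg : ((I.map (algebraMap A C)).map (algebraMap C (C ⊗[A] B))).FG :=
    Ideal.FG.map (Ideal.FG.map hI _) _
  constructor
  · intro E _ _ _ fB fC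
    let pT : C ⊗[A] B →ₐ[A] E := Algebra.TensorProduct.lift fC fB (fun _ _ => Commute.all _ _)
    have hK : ((I.map (algebraMap A C)).map (algebraMap C (C ⊗[A] B))).map
        (pT : C ⊗[A] B →+* E) ≤ I.map (algebraMap A E) := by
      rw [map_map_tensor_eq, Ideal.map_map]
      exact le_of_eq (congrArg (fun h => I.map h) pT.comp_algebraMap)
    refine ⟨liftHom _ (I.map (algebraMap A E)) (pT : C ⊗[A] B →+* E) hK, ?_, ?_⟩
    · refine RingHom.ext fun b => ?_
      rw [RingHom.comp_apply, IsScalarTower.algebraMap_apply B (C ⊗[A] B), liftHom_of]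
      change pT ((1 : C) ⊗ₜ[A] b) = fB b
      simp [pT]
    · refine RingHom.ext fun c => ?_
      rw [RingHom.comp_apply, IsScalarTower.algebraMap_apply C (C ⊗[A] B), liftHom_of]
      change pT (c ⊗ₜ[A] (1 : B)) = fC c
      simp [pT]
  · intro E _ _ _ s1 s2 hA hB hC
    refine CLoc.hom_ext_of_isHausdorff _ (I.map (algebraMap A E)) hKfg s1 s2 ?_ ?_
    · refine RingHom.ext fun x => ?_
      induction x using TensorProduct.induction_on with
      | zero => simp
      | add x y hx hy => simp only [map_add, hx, hy]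
      | tmul c b =>
        have h1 : (c ⊗ₜ[A] b : C ⊗[A] B) = algebraMap C (C ⊗[A] B) c * algebraMap B (C ⊗[A] B) b := by
          change _ = (c ⊗ₜ[A] (1 : B)) * ((1 : C) ⊗ₜ[A] b)
          rw [Algebra.TensorProduct.tmul_mul_tmul, mul_one, one_mul]
        rw [h1, map_mul, map_mul]
        simp only [RingHom.comp_apply]
        have e1 := congrArg (fun g => g c) hC
        have e2 := congrArg (fun g => g b) hB
        simp only [RingHom.comp_apply] at e1 e2
        rw [← IsScalarTower.algebraMap_apply C (C ⊗[A] B), ← IsScalarTower.algebraMap_apply B (C ⊗[A] B),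
          e1, e2]
    · refine le_of_eq ?_
      refine (congrArg (fun L : Ideal (C ⊗[A] B) => L.map (s1.comp (algebraMap (C ⊗[A] B) _)))
        (map_map_tensor_eq A I B C)).trans ?_
      refine (Ideal.map_map _ _).trans ?_
      refine congrArg (fun h => I.map h) ?_
      rw [RingHom.comp_assoc, ← IsScalarTower.algebraMap_eq, hA]

end tensor

section stab

variable (A : Type u) [CommRing A] (I : Ideal A) (B C D : Type u) [CommRing B]
    [CommRing C] [CommRing D] [Algebra A B] [Algebra A C] [Algebra A D] [Algebra B D]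
    [Algebra C D] [IsScalarTower A B D] [IsScalarTower A C D]

/-- completed pushouts are stable under completed principal localization of `C`. -/
theorem IsCPush.cloc (hI : I.FG) (hP : IsCPush A I B C D) (K_C : Ideal C) (K_D : Ideal D)
    (hKC : I.map (algebraMap A C) = K_C) (hKD : I.map (algebraMap A D) = K_D)
    (f : C) (f' : D) (hf' : algebraMap C D f = f')
    (hu : IsUnit (algebraMap D (Localization.Away f') (algebraMap C D f)))
    (hle : K_C.map (algebraMap C D) ≤ K_D)
    [Algebra (CLoc C K_C f) (CLoc D K_D f')]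
    (halg : algebraMap (CLoc C K_C f) (CLoc D K_D f') = CLoc.lift C D K_C K_D f f' hu hle) :
    IsCPush A I B (CLoc C K_C f) (CLoc D K_D f') := by
  have hKCfg : K_C.FG := hKC ▸ Ideal.FG.map hI _
  have hKDfg : K_D.FG := hKD ▸ Ideal.FG.map hI _
  have key : (algebraMap D (CLoc D K_D f')).comp (algebraMap C D) =
      (algebraMap (CLoc C K_C f) (CLoc D K_D f')).comp (algebraMap C (CLoc C K_C f)) := by
    refine RingHom.ext fun c => ?_
    rw [RingHom.comp_apply, RingHom.comp_apply, halg, CLoc.lift_algebraMap]
  constructor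
  · intro E _ _ _ fB fC'
    let fC : C →ₐ[A] E := fC'.comp (IsScalarTower.toAlgHom A C (CLoc C K_C f))
    obtain ⟨s, hsB, hsC⟩ := hP.exists_lift E fB fC
    have hsA : s.comp (algebraMap A D) = algebraMap A E := by
      rw [IsScalarTower.algebraMap_eq A C D, ← RingHom.comp_assoc, hsC]
      exact fC.comp_algebraMap
    have hK : K_D.map s ≤ I.map (algebraMap A E) := by
      rw [← hKD, Ideal.map_map, hsA]
    have hf : IsUnit (s f') := by
      rw [← hf']
      have h1 : s (algebraMap C D f) = fC' (algebraMap C (CLoc C K_C f) f) :=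
        congrArg (fun g => g f) hsC
      rw [h1]
      exact (CLoc.isUnit_algebraMap C K_C f).map fC'
    have hagree : ((CLoc.liftTo D K_D f' (I.map (algebraMap A E)) s hK hf).comp
        (algebraMap (CLoc C K_C f) (CLoc D K_D f'))).comp (algebraMap C (CLoc C K_C f)) =
        (fC : C →+* E) := by
      rw [RingHom.comp_assoc, ← key, ← RingHom.comp_assoc, CLoc.liftTo_comp, hsC]
    refine ⟨CLoc.liftTo D K_D f' (I.map (algebraMap A E)) s hK hf, ?_, ?_⟩
    · rw [IsScalarTower.algebraMap_eq B D (CLoc D K_D f'), ← RingHom.comp_assoc,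
        CLoc.liftTo_comp, hsB]
    · refine CLoc.hom_ext_of_agree C K_C f (I.map (algebraMap A E)) hKCfg _ _ ?_ ?_
      · rw [hagree]
        rfl
      · rw [hagree, ← hKC, Ideal.map_map]
        exact le_of_eq (congrArg (fun h => I.map h) fC.comp_algebraMap)
  · intro E _ _ _ s1 s2 hA hB hC'
    have h1 : s1.comp (algebraMap D (CLoc D K_D f')) = s2.comp (algebraMap D (CLoc D K_D f')) := by
      refine hP.hom_ext E _ _ ?_ ?_ ?_
      · rw [RingHom.comp_assoc, ← IsScalarTower.algebraMap_eq, hA]
      · rw [RingHom.comp_assoc, RingHom.comp_assoc, ← IsScalarTower.algebraMap_eq, hB]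
      · rw [RingHom.comp_assoc, RingHom.comp_assoc, key, ← RingHom.comp_assoc,
          ← RingHom.comp_assoc, hC']
    refine CLoc.hom_ext_of_agree D K_D f' (I.map (algebraMap A E)) hKDfg s1 s2 h1 ?_
    refine le_of_eq ?_
    refine (congrArg (fun L : Ideal D => L.map (s1.comp (algebraMap D (CLoc D K_D f'))))
      hKD.symm).trans ?_
    refine (Ideal.map_map _ _).trans ?_
    refine congrArg (fun h => I.map h) ?_
    rw [RingHom.comp_assoc, ← IsScalarTower.algebraMap_eq, hA]

end stab

end Groth.Agent.H8.Rig
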