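import Mathlib
import Groth.Agent.Lib.Helper8.Rig.CplUniv
import Groth.Agent.Lib.Helper1.LocalCriterion3

set_option autoImplicit false
universe u

namespace Groth.Agent.H8.Rig

open Groth.Agent.H3.CplMap IsLocalRing

section a

variable (A A' : Type u) [CommRing A] [CommRing A'] [IsNoetherianRing A] [IsNoetherianRing A']
  [IsLocalRing A] [IsLocalRing A'] [Algebra A A'] [IsLocalHom (algebraMap A A')]

/-- the completion of a flat local homomorphism is flat (ring hom form of helper3's lemma). -/
theorem cplHom_flat [Module.Flat A A'] : (cplHom A A').Flat := by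
  obtain ⟨alg, htower, hff⟩ := exists_cpl_tower A A'
  have hJ : (maximalIdeal A).FG := IsNoetherian.noetherian _
  haveI : IsNoetherianRing (EGA4.Cpl A') := Groth.Agent.S0543.result A' _
  haveI hH : IsHausdorff ((maximalIdeal A').map (algebraMap A' (EGA4.Cpl A'))) (EGA4.Cpl A') := by
    haveI := Groth.Agent.H8.CT.isAdicComplete_map (maximalIdeal A') (IsNoetherian.noetherian _)
    infer_instance
  have heq : @algebraMap _ _ _ _ alg = cplHom A A' := by
    refine CLoc.hom_ext_of_isHausdorff (maximalIdeal A)
      ((maximalIdeal A').map (algebraMap A' (EGA4.Cpl A'))) hJ _ _ ?_ ?_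
    · refine RingHom.ext fun a => ?_
      rw [RingHom.comp_apply, RingHom.comp_apply, cplHom_of]
      haveI := isScalarTower_cpl A A'
      rw [← IsScalarTower.algebraMap_apply A (EGA4.Cpl A) (EGA4.Cpl A'),
        ← IsScalarTower.algebraMap_apply A A' (EGA4.Cpl A')]
    · haveI := isScalarTower_cpl A A'
      rw [← IsScalarTower.algebraMap_eq, IsScalarTower.algebraMap_eq A A' (EGA4.Cpl A'),
        ← Ideal.map_map]
      exact Ideal.map_mono (map_maximalIdeal_le A A')
  rw [← heq, RingHom.flat_algebraMap_iff]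
  infer_instance

end a

section b

variable {R S R' S' : Type u} [CommRing R] [CommRing S] [CommRing R'] [CommRing S']
  [IsLocalRing R] [IsLocalRing S] [IsLocalRing R'] [IsLocalRing S']
  [IsNoetherianRing R] [IsNoetherianRing S] [IsNoetherianRing R'] [IsNoetherianRing S']

/-- flatness of a local homomorphism can be checked after passing to isomorphic completions. -/
theorem flat_of_completion_iso (t0 : R →+* S) (t' : R' →+* S') (fA : R →+* R') (fB : S →+* S')
    [IsLocalHom t0] [IsLocalHom t'] [IsLocalHom fA] [IsLocalHom fB]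
    (hcomm : t'.comp fA = fB.comp t0) (ht0 : t0.Flat)
    (hA1 : ∀ (k : ℕ) (x : R), fA x ∈ maximalIdeal R' ^ k → x ∈ maximalIdeal R ^ k)
    (hA2 : ∀ (k : ℕ) (y : R'), ∃ x : R, y - fA x ∈ maximalIdeal R' ^ k)
    (hB1 : ∀ (k : ℕ) (x : S), fB x ∈ maximalIdeal S' ^ k → x ∈ maximalIdeal S ^ k)
    (hB2 : ∀ (k : ℕ) (y : S'), ∃ x : S, y - fB x ∈ maximalIdeal S' ^ k) :
    t'.Flat := by
  have hle : ∀ {X Y : Type u} [CommRing X] [CommRing Y] [IsLocalRing X] [IsLocalRing Y]
      (f : X →+* Y) [IsLocalHom f], (maximalIdeal X).map f ≤ maximalIdeal Y := by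
    intro X Y _ _ _ _ f _
    exact ((IsLocalRing.local_hom_TFAE f).out 0 2).mp ‹IsLocalHom f›
  have bijA := cplMap_bijective_of_levelwise fA _ _ (hle fA) hA1 hA2
  have bijB := cplMap_bijective_of_levelwise fB _ _ (hle fB) hB1 hB2
  have flat0 : (cplMap t0 (maximalIdeal R) (maximalIdeal S) (hle t0)).Flat := by
    algebraize [t0]
    haveI : IsLocalHom (algebraMap R S) := ‹IsLocalHom t0›
    exact cplHom_flat R S
  have hle2 : (maximalIdeal R).map (t'.comp fA) ≤ maximalIdeal S' := by
    rw [← Ideal.map_map]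
    exact (Ideal.map_mono (hle fA)).trans (hle t')
  have hle3 : (maximalIdeal R).map (fB.comp t0) ≤ maximalIdeal S' := by
    rw [← hcomm]; exact hle2
  have e1 := cplMap_comp fA t' _ _ _ (hle fA) (hle t') hle2
  have e2 := cplMap_comp t0 fB _ _ _ (hle t0) (hle fB) hle3
  have e3 : cplMap (t'.comp fA) (maximalIdeal R) (maximalIdeal S') hle2 =
      cplMap (fB.comp t0) (maximalIdeal R) (maximalIdeal S') hle3 := by
    congr 1
  have flat' : (cplMap t' (maximalIdeal R') (maximalIdeal S') (hle t')).Flat := by
    rw [← RingHom.Flat.comp_iff_of_bijective_right bijA, ← e1, e3, e2,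
      RingHom.Flat.comp_iff_of_bijective_left bijB]
    exact flat0
  -- descend
  have hR' : (algebraMap R' (AdicCompletion (maximalIdeal R') R')).Flat :=
    RingHom.flat_algebraMap_iff.mpr inferInstance
  have h1 := hR'.comp flat'
  have e4 : (cplMap t' (maximalIdeal R') (maximalIdeal S') (hle t')).comp
      (algebraMap R' (AdicCompletion (maximalIdeal R') R')) =
      (algebraMap S' (AdicCompletion (maximalIdeal S') S')).comp t' :=
    RingHom.ext fun x => cplMap_of t' _ _ (hle t') x
  rw [e4] at h1
  algebraize [t', (algebraMap S' (AdicCompletion (maximalIdeal S') S')).comp t']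
  haveI : IsScalarTower R' S' (AdicCompletion (maximalIdeal S') S') :=
    .of_algebraMap_eq fun x => rfl
  haveI : Module.FaithfullyFlat S' (AdicCompletion (maximalIdeal S') S') :=
    Module.FaithfullyFlat.of_flat_of_isLocalHom
  haveI : Module.Flat R' (AdicCompletion (maximalIdeal S') S') := h1
  rw [RingHom.Flat]
  exact Groth.Agent.H1.flat_of_flat_of_faithfullyFlat_module R' S'
    (AdicCompletion (maximalIdeal S') S')

end b

end Groth.Agent.H8.Rig
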