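import Mathlib
import Groth.Agent.Lib.Helper8.Rig.CLoc

set_option autoImplicit false
universe u

namespace Groth.Agent.H8.Rig

/-- if `P → B` is "dense and closed" modulo `q^m`, the induced map on local rings is an
isomorphism modulo the `m`-th powers of the maximal ideals. -/
theorem localRingHom_iso_mod_pow {P B : Type u} [CommRing P] [CommRing B] (φ : P →+* B)
    (q : Ideal B) [q.IsPrime] (m : ℕ) (hm : 1 ≤ m)
    (ha : ∀ b : B, ∃ t : P, b - φ t ∈ q ^ m)
    (hb : ∀ t : P, φ t ∈ q ^ m → t ∈ (q.comap φ) ^ m) :
    (∀ x : Localization.AtPrime (q.comap φ),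
      Localization.localRingHom (q.comap φ) q φ rfl x ∈
        (IsLocalRing.maximalIdeal (Localization.AtPrime q)) ^ m →
      x ∈ (IsLocalRing.maximalIdeal (Localization.AtPrime (q.comap φ))) ^ m) ∧
    (∀ y : Localization.AtPrime q, ∃ x : Localization.AtPrime (q.comap φ),
      y - Localization.localRingHom (q.comap φ) q φ rfl x ∈
        (IsLocalRing.maximalIdeal (Localization.AtPrime q)) ^ m) := by
  have hqm : q ^ m ≤ q := Ideal.pow_le_self (by omega)
  have e1 : (IsLocalRing.maximalIdeal (Localization.AtPrime q)) ^ m =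
      (q ^ m).map (algebraMap B (Localization.AtPrime q)) := by
    rw [Ideal.map_pow, Localization.AtPrime.map_eq_maximalIdeal]
  have e2 : (IsLocalRing.maximalIdeal (Localization.AtPrime (q.comap φ))) ^ m =
      ((q.comap φ) ^ m).map (algebraMap P (Localization.AtPrime (q.comap φ))) := by
    rw [Ideal.map_pow, Localization.AtPrime.map_eq_maximalIdeal]
  -- approximating elements outside `q`
  have hout : ∀ t : B, t ∉ q → ∃ t0 : P, t0 ∉ q.comap φ ∧ t - φ t0 ∈ q ^ m := by
    intro t ht
    obtain ⟨t0, ht0⟩ := ha t
    refine ⟨t0, ?_, ht0⟩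
    intro h
    apply ht
    have := q.add_mem (hqm ht0) (Ideal.mem_comap.mp h)
    rwa [sub_add_cancel] at this
  rw [e1, e2]
  constructor
  · intro x hx
    obtain ⟨a, s, rfl⟩ := IsLocalization.exists_mk'_eq (q.comap φ).primeCompl x
    rw [Localization.localRingHom_mk', IsLocalization.mk'_mem_map_algebraMap_iff q.primeCompl] at hx
    obtain ⟨t, ht, hta⟩ := hx
    obtain ⟨t0, ht0, htt0⟩ := hout t ht
    rw [IsLocalization.mk'_mem_map_algebraMap_iff (q.comap φ).primeCompl]
    refine ⟨t0, ht0, hb _ ?_⟩
    have : φ (t0 * a) = t * φ a - (t - φ t0) * φ a := by rw [map_mul]; ring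
    rw [this]
    exact Ideal.sub_mem _ hta (Ideal.mul_mem_right _ _ htt0)
  · intro y
    obtain ⟨b, t, rfl⟩ := IsLocalization.exists_mk'_eq q.primeCompl y
    obtain ⟨b0, hb0⟩ := ha b
    obtain ⟨t0, ht0, htt0⟩ := hout t.1 t.2
    refine ⟨IsLocalization.mk' _ b0 (⟨t0, ht0⟩ : (q.comap φ).primeCompl), ?_⟩
    rw [Localization.localRingHom_mk', ← IsLocalization.mk'_sub,
      IsLocalization.mk'_mem_map_algebraMap_iff q.primeCompl]
    refine ⟨1, Submonoid.one_mem _, ?_⟩
    rw [one_mul]
    have : b * φ t0 - φ b0 * t.1 = (b - φ b0) * φ t0 - φ b0 * (t.1 - φ t0) := by ring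
    simp only
    rw [this]
    exact Ideal.sub_mem _ (Ideal.mul_mem_right _ _ hb0) (Ideal.mul_mem_left _ _ htt0)

end Groth.Agent.H8.Rig

namespace Groth.Agent.H8.Rig

section compl

variable (A : Type u) [CommRing A] [IsNoetherianRing A] (I : Ideal A) [IsAdicComplete I A]
  (P : Type u) [CommRing P] [Algebra A P] [IsNoetherianRing P]

/-- Stacks: `P_{q'} → P^_q` is an isomorphism on completions when `P^/q` is finite over `A`. -/
theorem completion_local_iso
    (q : Ideal (AdicCompletion (I.map (algebraMap A P)) P)) [q.IsPrime]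
    (hfin : Module.Finite A (AdicCompletion (I.map (algebraMap A P)) P ⧸ q))
    (m : ℕ) (hm : 1 ≤ m) :
    (∀ x : Localization.AtPrime (q.comap (algebraMap P (AdicCompletion (I.map (algebraMap A P)) P))),
      Localization.localRingHom _ q (algebraMap P (AdicCompletion (I.map (algebraMap A P)) P)) rfl x ∈
        (IsLocalRing.maximalIdeal (Localization.AtPrime q)) ^ m →
      x ∈ (IsLocalRing.maximalIdeal (Localization.AtPrime
        (q.comap (algebraMap P (AdicCompletion (I.map (algebraMap A P)) P))))) ^ m) ∧
    (∀ y : Localization.AtPrime q, ∃ x : Localization.AtPrime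
        (q.comap (algebraMap P (AdicCompletion (I.map (algebraMap A P)) P))),
      y - Localization.localRingHom _ q
        (algebraMap P (AdicCompletion (I.map (algebraMap A P)) P)) rfl x ∈
        (IsLocalRing.maximalIdeal (Localization.AtPrime q)) ^ m) := by
  have hIPfg : (I.map (algebraMap A P)).FG := IsNoetherian.noetherian (I.map (algebraMap A P))
  haveI : IsNoetherianRing (AdicCompletion (I.map (algebraMap A P)) P) := Groth.Agent.S0543.result P (I.map (algebraMap A P))
  -- `P/(q.comap (algebraMap P (AdicCompletion (I.map (algebraMap A P)) P)))` is finite over `A`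
  haveI := hfin
  haveI : IsNoetherian A (AdicCompletion (I.map (algebraMap A P)) P ⧸ q) := isNoetherian_of_isNoetherianRing_of_finite A _
  haveI hfin1 : Module.Finite A (P ⧸ (q.comap (algebraMap P (AdicCompletion (I.map (algebraMap A P)) P)))) :=
    Module.Finite.of_injective
      (Ideal.quotientMapₐ q (IsScalarTower.toAlgHom A P (AdicCompletion (I.map (algebraMap A P)) P)) le_rfl).toLinearMap
      (Ideal.quotientMap_injective (I := q) (f := algebraMap P (AdicCompletion (I.map (algebraMap A P)) P)))
  -- `P/(q.comap (algebraMap P (AdicCompletion (I.map (algebraMap A P)) P)))^k` is finite over `A`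
  have hfink : ∀ k : ℕ, Module.Finite A (P ⧸ (q.comap (algebraMap P (AdicCompletion (I.map (algebraMap A P)) P))) ^ k) := by
    intro k
    rcases Nat.eq_zero_or_pos k with rfl | hk
    · rw [pow_zero, Ideal.one_eq_top]; infer_instance
    have hle : (q.comap (algebraMap P (AdicCompletion (I.map (algebraMap A P)) P))) ^ k ≤ (q.comap (algebraMap P (AdicCompletion (I.map (algebraMap A P)) P))) := Ideal.pow_le_self (by omega)
    refine Module.finite_of_surjective_of_ker_le_nilradical
      (Ideal.Quotient.factorₐ A hle) (Ideal.Quotient.factor_surjective hle) ?_ ?_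
    · have hker : RingHom.ker (Ideal.Quotient.factorₐ A hle) = (q.comap (algebraMap P (AdicCompletion (I.map (algebraMap A P)) P))).map (Ideal.Quotient.mk ((q.comap (algebraMap P (AdicCompletion (I.map (algebraMap A P)) P))) ^ k)) :=
        Ideal.Quotient.factor_ker hle
      rw [hker]
      intro x hx
      rw [mem_nilradical]
      refine ⟨k, ?_⟩
      have := Ideal.pow_mem_pow hx k
      rwa [← Ideal.map_pow, Ideal.map_quotient_self, Ideal.mem_bot] at this
    · have hker : RingHom.ker (Ideal.Quotient.factorₐ A hle) = (q.comap (algebraMap P (AdicCompletion (I.map (algebraMap A P)) P))).map (Ideal.Quotient.mk ((q.comap (algebraMap P (AdicCompletion (I.map (algebraMap A P)) P))) ^ k)) :=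
        Ideal.Quotient.factor_ker hle
      rw [hker]
      exact Ideal.FG.map (IsNoetherian.noetherian (q.comap (algebraMap P (AdicCompletion (I.map (algebraMap A P)) P)))) _
  -- completeness
  have hcomplk : ∀ k : ℕ, IsAdicComplete ((I.map (algebraMap A P)).map (Ideal.Quotient.mk ((q.comap (algebraMap P (AdicCompletion (I.map (algebraMap A P)) P))) ^ k))) (P ⧸ (q.comap (algebraMap P (AdicCompletion (I.map (algebraMap A P)) P))) ^ k) := by
    intro k
    haveI := hfink k
    have h1 : IsAdicComplete I (P ⧸ (q.comap (algebraMap P (AdicCompletion (I.map (algebraMap A P)) P))) ^ k) :=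
      Groth.Agent.H9.ChevMod.isAdicComplete_of_finite A I (P ⧸ (q.comap (algebraMap P (AdicCompletion (I.map (algebraMap A P)) P))) ^ k)
    have h2 : (I.map (algebraMap A P)).map (Ideal.Quotient.mk ((q.comap (algebraMap P (AdicCompletion (I.map (algebraMap A P)) P))) ^ k)) = I.map (algebraMap A (P ⧸ (q.comap (algebraMap P (AdicCompletion (I.map (algebraMap A P)) P))) ^ k)) := by
      rw [Ideal.map_map]; rfl
    rw [h2]
    exact (IsAdicComplete.map_algebraMap_iff (S := P ⧸ (q.comap (algebraMap P (AdicCompletion (I.map (algebraMap A P)) P))) ^ k) I (P ⧸ (q.comap (algebraMap P (AdicCompletion (I.map (algebraMap A P)) P))) ^ k)).mpr h1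
  -- density and closedness w.r.t. `(q.comap (algebraMap P (AdicCompletion (I.map (algebraMap A P)) P)))^k B`
  have hdense : ∀ (k : ℕ) (b : AdicCompletion (I.map (algebraMap A P)) P), ∃ t : P,
      b - algebraMap P (AdicCompletion (I.map (algebraMap A P)) P) t ∈ ((q.comap (algebraMap P (AdicCompletion (I.map (algebraMap A P)) P))) ^ k).map (algebraMap P (AdicCompletion (I.map (algebraMap A P)) P)) := by
    intro k b
    haveI := hcomplk k
    obtain ⟨t, ht⟩ := Ideal.Quotient.mk_surjective
      (Groth.Agent.H8.CT.quotEquiv (I.map (algebraMap A P)) ((q.comap (algebraMap P (AdicCompletion (I.map (algebraMap A P)) P))) ^ k) hIPfg (Ideal.Quotient.mk _ b))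
    refine ⟨t, ?_⟩
    rw [← Ideal.Quotient.eq]
    apply (Groth.Agent.H8.CT.quotEquiv (I.map (algebraMap A P)) ((q.comap (algebraMap P (AdicCompletion (I.map (algebraMap A P)) P))) ^ k) hIPfg).injective
    rw [← ht]
    exact ((Groth.Agent.H8.CT.quotEquiv (I.map (algebraMap A P)) ((q.comap (algebraMap P (AdicCompletion (I.map (algebraMap A P)) P))) ^ k) hIPfg).commutes t).symm
  have hclosed : ∀ (k : ℕ) (t : P),
      algebraMap P (AdicCompletion (I.map (algebraMap A P)) P) t ∈ ((q.comap (algebraMap P (AdicCompletion (I.map (algebraMap A P)) P))) ^ k).map (algebraMap P (AdicCompletion (I.map (algebraMap A P)) P)) →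
      t ∈ (q.comap (algebraMap P (AdicCompletion (I.map (algebraMap A P)) P))) ^ k := by
    intro k t ht
    haveI := hcomplk k
    have h1 : Ideal.Quotient.mk (((q.comap (algebraMap P (AdicCompletion (I.map (algebraMap A P)) P))) ^ k).map (algebraMap P (AdicCompletion (I.map (algebraMap A P)) P)))
        (algebraMap P (AdicCompletion (I.map (algebraMap A P)) P) t) = 0 := Ideal.Quotient.eq_zero_iff_mem.mpr ht
    have h2 := (Groth.Agent.H8.CT.quotEquiv (I.map (algebraMap A P)) ((q.comap (algebraMap P (AdicCompletion (I.map (algebraMap A P)) P))) ^ k) hIPfg).commutes t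
    rw [← Ideal.Quotient.eq_zero_iff_mem]
    change algebraMap P (P ⧸ (q.comap (algebraMap P (AdicCompletion (I.map (algebraMap A P)) P))) ^ k) t = 0
    rw [← h2]
    change (Groth.Agent.H8.CT.quotEquiv (I.map (algebraMap A P)) ((q.comap (algebraMap P (AdicCompletion (I.map (algebraMap A P)) P))) ^ k) hIPfg)
      (Ideal.Quotient.mk _ (algebraMap P (AdicCompletion (I.map (algebraMap A P)) P) t)) = 0
    rw [h1, map_zero]
  -- `q = (q.comap (algebraMap P (AdicCompletion (I.map (algebraMap A P)) P))) B`
  have hqq : q = (q.comap (algebraMap P (AdicCompletion (I.map (algebraMap A P)) P))).map (algebraMap P (AdicCompletion (I.map (algebraMap A P)) P)) := by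
    apply le_antisymm _ Ideal.map_comap_le
    intro x hx
    obtain ⟨t, ht⟩ := hdense 1 x
    rw [pow_one] at ht
    have h1 : algebraMap P (AdicCompletion (I.map (algebraMap A P)) P) t ∈ q := by
      have := q.sub_mem hx (Ideal.map_comap_le ht)
      rwa [sub_sub_cancel] at this
    have h2 : algebraMap P (AdicCompletion (I.map (algebraMap A P)) P) t ∈ (q.comap (algebraMap P (AdicCompletion (I.map (algebraMap A P)) P))).map (algebraMap P (AdicCompletion (I.map (algebraMap A P)) P)) :=
      Ideal.mem_map_of_mem _ h1
    have := Ideal.add_mem _ ht h2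
    rwa [sub_add_cancel] at this
  have hpow : ∀ k : ℕ, q ^ k = ((q.comap (algebraMap P (AdicCompletion (I.map (algebraMap A P)) P))) ^ k).map (algebraMap P (AdicCompletion (I.map (algebraMap A P)) P)) := by
    intro k
    rw [Ideal.map_pow, ← hqq]
  refine localRingHom_iso_mod_pow (algebraMap P (AdicCompletion (I.map (algebraMap A P)) P)) q m hm ?_ ?_
  · intro b
    rw [hpow]; exact hdense m b
  · intro t ht
    rw [hpow] at ht
    exact hclosed m t ht

end compl

end Groth.Agent.H8.Rig

namespace Groth.Agent.H8.Rig

section complgen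

variable (A : Type u) [CommRing A] [IsNoetherianRing A] (I : Ideal A)
  (P : Type u) [CommRing P] [Algebra A P] [IsNoetherianRing P]

theorem compl_map_eq : (I.map (algebraMap A P)).map
    (algebraMap P (AdicCompletion (I.map (algebraMap A P)) P)) =
    I.map (algebraMap A (AdicCompletion (I.map (algebraMap A P)) P)) :=
  (Ideal.map_map _ _).trans (congrArg (fun h => I.map h)
    (IsScalarTower.algebraMap_eq A P (AdicCompletion (I.map (algebraMap A P)) P)).symm)

theorem compl_isAdicComplete :
    IsAdicComplete (I.map (algebraMap A (AdicCompletion (I.map (algebraMap A P)) P)))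
      (AdicCompletion (I.map (algebraMap A P)) P) := by
  have h := Groth.Agent.H8.CT.isAdicComplete_map (I.map (algebraMap A P))
    (IsNoetherian.noetherian _)
  have key : ∀ K : Ideal (AdicCompletion (I.map (algebraMap A P)) P),
      (I.map (algebraMap A P)).map
        (algebraMap P (AdicCompletion (I.map (algebraMap A P)) P)) = K →
      IsAdicComplete K (AdicCompletion (I.map (algebraMap A P)) P) := by
    rintro K rfl; exact h
  exact key _ (compl_map_eq A I P)

theorem compl_finiteType_quotient [Algebra.FiniteType A P] :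
    Algebra.FiniteType A (AdicCompletion (I.map (algebraMap A P)) P ⧸
      I.map (algebraMap A (AdicCompletion (I.map (algebraMap A P)) P))) := by
  haveI : IsNoetherianRing (AdicCompletion (I.map (algebraMap A P)) P) :=
    Groth.Agent.S0543.result P _
  haveI : IsAdicComplete ((I.map (algebraMap A P)).map
      (Ideal.Quotient.mk (I.map (algebraMap A P)))) (P ⧸ I.map (algebraMap A P)) := by
    rw [Ideal.map_quotient_self]; infer_instance
  have e := Groth.Agent.H8.CT.quotEquiv (I.map (algebraMap A P)) (I.map (algebraMap A P))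
    (IsNoetherian.noetherian _)
  have h1 : Algebra.FiniteType A (P ⧸ I.map (algebraMap A P)) :=
    Algebra.FiniteType.of_surjective (Ideal.Quotient.mkₐ A _) Ideal.Quotient.mk_surjective
  have h2 : Algebra.FiniteType A (AdicCompletion (I.map (algebraMap A P)) P ⧸
      (I.map (algebraMap A P)).map (algebraMap P (AdicCompletion (I.map (algebraMap A P)) P))) :=
    Algebra.FiniteType.equiv h1 (e.symm.restrictScalars A)
  exact Algebra.FiniteType.equiv h2 (Ideal.quotientEquivAlgOfEq A (compl_map_eq A I P))

end complgen

end Groth.Agent.H8.Rig
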