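import Mathlib
import Groth.Agent.Lib.Helper8.Rig.ComplFlatLocal
import Groth.Agent.Lib.Helper8.Rig.LocIso
import Groth.Agent.Lib.Helper8.Rig.RigFlatComp

set_option autoImplicit false
universe u

namespace Groth.Agent.H8.Rig

attribute [local instance] MvPolynomial.algebraMvPolynomial

section c

variable (A B : Type u) [CommRing A] [CommRing B] [Algebra A B] (σ : Type*)

/-- flatness of a localization of `B[x]` over `A[x]` from flatness of the corresponding
localization of `B` over `A`. -/
theorem mvPolynomial_flat_atPrime (q0 : Ideal (MvPolynomial σ B)) [q0.IsPrime]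
    (h : Module.Flat A (Localization.AtPrime (q0.comap (MvPolynomial.C : B →+* MvPolynomial σ B)))) :
    ((algebraMap (MvPolynomial σ B) (Localization.AtPrime q0)).comp
      (algebraMap (MvPolynomial σ A) (MvPolynomial σ B))).Flat := by
  set qB : Ideal B := q0.comap (MvPolynomial.C : B →+* MvPolynomial σ B) with hqB
  -- `W = S[x]`, `S = B_{qB}`
  haveI : IsScalarTower (MvPolynomial σ A) (MvPolynomial σ B)
      (MvPolynomial σ (Localization.AtPrime qB)) :=
    .of_algebraMap_eq fun x => by
      change MvPolynomial.map _ x = MvPolynomial.map _ (MvPolynomial.map _ x)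
      rw [MvPolynomial.map_map, ← IsScalarTower.algebraMap_eq]
  haveI hflatW : Module.Flat (MvPolynomial σ A) (MvPolynomial σ (Localization.AtPrime qB)) :=
    Module.Flat.isBaseChange (R := A) (S := MvPolynomial σ A)
      (M := Localization.AtPrime qB) (N := MvPolynomial σ (Localization.AtPrime qB))
      (Algebra.IsPushout.out (R := A) (S := MvPolynomial σ A) (R' := Localization.AtPrime qB)
        (S' := MvPolynomial σ (Localization.AtPrime qB)))
  have hM : qB.primeCompl.map (MvPolynomial.C : B →+* MvPolynomial σ B) ≤ q0.primeCompl := by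
    rintro _ ⟨b, hb, rfl⟩
    exact hb
  letI algW : Algebra (MvPolynomial σ (Localization.AtPrime qB)) (Localization.AtPrime q0) :=
    (IsLocalization.lift (M := qB.primeCompl.map (MvPolynomial.C : B →+* MvPolynomial σ B))
      (g := algebraMap (MvPolynomial σ B) (Localization.AtPrime q0))
      (fun y => IsLocalization.map_units (M := q0.primeCompl) _ ⟨y.1, hM y.2⟩)).toAlgebra
  haveI : IsScalarTower (MvPolynomial σ B) (MvPolynomial σ (Localization.AtPrime qB))
      (Localization.AtPrime q0) :=
    .of_algebraMap_eq fun x => (IsLocalization.lift_eq _ x).symm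
  haveI := IsLocalization.isLocalization_of_submonoid_le
    (MvPolynomial σ (Localization.AtPrime qB)) (Localization.AtPrime q0)
    (qB.primeCompl.map (MvPolynomial.C : B →+* MvPolynomial σ B)) q0.primeCompl hM
  haveI : Module.Flat (MvPolynomial σ (Localization.AtPrime qB)) (Localization.AtPrime q0) :=
    IsLocalization.flat _ (q0.primeCompl.map
      (algebraMap (MvPolynomial σ B) (MvPolynomial σ (Localization.AtPrime qB))))
  haveI : IsScalarTower (MvPolynomial σ A) (MvPolynomial σ (Localization.AtPrime qB))
      (Localization.AtPrime q0) :=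
    .of_algebraMap_eq fun x => by
      rw [IsScalarTower.algebraMap_apply (MvPolynomial σ A) (MvPolynomial σ B)
        (Localization.AtPrime q0),
        IsScalarTower.algebraMap_apply (MvPolynomial σ B)
        (MvPolynomial σ (Localization.AtPrime qB)) (Localization.AtPrime q0),
        ← IsScalarTower.algebraMap_apply (MvPolynomial σ A) (MvPolynomial σ B)
          (MvPolynomial σ (Localization.AtPrime qB))]
  rw [← IsScalarTower.algebraMap_eq (MvPolynomial σ A) (MvPolynomial σ B)
    (Localization.AtPrime q0), RingHom.flat_algebraMap_iff]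
  exact Module.Flat.trans (MvPolynomial σ A) (MvPolynomial σ (Localization.AtPrime qB))
    (Localization.AtPrime q0)

end c

section d

variable (A : Type u) [CommRing A] [IsNoetherianRing A] (I : Ideal A) [IsAdicComplete I A]
  (B : Type u) [CommRing B] [Algebra A B] [IsNoetherianRing B] (n : ℕ)

instance isScalarTower_mvPolynomial :
    IsScalarTower A (MvPolynomial (Fin n) A) (MvPolynomial (Fin n) B) :=
  .of_algebraMap_eq fun x => by
    change _ = MvPolynomial.map _ (MvPolynomial.C x)
    rw [MvPolynomial.map_C]; rfl

theorem map_map_poly_le : (I.map (algebraMap A (MvPolynomial (Fin n) A))).map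
    (algebraMap (MvPolynomial (Fin n) A) (MvPolynomial (Fin n) B)) ≤
    I.map (algebraMap A (MvPolynomial (Fin n) B)) := by
  rw [Ideal.map_map, ← IsScalarTower.algebraMap_eq]

/-- the map `A{x} → B{x}` of restricted power series rings -/
noncomputable def polyCplMap :
    AdicCompletion (I.map (algebraMap A (MvPolynomial (Fin n) A))) (MvPolynomial (Fin n) A) →+*
    AdicCompletion (I.map (algebraMap A (MvPolynomial (Fin n) B))) (MvPolynomial (Fin n) B) :=
  Groth.Agent.H3.CplMap.cplMap (algebraMap (MvPolynomial (Fin n) A) (MvPolynomial (Fin n) B)) _ _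
    (map_map_poly_le A I B n)

theorem polyCplMap_of (x : MvPolynomial (Fin n) A) :
    polyCplMap A I B n (algebraMap _ _ x) =
      algebraMap (MvPolynomial (Fin n) B) _ (algebraMap (MvPolynomial (Fin n) A)
        (MvPolynomial (Fin n) B) x) :=
  Groth.Agent.H3.CplMap.cplMap_of _ _ _ (map_map_poly_le A I B n) x

theorem polyCplMap_algebraMap (a : A) :
    polyCplMap A I B n (algebraMap A _ a) = algebraMap A _ a := by
  rw [IsScalarTower.algebraMap_apply A (MvPolynomial (Fin n) A), polyCplMap_of,
    ← IsScalarTower.algebraMap_apply A (MvPolynomial (Fin n) A) (MvPolynomial (Fin n) B),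
    ← IsScalarTower.algebraMap_apply A (MvPolynomial (Fin n) B)]

/-- the polynomial case: flatness of `B{x}_Q` over `A{x}`. -/
theorem poly_flat_atPrime
    (Q : Ideal (AdicCompletion (I.map (algebraMap A (MvPolynomial (Fin n) B)))
      (MvPolynomial (Fin n) B))) [Q.IsPrime]
    (hfin : Module.Finite A (AdicCompletion (I.map (algebraMap A (MvPolynomial (Fin n) B)))
      (MvPolynomial (Fin n) B) ⧸ Q))
    (hF : Module.Flat A (Localization.AtPrime ((Q.comap (algebraMap (MvPolynomial (Fin n) B)
      (AdicCompletion (I.map (algebraMap A (MvPolynomial (Fin n) B)))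
      (MvPolynomial (Fin n) B)))).comap (MvPolynomial.C : B →+* MvPolynomial (Fin n) B)))) :
    ((algebraMap _ (Localization.AtPrime Q)).comp (polyCplMap A I B n)).Flat := by
  haveI : IsNoetherian A (AdicCompletion (I.map (algebraMap A (MvPolynomial (Fin n) B)))
      (MvPolynomial (Fin n) B) ⧸ Q) := isNoetherian_of_isNoetherianRing_of_finite A _
  -- finiteness for `A{x}`
  let j : (AdicCompletion (I.map (algebraMap A (MvPolynomial (Fin n) A)))
      (MvPolynomial (Fin n) A) ⧸ Q.comap (polyCplMap A I B n)) →ₐ[A]
      (AdicCompletion (I.map (algebraMap A (MvPolynomial (Fin n) B)))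
      (MvPolynomial (Fin n) B) ⧸ Q) :=
    { Ideal.quotientMap Q (polyCplMap A I B n) le_rfl with
      commutes' := fun a => by
        change Ideal.quotientMap Q (polyCplMap A I B n) le_rfl
          (Ideal.Quotient.mk _ (algebraMap A _ a)) = Ideal.Quotient.mk _ (algebraMap A _ a)
        rw [Ideal.quotientMap_mk, polyCplMap_algebraMap] }
  have hj : Function.Injective j :=
    Ideal.quotientMap_injective (I := Q) (f := polyCplMap A I B n)
  have hfinA : Module.Finite A (AdicCompletion (I.map (algebraMap A (MvPolynomial (Fin n) A)))
      (MvPolynomial (Fin n) A) ⧸ Q.comap (polyCplMap A I B n)) :=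
    Module.Finite.of_injective j.toLinearMap hj
  have hB := completion_local_iso A I (MvPolynomial (Fin n) B) Q hfin
  have hA := completion_local_iso A I (MvPolynomial (Fin n) A) (Q.comap (polyCplMap A I B n)) hfinA
  -- the four local homomorphisms
  have hcompo : (polyCplMap A I B n).comp (algebraMap (MvPolynomial (Fin n) A) _) =
      (algebraMap (MvPolynomial (Fin n) B) _).comp
        (algebraMap (MvPolynomial (Fin n) A) (MvPolynomial (Fin n) B)) :=
    RingHom.ext fun x => polyCplMap_of A I B n x
  have hp0 : (Q.comap (polyCplMap A I B n)).comap (algebraMap (MvPolynomial (Fin n) A) _) =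
      (Q.comap (algebraMap (MvPolynomial (Fin n) B) _)).comap
        (algebraMap (MvPolynomial (Fin n) A) (MvPolynomial (Fin n) B)) := by
    rw [Ideal.comap_comap, Ideal.comap_comap, hcompo]
  have hflat0 := localRingHom_flat_of_flat_atPrime
    (algebraMap (MvPolynomial (Fin n) A) (MvPolynomial (Fin n) B))
    (Q.comap (algebraMap (MvPolynomial (Fin n) B) _))
    ((Q.comap (polyCplMap A I B n)).comap (algebraMap (MvPolynomial (Fin n) A) _)) hp0
    (mvPolynomial_flat_atPrime A B (Fin n) _ hF)
  haveI := Localization.isLocalHom_localRingHom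
    ((Q.comap (polyCplMap A I B n)).comap (algebraMap (MvPolynomial (Fin n) A) _))
    (Q.comap (algebraMap (MvPolynomial (Fin n) B) _))
    (algebraMap (MvPolynomial (Fin n) A) (MvPolynomial (Fin n) B)) hp0
  haveI := Localization.isLocalHom_localRingHom (Q.comap (polyCplMap A I B n)) Q
    (polyCplMap A I B n) rfl
  haveI := Localization.isLocalHom_localRingHom
    ((Q.comap (polyCplMap A I B n)).comap (algebraMap (MvPolynomial (Fin n) A) _))
    (Q.comap (polyCplMap A I B n)) (algebraMap (MvPolynomial (Fin n) A) _) rfl
  haveI := Localization.isLocalHom_localRingHom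
    (Q.comap (algebraMap (MvPolynomial (Fin n) B) _)) Q
    (algebraMap (MvPolynomial (Fin n) B) _) rfl
  haveI : IsNoetherianRing (AdicCompletion (I.map (algebraMap A (MvPolynomial (Fin n) B)))
      (MvPolynomial (Fin n) B)) := Groth.Agent.S0543.result _ _
  haveI : IsNoetherianRing (AdicCompletion (I.map (algebraMap A (MvPolynomial (Fin n) A)))
      (MvPolynomial (Fin n) A)) := Groth.Agent.S0543.result _ _
  have hcomm : (Localization.localRingHom (Q.comap (polyCplMap A I B n)) Q
      (polyCplMap A I B n) rfl).comp
      (Localization.localRingHom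
        ((Q.comap (polyCplMap A I B n)).comap (algebraMap (MvPolynomial (Fin n) A) _))
        (Q.comap (polyCplMap A I B n)) (algebraMap (MvPolynomial (Fin n) A) _) rfl) =
      (Localization.localRingHom (Q.comap (algebraMap (MvPolynomial (Fin n) B) _)) Q
        (algebraMap (MvPolynomial (Fin n) B) _) rfl).comp
      (Localization.localRingHom
        ((Q.comap (polyCplMap A I B n)).comap (algebraMap (MvPolynomial (Fin n) A) _))
        (Q.comap (algebraMap (MvPolynomial (Fin n) B) _))
        (algebraMap (MvPolynomial (Fin n) A) (MvPolynomial (Fin n) B)) hp0) := by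
    rw [← Localization.localRingHom_comp _ _ _ _ rfl _ rfl]
    apply Localization.localRingHom_unique
    intro x
    rw [RingHom.comp_apply, Localization.localRingHom_to_map, Localization.localRingHom_to_map,
      RingHom.comp_apply, polyCplMap_of]
  have key := flat_of_completion_iso _ _ _ _ hcomm hflat0
    (fun k x hx => by
      rcases Nat.eq_zero_or_pos k with rfl | hk
      · rw [pow_zero, Ideal.one_eq_top]; trivial
      · exact (hA k hk).1 x hx)
    (fun k y => by
      rcases Nat.eq_zero_or_pos k with rfl | hk
      · exact ⟨0, by rw [pow_zero, Ideal.one_eq_top]; trivial⟩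
      · exact (hA k hk).2 y)
    (fun k x hx => by
      rcases Nat.eq_zero_or_pos k with rfl | hk
      · rw [pow_zero, Ideal.one_eq_top]; trivial
      · exact (hB k hk).1 x hx)
    (fun k y => by
      rcases Nat.eq_zero_or_pos k with rfl | hk
      · exact ⟨0, by rw [pow_zero, Ideal.one_eq_top]; trivial⟩
      · exact (hB k hk).2 y)
  have hloc : (algebraMap (AdicCompletion (I.map (algebraMap A (MvPolynomial (Fin n) A)))
      (MvPolynomial (Fin n) A)) (Localization.AtPrime (Q.comap (polyCplMap A I B n)))).Flat := by
    rw [RingHom.flat_algebraMap_iff]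
    exact IsLocalization.flat _ (Q.comap (polyCplMap A I B n)).primeCompl
  have := hloc.comp key
  have e3 : (Localization.localRingHom (Q.comap (polyCplMap A I B n)) Q
      (polyCplMap A I B n) rfl).comp
      (algebraMap _ (Localization.AtPrime (Q.comap (polyCplMap A I B n)))) =
      (algebraMap _ (Localization.AtPrime Q)).comp (polyCplMap A I B n) :=
    RingHom.ext fun x => Localization.localRingHom_to_map _ _ _ rfl x
  rwa [e3] at this

end d

end Groth.Agent.H8.Rig
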