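import Mathlib
import Groth.Agent.Lib.Helper8.Rig.CplUniv

set_option autoImplicit false
universe u

namespace Groth.Agent.H8.Rig

open Groth.Agent.H3.CplMap

section present

variable (A : Type u) [CommRing A] [IsNoetherianRing A] (I : Ideal A)
  (C : Type u) [CommRing C] [Algebra A C] [IsAdicComplete (I.map (algebraMap A C)) C]

theorem map_aeval_eq (n : ℕ) (c : Fin n → C) :
    (I.map (algebraMap A (MvPolynomial (Fin n) A))).map
      ((MvPolynomial.aeval c : MvPolynomial (Fin n) A →ₐ[A] C) : MvPolynomial (Fin n) A →+* C) =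
      I.map (algebraMap A C) := by
  rw [Ideal.map_map]
  congr 1
  exact (MvPolynomial.aeval c : MvPolynomial (Fin n) A →ₐ[A] C).comp_algebraMap

/-- a topologically finite type algebra is a quotient of a restricted power series ring. -/
theorem exists_presentation (hft : Algebra.FiniteType A (C ⧸ I.map (algebraMap A C))) :
    ∃ (n : ℕ) (c : Fin n → C)
      (r : AdicCompletion (I.map (algebraMap A (MvPolynomial (Fin n) A)))
        (MvPolynomial (Fin n) A) →+* C),
      Function.Surjective r ∧
      ∀ x : MvPolynomial (Fin n) A, r (algebraMap _ _ x) = MvPolynomial.aeval c x := by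
  obtain ⟨n, f0, hf0⟩ := Algebra.FiniteType.iff_quotient_mvPolynomial''.mp hft
  have hc : ∀ i : Fin n, ∃ ci : C, Ideal.Quotient.mk _ ci = f0 (MvPolynomial.X i) :=
    fun i => Ideal.Quotient.mk_surjective _
  choose c hcc using hc
  have hcomp : (Ideal.Quotient.mkₐ A (I.map (algebraMap A C))).comp
      (MvPolynomial.aeval c : MvPolynomial (Fin n) A →ₐ[A] C) = f0 := by
    apply MvPolynomial.algHom_ext
    intro i
    rw [AlgHom.comp_apply, MvPolynomial.aeval_X]
    exact hcc i
  have hJ := map_aeval_eq A I C n c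
  let r := liftHom (I.map (algebraMap A (MvPolynomial (Fin n) A))) (I.map (algebraMap A C))
    ((MvPolynomial.aeval c : MvPolynomial (Fin n) A →ₐ[A] C) : MvPolynomial (Fin n) A →+* C) hJ.le
  have hr : ∀ x : MvPolynomial (Fin n) A, r (algebraMap _ _ x) = MvPolynomial.aeval c x :=
    fun x => liftHom_of _ _ _ hJ.le x
  refine ⟨n, c, r, ?_, hr⟩
  have hJfg : (I.map (algebraMap A (MvPolynomial (Fin n) A))).FG :=
    Ideal.FG.map (IsNoetherian.noetherian I) _
  haveI := Groth.Agent.H8.CT.isAdicComplete_map (I.map (algebraMap A (MvPolynomial (Fin n) A))) hJfg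
  have hmap : ((I.map (algebraMap A (MvPolynomial (Fin n) A))).map
      (algebraMap (MvPolynomial (Fin n) A) (AdicCompletion (I.map (algebraMap A
        (MvPolynomial (Fin n) A))) (MvPolynomial (Fin n) A)))).map r = I.map (algebraMap A C) := by
    rw [Ideal.map_map]
    have : r.comp (algebraMap (MvPolynomial (Fin n) A) _) =
        ((MvPolynomial.aeval c : MvPolynomial (Fin n) A →ₐ[A] C) : MvPolynomial (Fin n) A →+* C) :=
      RingHom.ext hr
    rw [this, hJ]
  haveI : IsHausdorff (((I.map (algebraMap A (MvPolynomial (Fin n) A))).map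
      (algebraMap (MvPolynomial (Fin n) A) (AdicCompletion (I.map (algebraMap A
        (MvPolynomial (Fin n) A))) (MvPolynomial (Fin n) A)))).map r) C := by
    rw [hmap]; infer_instance
  apply surjective_of_mk_map_comp_surjective
    (I := (I.map (algebraMap A (MvPolynomial (Fin n) A))).map
      (algebraMap (MvPolynomial (Fin n) A) (AdicCompletion (I.map (algebraMap A
        (MvPolynomial (Fin n) A))) (MvPolynomial (Fin n) A)))) r
  intro y
  obtain ⟨y, rfl⟩ := Ideal.Quotient.mk_surjective y
  obtain ⟨x, hx⟩ := hf0 (Ideal.Quotient.mk _ y)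
  refine ⟨algebraMap _ _ x, ?_⟩
  rw [RingHom.comp_apply, hr, Ideal.Quotient.eq, hmap, ← Ideal.Quotient.eq]
  rw [← hcomp] at hx
  exact hx

end present

end Groth.Agent.H8.Rig
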