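import Mathlib
import Groth.Agent.Lib.Helper1.ComplFlat2

set_option autoImplicit false
universe u

namespace Groth.Agent.H8.Rig

/-- base change of flatness of a local ring along a quotient. -/
theorem flat_atPrime_quotient {R S R' S' : Type u} [CommRing R] [CommRing S] [CommRing R']
    [CommRing S'] (F : R →+* S) (r : R →+* R') (p : S →+* S') (f' : R' →+* S')
    (hr : Function.Surjective r) (hp : Function.Surjective p)
    (hcomm : f'.comp r = p.comp F) (hker : RingHom.ker p ≤ (RingHom.ker r).map F)
    (Q : Ideal S') [Q.IsPrime]
    (h : ((algebraMap S (Localization.AtPrime (Q.comap p))).comp F).Flat) :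
    ((algebraMap S' (Localization.AtPrime Q)).comp f').Flat := by
  algebraize [(algebraMap S (Localization.AtPrime (Q.comap p))).comp F,
    (algebraMap S' (Localization.AtPrime Q)).comp f',
    ((algebraMap S' (Localization.AtPrime Q)).comp f').comp r]
  -- the local map
  let pl : Localization.AtPrime (Q.comap p) →+* Localization.AtPrime Q :=
    Localization.localRingHom (Q.comap p) Q p rfl
  have hpl_alg : ∀ s : S, pl (algebraMap S _ s) = algebraMap S' _ (p s) := fun s =>
    Localization.localRingHom_to_map _ _ _ rfl s
  let plin : Localization.AtPrime (Q.comap p) →ₗ[R] Localization.AtPrime Q :=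
    { pl with
      map_smul' := fun a x => by
        change pl (algebraMap R _ a * x) = algebraMap R _ a * pl x
        rw [map_mul]
        congr 1
        change pl (algebraMap S _ (F a)) = algebraMap S' _ (f' (r a))
        rw [hpl_alg]
        congr 1
        exact (congrArg (fun g => g a) hcomm).symm }
  have hplin : ∀ x, plin x = pl x := fun x => rfl
  have hsurj : Function.Surjective plin := by
    intro y
    obtain ⟨s', t', rfl⟩ := IsLocalization.exists_mk'_eq Q.primeCompl y
    obtain ⟨s, rfl⟩ := hp s'
    obtain ⟨t, ht⟩ := hp t'.1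
    have htQ : t ∈ (Q.comap p).primeCompl := by
      change t ∉ Q.comap p
      rw [Ideal.mem_comap, ht]; exact t'.2
    refine ⟨IsLocalization.mk' _ s (⟨t, htQ⟩ : (Q.comap p).primeCompl), ?_⟩
    rw [hplin]
    change Localization.localRingHom (Q.comap p) Q p rfl _ = _
    rw [Localization.localRingHom_mk']
    congr 1
    exact Subtype.ext ht
  have hkerl : LinearMap.ker plin =
      (RingHom.ker r • ⊤ : Submodule R (Localization.AtPrime (Q.comap p))) := by
    apply le_antisymm
    · intro x hx
      rw [LinearMap.mem_ker, hplin] at hx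
      obtain ⟨s, t, rfl⟩ := IsLocalization.exists_mk'_eq (Q.comap p).primeCompl x
      change Localization.localRingHom (Q.comap p) Q p rfl _ = 0 at hx
      rw [Localization.localRingHom_mk', IsLocalization.mk'_eq_zero_iff] at hx
      obtain ⟨u', hu'⟩ := hx
      obtain ⟨u, hu⟩ := hp u'.1
      have huQ : u ∈ (Q.comap p).primeCompl := by
        change u ∉ Q.comap p
        rw [Ideal.mem_comap, hu]; exact u'.2
      have hus : u * s ∈ (RingHom.ker r).map F := by
        apply hker
        rw [RingHom.mem_ker, map_mul, hu]
        exact hu'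
      -- `mk' s t = mk' (u s) (u t)`
      have e1 : IsLocalization.mk' (Localization.AtPrime (Q.comap p)) s t =
          IsLocalization.mk' (Localization.AtPrime (Q.comap p)) (u * s)
            ((⟨u, huQ⟩ : (Q.comap p).primeCompl) * t) := by
        rw [IsLocalization.mk'_eq_iff_eq]
        simp only [Submonoid.coe_mul]
        congr 1
        ring
      rw [e1, Ideal.smul_top_eq_map, Submodule.restrictScalars_mem]
      have h3 : algebraMap S (Localization.AtPrime (Q.comap p)) (u * s) ∈
          (RingHom.ker r).map (algebraMap R (Localization.AtPrime (Q.comap p))) := by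
        have : (RingHom.ker r).map (algebraMap R (Localization.AtPrime (Q.comap p))) =
            ((RingHom.ker r).map F).map (algebraMap S (Localization.AtPrime (Q.comap p))) :=
          (Ideal.map_map _ _).symm
        rw [this]
        exact Ideal.mem_map_of_mem _ hus
      have h4 : IsLocalization.mk' (Localization.AtPrime (Q.comap p)) (u * s)
            ((⟨u, huQ⟩ : (Q.comap p).primeCompl) * t) =
          algebraMap S _ (u * s) * IsLocalization.mk' (Localization.AtPrime (Q.comap p)) (1 : S)
            ((⟨u, huQ⟩ : (Q.comap p).primeCompl) * t) := by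
        rw [← IsLocalization.mk'_one (M := (Q.comap p).primeCompl)
          (Localization.AtPrime (Q.comap p)) (u * s), ← IsLocalization.mk'_mul]
        simp
      rw [h4]
      exact Ideal.mul_mem_right _ _ h3
    · rw [Submodule.smul_le]
      intro a ha x _
      rw [LinearMap.mem_ker, map_smul]
      change algebraMap S' _ (f' (r a)) * _ = 0
      rw [RingHom.mem_ker.mp ha, map_zero, map_zero, zero_mul]
  -- flatness of the quotient
  haveI : Module.Flat R (Localization.AtPrime (Q.comap p)) := h
  have hq := Groth.Agent.H1.ComplFlat.flat_quotient_of_flat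
    (Localization.AtPrime (Q.comap p)) (RingHom.ker r)
  let e : (R ⧸ RingHom.ker r) ≃+* R' := RingHom.quotientKerEquivOfSurjective hr
  let ψ : (Localization.AtPrime (Q.comap p) ⧸
      (RingHom.ker r • ⊤ : Submodule R (Localization.AtPrime (Q.comap p)))) ≃ₗ[R]
      Localization.AtPrime Q :=
    (Submodule.quotEquivOfEq _ _ hkerl.symm).trans (plin.quotKerEquivOfSurjective hsurj)
  have hψ : ∀ x, ψ (Submodule.Quotient.mk x) = pl x := fun x => rfl
  rw [RingHom.Flat]
  refine Groth.Agent.H1.ComplFlat.flat_of_ringEquiv_semilinear e.symm ψ.symm.toAddEquiv ?_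
  intro b y
  obtain ⟨a, rfl⟩ := hr b
  obtain ⟨x, rfl⟩ := ψ.surjective y
  obtain ⟨x, rfl⟩ := Submodule.Quotient.mk_surjective _ x
  change ψ.symm (r a • ψ (Submodule.Quotient.mk x)) = e.symm (r a) • ψ.symm (ψ (Submodule.Quotient.mk x))
  rw [LinearEquiv.symm_apply_apply]
  have h1 : e.symm (r a) = Ideal.Quotient.mk _ a := by
    rw [RingEquiv.symm_apply_eq]; rfl
  rw [h1]
  have h2 : r a • ψ (Submodule.Quotient.mk x) = ψ (Submodule.Quotient.mk (a • x)) := by
    change a • ψ (Submodule.Quotient.mk x) = _
    rw [← map_smul]
    rfl
  rw [h2, LinearEquiv.symm_apply_apply]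
  rfl

end Groth.Agent.H8.Rig
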