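import Mathlib
import Groth.Agent.Lib.Helper8.Rig.Present
import Groth.Agent.Lib.Helper8.Rig.PolyFlat
import Groth.Agent.Lib.Helper8.Rig.QuotBC

set_option autoImplicit false
universe u

namespace Groth.Agent.H8.Rig

open Groth.Agent.H3.CplMap

attribute [local instance] MvPolynomial.algebraMvPolynomial

section main

variable (A : Type u) [CommRing A] [IsNoetherianRing A] (I : Ideal A) [IsAdicComplete I A]
  (B : Type u) [CommRing B] [Algebra A B] [IsNoetherianRing B]
  (C : Type u) [CommRing C] [Algebra A C] [IsNoetherianRing C]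
  [IsAdicComplete (I.map (algebraMap A C)) C]
  (D : Type u) [CommRing D] [Algebra A D] [Algebra B D] [Algebra C D] [IsScalarTower A B D]
  [IsScalarTower A C D] [IsNoetherianRing D] [IsAdicComplete (I.map (algebraMap A D)) D]

/-- base change of flatness to a completed tensor product, characterised by its universal
property. -/
theorem flat_atPrime_of_completedPushout
    (hftC : Algebra.FiniteType A (C ⧸ I.map (algebraMap A C)))
    (hUP : ∀ (E : Type u) [CommRing E] [Algebra A E] [IsAdicComplete (I.map (algebraMap A E)) E]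
      (fB : B →ₐ[A] E) (fC : C →ₐ[A] E), ∃ s : D →+* E,
        s.comp (algebraMap B D) = (fB : B →+* E) ∧ s.comp (algebraMap C D) = (fC : C →+* E))
    (hUQ : ∀ s : D →+* D, s.comp (algebraMap B D) = algebraMap B D →
      s.comp (algebraMap C D) = algebraMap C D → s = RingHom.id D)
    (hF : ∀ (qB : Ideal B) [qB.IsPrime], ¬ I.map (algebraMap A B) ≤ qB →
      Module.Flat A (Localization.AtPrime qB))
    (Q : Ideal D) [Q.IsPrime] (hQI : ¬ I.map (algebraMap A D) ≤ Q)
    (hfin : Module.Finite A (D ⧸ Q)) :
    ((algebraMap D (Localization.AtPrime Q)).comp (algebraMap C D)).Flat := by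
  have hIfg : I.FG := IsNoetherian.noetherian I
  obtain ⟨n, c, r, hr, hrc⟩ := exists_presentation A I C hftC
  -- the map `π : B{x} → D`
  let φB : MvPolynomial (Fin n) B →ₐ[B] D := MvPolynomial.aeval (fun i => algebraMap C D (c i))
  have hφB_A : (φB : MvPolynomial (Fin n) B →+* D).comp (algebraMap A (MvPolynomial (Fin n) B)) =
      algebraMap A D := by
    refine RingHom.ext fun a => ?_
    rw [RingHom.comp_apply, IsScalarTower.algebraMap_apply A B (MvPolynomial (Fin n) B)]
    change φB (algebraMap B _ (algebraMap A B a)) = _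
    rw [φB.commutes, ← IsScalarTower.algebraMap_apply]
  have hJB : (I.map (algebraMap A (MvPolynomial (Fin n) B))).map
      (φB : MvPolynomial (Fin n) B →+* D) = I.map (algebraMap A D) := by
    rw [Ideal.map_map, hφB_A]
  let π := liftHom (I.map (algebraMap A (MvPolynomial (Fin n) B))) (I.map (algebraMap A D))
    (φB : MvPolynomial (Fin n) B →+* D) hJB.le
  have hπ : ∀ x : MvPolynomial (Fin n) B, π (algebraMap _ _ x) = φB x :=
    fun x => liftHom_of _ _ _ hJB.le x
  -- `π ∘ Ψ = ι ∘ ρ`
  have hJAfg : (I.map (algebraMap A (MvPolynomial (Fin n) A))).FG := Ideal.FG.map hIfg _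
  have hJBfg : (I.map (algebraMap A (MvPolynomial (Fin n) B))).FG := Ideal.FG.map hIfg _
  have hsq : π.comp (polyCplMap A I B n) = (algebraMap C D).comp r := by
    refine CLoc.hom_ext_of_isHausdorff (I.map (algebraMap A (MvPolynomial (Fin n) A)))
      (I.map (algebraMap A D)) hJAfg _ _ ?_ ?_
    · refine RingHom.ext fun x => ?_
      simp only [RingHom.comp_apply]
      rw [polyCplMap_of, hπ, hrc]
      change φB (MvPolynomial.map (algebraMap A B) x) = _
      induction x using MvPolynomial.induction_on with
      | C a =>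
        rw [MvPolynomial.map_C, MvPolynomial.aeval_C, MvPolynomial.aeval_C,
          ← IsScalarTower.algebraMap_apply, ← IsScalarTower.algebraMap_apply]
      | add p q hp hq => simp only [map_add, hp, hq]
      | mul_X p i hp =>
        simp only [map_mul, hp, MvPolynomial.map_X, MvPolynomial.aeval_X]
        congr 1
        exact MvPolynomial.aeval_X _ i
    · rw [RingHom.comp_assoc]
      have : (polyCplMap A I B n).comp (algebraMap (MvPolynomial (Fin n) A) _) =
          (algebraMap (MvPolynomial (Fin n) B) _).comp
            (algebraMap (MvPolynomial (Fin n) A) (MvPolynomial (Fin n) B)) :=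
        RingHom.ext fun x => polyCplMap_of A I B n x
      rw [this, ← RingHom.comp_assoc]
      have h2 : π.comp (algebraMap (MvPolynomial (Fin n) B) _) =
          (φB : MvPolynomial (Fin n) B →+* D) := RingHom.ext hπ
      rw [h2, ← Ideal.map_map]
      exact (Ideal.map_mono (map_map_poly_le A I B n)).trans hJB.le
  -- the ring `E = B{x}/𝔞B{x}`
  haveI : IsNoetherianRing (AdicCompletion (I.map (algebraMap A (MvPolynomial (Fin n) B)))
      (MvPolynomial (Fin n) B)) := Groth.Agent.S0543.result _ _
  haveI := compl_isAdicComplete A I (MvPolynomial (Fin n) B)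
  have hEc0 := isAdicComplete_quotient (AdicCompletion (I.map (algebraMap A
      (MvPolynomial (Fin n) B))) (MvPolynomial (Fin n) B))
      (I.map (algebraMap A (AdicCompletion (I.map (algebraMap A
      (MvPolynomial (Fin n) B))) (MvPolynomial (Fin n) B))))
      ((RingHom.ker r).map (polyCplMap A I B n))
  haveI hEc : IsAdicComplete (I.map (algebraMap A (AdicCompletion (I.map (algebraMap A
      (MvPolynomial (Fin n) B))) (MvPolynomial (Fin n) B) ⧸
      (RingHom.ker r).map (polyCplMap A I B n))))
      (AdicCompletion (I.map (algebraMap A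
      (MvPolynomial (Fin n) B))) (MvPolynomial (Fin n) B) ⧸
      (RingHom.ker r).map (polyCplMap A I B n)) := by
    have key : ∀ K : Ideal (AdicCompletion (I.map (algebraMap A
      (MvPolynomial (Fin n) B))) (MvPolynomial (Fin n) B) ⧸
      (RingHom.ker r).map (polyCplMap A I B n)),
      (I.map (algebraMap A (AdicCompletion (I.map (algebraMap A
      (MvPolynomial (Fin n) B))) (MvPolynomial (Fin n) B)))).map
      (Ideal.Quotient.mk ((RingHom.ker r).map (polyCplMap A I B n))) = K →
      IsAdicComplete K (AdicCompletion (I.map (algebraMap A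
      (MvPolynomial (Fin n) B))) (MvPolynomial (Fin n) B) ⧸
      (RingHom.ker r).map (polyCplMap A I B n)) := by
      rintro K rfl; exact hEc0
    exact key _ (Ideal.map_map _ _)
  -- the maps `fB`, `fC`
  let fB : B →ₐ[A] (AdicCompletion (I.map (algebraMap A
      (MvPolynomial (Fin n) B))) (MvPolynomial (Fin n) B) ⧸
      (RingHom.ker r).map (polyCplMap A I B n)) := IsScalarTower.toAlgHom A B _
  let g0 : AdicCompletion (I.map (algebraMap A (MvPolynomial (Fin n) A)))
      (MvPolynomial (Fin n) A) →+* (AdicCompletion (I.map (algebraMap A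
      (MvPolynomial (Fin n) B))) (MvPolynomial (Fin n) B) ⧸
      (RingHom.ker r).map (polyCplMap A I B n)) :=
    (Ideal.Quotient.mk ((RingHom.ker r).map (polyCplMap A I B n))).comp (polyCplMap A I B n)
  have hg0 : ∀ a ∈ RingHom.ker r, g0 a = 0 := fun a ha =>
    Ideal.Quotient.eq_zero_iff_mem.mpr (Ideal.mem_map_of_mem _ ha)
  let g1 := Ideal.Quotient.lift (RingHom.ker r) g0 hg0
  let e := RingHom.quotientKerEquivOfSurjective hr
  let fC0 : C →+* (AdicCompletion (I.map (algebraMap A
      (MvPolynomial (Fin n) B))) (MvPolynomial (Fin n) B) ⧸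
      (RingHom.ker r).map (polyCplMap A I B n)) := g1.comp (e.symm : C →+* _)
  have hfC0 : ∀ y, fC0 (r y) = Ideal.Quotient.mk _ (polyCplMap A I B n y) := by
    intro y
    have : e.symm (r y) = Ideal.Quotient.mk _ y := by
      rw [RingEquiv.symm_apply_eq]; rfl
    change g1 (e.symm (r y)) = _
    rw [this]; rfl
  have hrA : ∀ a : A, r (algebraMap A _ a) = algebraMap A C a := by
    intro a
    rw [IsScalarTower.algebraMap_apply A (MvPolynomial (Fin n) A), hrc]
    exact (MvPolynomial.aeval c).commutes a
  let fC : C →ₐ[A] (AdicCompletion (I.map (algebraMap A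
      (MvPolynomial (Fin n) B))) (MvPolynomial (Fin n) B) ⧸
      (RingHom.ker r).map (polyCplMap A I B n)) :=
    { fC0 with
      commutes' := fun a => by
        change fC0 (algebraMap A C a) = _
        rw [← hrA, hfC0, polyCplMap_algebraMap]; rfl }
  obtain ⟨s, hsB, hsC⟩ := hUP _ fB fC
  have hsB' : ∀ b, s (algebraMap B D b) = algebraMap B _ b := fun b =>
    congrArg (fun g => g b) hsB
  have hsC' : ∀ y, s (algebraMap C D (r y)) = Ideal.Quotient.mk _ (polyCplMap A I B n y) :=
    fun y => (congrArg (fun g => g (r y)) hsC).trans (hfC0 y)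
  -- `π` kills `𝔟`
  have h8 : ∀ x ∈ (RingHom.ker r).map (polyCplMap A I B n), π x = 0 := by
    intro x hx
    have hle : (RingHom.ker r).map (polyCplMap A I B n) ≤ RingHom.ker π := by
      rw [Ideal.map_le_iff_le_comap]
      intro a ha
      rw [Ideal.mem_comap, RingHom.mem_ker]
      have := congrArg (fun g => g a) hsq
      simp only [RingHom.comp_apply] at this
      rw [this, RingHom.mem_ker.mp ha, map_zero]
    exact hle hx
  -- `σ ∘ π = mk`
  have h9 : Ideal.Quotient.mk ((RingHom.ker r).map (polyCplMap A I B n)) = s.comp π := by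
    refine CLoc.hom_ext_of_isHausdorff (I.map (algebraMap A (MvPolynomial (Fin n) B)))
      (I.map (algebraMap A _)) hJBfg _ _ ?_ ?_
    · apply MvPolynomial.ringHom_ext
      · intro b
        simp only [RingHom.comp_apply]
        rw [hπ]
        change _ = s (φB (algebraMap B _ b))
        rw [φB.commutes, hsB']
        rfl
      · intro i
        simp only [RingHom.comp_apply]
        rw [hπ]
        change _ = s (MvPolynomial.aeval (fun i => algebraMap C D (c i)) (MvPolynomial.X i))
        rw [MvPolynomial.aeval_X]
        have h1 : c i = r (algebraMap (MvPolynomial (Fin n) A) _ (MvPolynomial.X i)) := by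
          rw [hrc, MvPolynomial.aeval_X]
        rw [h1, hsC', polyCplMap_of]
        change _ = Ideal.Quotient.mk _ (algebraMap _ _ (MvPolynomial.map (algebraMap A B)
          (MvPolynomial.X i)))
        rw [MvPolynomial.map_X]
    · rw [Ideal.map_map]
      exact le_of_eq rfl
  have h10 : RingHom.ker π ≤ (RingHom.ker r).map (polyCplMap A I B n) := by
    intro x hx
    rw [← Ideal.Quotient.eq_zero_iff_mem]
    have := congrArg (fun g => g x) h9
    simp only [RingHom.comp_apply] at this
    rw [this, RingHom.mem_ker.mp hx, map_zero]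
  -- surjectivity of `π`
  let πq := Ideal.Quotient.lift ((RingHom.ker r).map (polyCplMap A I B n)) π h8
  have h11 : πq.comp s = RingHom.id D := by
    apply hUQ
    · refine RingHom.ext fun b => ?_
      simp only [RingHom.comp_apply]
      rw [hsB']
      change πq (Ideal.Quotient.mk _ (algebraMap B _ b)) = _
      rw [Ideal.Quotient.lift_mk, IsScalarTower.algebraMap_apply B (MvPolynomial (Fin n) B), hπ]
      exact φB.commutes b
    · refine RingHom.ext fun c' => ?_
      obtain ⟨y, rfl⟩ := hr c'
      simp only [RingHom.comp_apply]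
      rw [hsC', Ideal.Quotient.lift_mk]
      exact congrArg (fun g => g y) hsq
  have hπsurj : Function.Surjective π := by
    intro d
    obtain ⟨z, hz⟩ := Ideal.Quotient.mk_surjective (s d)
    refine ⟨z, ?_⟩
    have := congrArg (fun g => g d) h11
    simp only [RingHom.comp_apply, RingHom.id_apply] at this
    rw [← this, ← hz, Ideal.Quotient.lift_mk]
  -- finiteness
  have hπA : ∀ a : A, π (algebraMap A _ a) = algebraMap A D a := by
    intro a
    rw [IsScalarTower.algebraMap_apply A (MvPolynomial (Fin n) B), hπ]
    exact congrArg (fun g => g a) hφB_A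
  haveI : IsNoetherian A (D ⧸ Q) := isNoetherian_of_isNoetherianRing_of_finite A _
  let j : (AdicCompletion (I.map (algebraMap A (MvPolynomial (Fin n) B)))
      (MvPolynomial (Fin n) B) ⧸ Q.comap π) →ₐ[A] (D ⧸ Q) :=
    { Ideal.quotientMap Q π le_rfl with
      commutes' := fun a => by
        change Ideal.quotientMap Q π le_rfl (Ideal.Quotient.mk _ (algebraMap A _ a)) =
          Ideal.Quotient.mk _ (algebraMap A _ a)
        rw [Ideal.quotientMap_mk, hπA] }
  have hj : Function.Injective j := Ideal.quotientMap_injective (I := Q) (f := π)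
  have hfin' : Module.Finite A (AdicCompletion (I.map (algebraMap A (MvPolynomial (Fin n) B)))
      (MvPolynomial (Fin n) B) ⧸ Q.comap π) := Module.Finite.of_injective j.toLinearMap hj
  -- the prime of `B`
  have hqB : ¬ I.map (algebraMap A B) ≤ ((Q.comap π).comap (algebraMap (MvPolynomial (Fin n) B)
      _)).comap (MvPolynomial.C : B →+* MvPolynomial (Fin n) B) := by
    intro hle
    apply hQI
    rw [IsScalarTower.algebraMap_eq A B D, ← Ideal.map_map, Ideal.map_le_iff_le_comap]
    refine hle.trans ?_
    intro b hb
    rw [Ideal.mem_comap, Ideal.mem_comap, Ideal.mem_comap, hπ] at hb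
    rw [Ideal.mem_comap]
    have : φB (MvPolynomial.C b) = algebraMap B D b := φB.commutes b
    rwa [this] at hb
  have h14 := poly_flat_atPrime A I B n (Q.comap π) hfin' (hF _ hqB)
  exact flat_atPrime_quotient (polyCplMap A I B n) r π (algebraMap C D) hr hπsurj hsq.symm h10 Q h14

end main

end Groth.Agent.H8.Rig
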