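import Mathlib
import Groth.Agent.Lib.Helper8.Rig.CPush
import Groth.Agent.Lib.Helper8.Rig.CPushout

set_option autoImplicit false
universe u

namespace Groth.Agent.H8.Rig

section localBC

variable (A : Type u) [CommRing A] (I : Ideal A) (B C D : Type u) [CommRing B]
    [CommRing C] [CommRing D] [Algebra A B] [Algebra A C] [Algebra A D] [Algebra B D]
    [Algebra C D] [IsScalarTower A B D] [IsScalarTower A C D]
  (A₁ : Type u) [CommRing A₁] [Algebra A A₁] [IsNoetherianRing A₁]
  [IsAdicComplete (I.map (algebraMap A A₁)) A₁]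
  (B₁ : Type u) [CommRing B₁] [Algebra B B₁] [Algebra A₁ B₁] [IsNoetherianRing B₁]
  [Algebra A₁ C] [IsNoetherianRing C]
  [IsAdicComplete ((I.map (algebraMap A A₁)).map (algebraMap A₁ C)) C]
  [Algebra A₁ D] [Algebra B₁ D] [IsScalarTower A₁ B₁ D] [IsScalarTower A₁ C D]
  [IsNoetherianRing D] [IsAdicComplete ((I.map (algebraMap A A₁)).map (algebraMap A₁ D)) D]

/-- local base change: the completed pushout over `(A, I)` is also one over `(A₁, I A₁)`. -/
theorem flat_atPrime_of_isCPush (hP : IsCPush A I B C D)
    (hA₁C : (algebraMap A₁ C).comp (algebraMap A A₁) = algebraMap A C)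
    (hA₁B : (algebraMap A₁ B₁).comp (algebraMap A A₁) = (algebraMap B B₁).comp (algebraMap A B))
    (hBD : (algebraMap B₁ D).comp (algebraMap B B₁) = algebraMap B D)
    (hUB : ∀ (E : Type u) [CommRing E] (N : Ideal E) [IsHausdorff N E] (p1 p2 : B₁ →+* E),
      p1.comp (algebraMap B B₁) = p2.comp (algebraMap B B₁) →
      (I.map (algebraMap A B)).map (p1.comp (algebraMap B B₁)) ≤ N → p1 = p2)
    (hftC : Algebra.FiniteType A₁ (C ⧸ (I.map (algebraMap A A₁)).map (algebraMap A₁ C)))
    (hF : ∀ (qB : Ideal B₁) [qB.IsPrime], ¬ (I.map (algebraMap A A₁)).map (algebraMap A₁ B₁) ≤ qB →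
      Module.Flat A₁ (Localization.AtPrime qB))
    (Q : Ideal D) [Q.IsPrime] (hQI : ¬ (I.map (algebraMap A A₁)).map (algebraMap A₁ D) ≤ Q)
    (hfin : Module.Finite A₁ (D ⧸ Q)) :
    ((algebraMap D (Localization.AtPrime Q)).comp (algebraMap C D)).Flat := by
  have hA₁D : (algebraMap A₁ D).comp (algebraMap A A₁) = algebraMap A D := by
    rw [IsScalarTower.algebraMap_eq A₁ C D, RingHom.comp_assoc, hA₁C,
      ← IsScalarTower.algebraMap_eq]
  refine flat_atPrime_of_completedPushout A₁ (I.map (algebraMap A A₁)) B₁ C D hftC ?_ ?_ hF Q hQI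
    hfin
  · intro E _ _ _ fB fC
    letI : Algebra A E := ((algebraMap A₁ E).comp (algebraMap A A₁)).toAlgebra
    have hAE : algebraMap A E = (algebraMap A₁ E).comp (algebraMap A A₁) :=
      RingHom.algebraMap_toAlgebra _
    have hIE : (I.map (algebraMap A A₁)).map (algebraMap A₁ E) = I.map (algebraMap A E) := by
      rw [Ideal.map_map, hAE]
    haveI : IsAdicComplete (I.map (algebraMap A E)) E := by
      have key : ∀ K : Ideal E, (I.map (algebraMap A A₁)).map (algebraMap A₁ E) = K →
          IsAdicComplete K E := by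
        rintro K rfl; infer_instance
      exact key _ hIE
    let fB' : B →ₐ[A] E :=
      { toRingHom := (fB : B₁ →+* E).comp (algebraMap B B₁)
        commutes' := fun a => by
          change fB (algebraMap B B₁ (algebraMap A B a)) = _
          have h1 := congrArg (fun g => g a) hA₁B
          simp only [RingHom.comp_apply] at h1
          rw [← h1, fB.commutes, hAE]
          rfl }
    let fC' : C →ₐ[A] E :=
      { toRingHom := (fC : C →+* E)
        commutes' := fun a => by
          change fC (algebraMap A C a) = _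
          rw [← hA₁C, RingHom.comp_apply, fC.commutes, hAE]
          rfl }
    obtain ⟨s, hsB, hsC⟩ := hP.exists_lift E fB' fC'
    refine ⟨s, ?_, hsC⟩
    refine hUB E (I.map (algebraMap A E)) _ _ ?_ ?_
    · rw [RingHom.comp_assoc, hBD, hsB]
      rfl
    · rw [RingHom.comp_assoc, hBD, hsB, Ideal.map_map]
      exact le_of_eq (congrArg (fun h => I.map h) fB'.comp_algebraMap)
  · intro s hsB hsC
    haveI : IsHausdorff (I.map (algebraMap A D)) D := by
      have key : ∀ K : Ideal D, (I.map (algebraMap A A₁)).map (algebraMap A₁ D) = K →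
          IsHausdorff K D := by
        rintro K rfl; infer_instance
      refine key _ ?_
      rw [Ideal.map_map, hA₁D]
    refine hP.hom_ext D s (RingHom.id D) ?_ ?_ ?_
    · rw [IsScalarTower.algebraMap_eq A C D, ← RingHom.comp_assoc, hsC]
    · rw [RingHom.id_comp, ← hBD, ← RingHom.comp_assoc, hsB]
    · rw [RingHom.id_comp, hsC]

end localBC

end Groth.Agent.H8.Rig
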