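import Mathlib
import Groth.Agent.Lib.Helper8.Rig.CPush
import Groth.Agent.Lib.Helper1.CompleteNoeth

set_option autoImplicit false
universe u

open TensorProduct

namespace Groth.Agent.H8.Rig

section tensorFacts

attribute [local instance] Algebra.TensorProduct.rightAlgebra

variable (A : Type u) [CommRing A] (I : Ideal A) (B C : Type u) [CommRing B] [CommRing C]
  [Algebra A B] [Algebra A C]

/-- `(C ⊗ B) / I(C ⊗ B)` is of finite type over `A`. -/
theorem finiteType_tensor_quotient
    (hftB : Algebra.FiniteType A (B ⧸ I.map (algebraMap A B)))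
    (hftC : Algebra.FiniteType A (C ⧸ I.map (algebraMap A C))) :
    Algebra.FiniteType A ((C ⊗[A] B) ⧸ (I.map (algebraMap A C)).map (algebraMap C (C ⊗[A] B))) := by
  have h1 : ∀ c ∈ I.map (algebraMap A C),
      ((Ideal.Quotient.mkₐ A ((I.map (algebraMap A C)).map (algebraMap C (C ⊗[A] B)))).comp
        (Algebra.TensorProduct.includeLeft : C →ₐ[A] C ⊗[A] B)) c = 0 := by
    intro c hc
    change Ideal.Quotient.mk _ (algebraMap C (C ⊗[A] B) c) = 0
    exact Ideal.Quotient.eq_zero_iff_mem.mpr (Ideal.mem_map_of_mem _ hc)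
  have h2 : ∀ b ∈ I.map (algebraMap A B),
      ((Ideal.Quotient.mkₐ A ((I.map (algebraMap A C)).map (algebraMap C (C ⊗[A] B)))).comp
        (Algebra.TensorProduct.includeRight : B →ₐ[A] C ⊗[A] B)) b = 0 := by
    intro b hb
    change Ideal.Quotient.mk _ (algebraMap B (C ⊗[A] B) b) = 0
    refine Ideal.Quotient.eq_zero_iff_mem.mpr ?_
    have h3 : (I.map (algebraMap A B)).map (algebraMap B (C ⊗[A] B)) =
        (I.map (algebraMap A C)).map (algebraMap C (C ⊗[A] B)) := by
      rw [map_map_tensor_eq, Ideal.map_map, ← IsScalarTower.algebraMap_eq]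
    rw [← h3]
    exact Ideal.mem_map_of_mem _ hb
  let φ1 := Ideal.Quotient.liftₐ (I.map (algebraMap A C)) _ h1
  let φ2 := Ideal.Quotient.liftₐ (I.map (algebraMap A B)) _ h2
  let φ : (C ⧸ I.map (algebraMap A C)) ⊗[A] (B ⧸ I.map (algebraMap A B)) →ₐ[A]
      (C ⊗[A] B) ⧸ (I.map (algebraMap A C)).map (algebraMap C (C ⊗[A] B)) :=
    Algebra.TensorProduct.lift φ1 φ2 (fun _ _ => Commute.all _ _)
  have hφ : Function.Surjective φ := by
    intro y
    obtain ⟨t, rfl⟩ := Ideal.Quotient.mk_surjective y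
    induction t using TensorProduct.induction_on with
    | zero => exact ⟨0, by simp⟩
    | add x y hx hy =>
      obtain ⟨a, ha⟩ := hx
      obtain ⟨b, hb⟩ := hy
      exact ⟨a + b, by rw [map_add, ha, hb, map_add]⟩
    | tmul c b =>
      refine ⟨(Ideal.Quotient.mk _ c) ⊗ₜ[A] (Ideal.Quotient.mk _ b), ?_⟩
      change φ1 (Ideal.Quotient.mk _ c) * φ2 (Ideal.Quotient.mk _ b) = _
      change Ideal.Quotient.mk _ (c ⊗ₜ[A] (1 : B)) * Ideal.Quotient.mk _ ((1 : C) ⊗ₜ[A] b) = _
      rw [← map_mul, Algebra.TensorProduct.tmul_mul_tmul, mul_one, one_mul]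
  haveI := hftB
  haveI := hftC
  have h4 : Algebra.FiniteType A
      ((C ⧸ I.map (algebraMap A C)) ⊗[A] (B ⧸ I.map (algebraMap A B))) :=
    Algebra.FiniteType.trans (S := C ⧸ I.map (algebraMap A C)) inferInstance inferInstance
  exact Algebra.FiniteType.of_surjective φ hφ

variable [IsNoetherianRing A]

/-- the completed tensor product is Noetherian, adic and topologically of finite type. -/
theorem tensor_completion_facts
    (hftB : Algebra.FiniteType A (B ⧸ I.map (algebraMap A B)))
    (hftC : Algebra.FiniteType A (C ⧸ I.map (algebraMap A C))) :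
    IsNoetherianRing (AdicCompletion ((I.map (algebraMap A C)).map (algebraMap C (C ⊗[A] B)))
      (C ⊗[A] B)) ∧
    IsAdicComplete ((I.map (algebraMap A C)).map (algebraMap C
      (AdicCompletion ((I.map (algebraMap A C)).map (algebraMap C (C ⊗[A] B))) (C ⊗[A] B))))
      (AdicCompletion ((I.map (algebraMap A C)).map (algebraMap C (C ⊗[A] B))) (C ⊗[A] B)) ∧
    Algebra.FiniteType A
      (AdicCompletion ((I.map (algebraMap A C)).map (algebraMap C (C ⊗[A] B))) (C ⊗[A] B) ⧸
        (I.map (algebraMap A C)).map (algebraMap C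
          (AdicCompletion ((I.map (algebraMap A C)).map (algebraMap C (C ⊗[A] B))) (C ⊗[A] B)))) := by
  have hK0fg : ((I.map (algebraMap A C)).map (algebraMap C (C ⊗[A] B))).FG :=
    Ideal.FG.map (Ideal.FG.map (IsNoetherian.noetherian I) _) _
  have hKD : ((I.map (algebraMap A C)).map (algebraMap C (C ⊗[A] B))).map
      (algebraMap (C ⊗[A] B) (AdicCompletion ((I.map (algebraMap A C)).map
        (algebraMap C (C ⊗[A] B))) (C ⊗[A] B))) =
      (I.map (algebraMap A C)).map (algebraMap C
      (AdicCompletion ((I.map (algebraMap A C)).map (algebraMap C (C ⊗[A] B))) (C ⊗[A] B))) :=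
    (Ideal.map_map _ _).trans (congrArg (fun h => (I.map (algebraMap A C)).map h)
      (IsScalarTower.algebraMap_eq C (C ⊗[A] B) _).symm)
  have hc := CT.isAdicComplete_map ((I.map (algebraMap A C)).map (algebraMap C (C ⊗[A] B))) hK0fg
  have hft0 := finiteType_tensor_quotient A I B C hftB hftC
  let e : (AdicCompletion ((I.map (algebraMap A C)).map (algebraMap C (C ⊗[A] B))) (C ⊗[A] B) ⧸
      ((I.map (algebraMap A C)).map (algebraMap C (C ⊗[A] B))).map
      (algebraMap (C ⊗[A] B) (AdicCompletion ((I.map (algebraMap A C)).map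
        (algebraMap C (C ⊗[A] B))) (C ⊗[A] B)))) ≃ₐ[C ⊗[A] B]
      (C ⊗[A] B) ⧸ (I.map (algebraMap A C)).map (algebraMap C (C ⊗[A] B)) :=
    (Ideal.quotientEquivAlgOfEq (C ⊗[A] B)
      (AdicCompletion.ker_evalOneₐ_eq_map _ hK0fg).symm).trans
      (Ideal.quotientKerAlgEquivOfSurjective (AdicCompletion.evalOneₐ_surjective _))
  have hft1 : Algebra.FiniteType A
      (AdicCompletion ((I.map (algebraMap A C)).map (algebraMap C (C ⊗[A] B))) (C ⊗[A] B) ⧸
      ((I.map (algebraMap A C)).map (algebraMap C (C ⊗[A] B))).map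
      (algebraMap (C ⊗[A] B) (AdicCompletion ((I.map (algebraMap A C)).map
        (algebraMap C (C ⊗[A] B))) (C ⊗[A] B)))) :=
    Algebra.FiniteType.equiv hft0 (e.symm.restrictScalars A)
  have hft2 := Algebra.FiniteType.equiv hft1 (Ideal.quotientEquivAlgOfEq A hKD)
  have hc2 : ∀ K : Ideal (AdicCompletion ((I.map (algebraMap A C)).map
      (algebraMap C (C ⊗[A] B))) (C ⊗[A] B)),
      ((I.map (algebraMap A C)).map (algebraMap C (C ⊗[A] B))).map
      (algebraMap (C ⊗[A] B) (AdicCompletion ((I.map (algebraMap A C)).map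
        (algebraMap C (C ⊗[A] B))) (C ⊗[A] B))) = K →
      IsAdicComplete K (AdicCompletion ((I.map (algebraMap A C)).map
      (algebraMap C (C ⊗[A] B))) (C ⊗[A] B)) := by
    rintro K rfl; exact hc
  have hc3 := hc2 _ hKD
  refine ⟨?_, hc3, hft2⟩
  haveI := hc3
  haveI : IsNoetherianRing
      (AdicCompletion ((I.map (algebraMap A C)).map (algebraMap C (C ⊗[A] B))) (C ⊗[A] B) ⧸
        (I.map (algebraMap A C)).map (algebraMap C
          (AdicCompletion ((I.map (algebraMap A C)).map (algebraMap C (C ⊗[A] B))) (C ⊗[A] B)))) :=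
    Algebra.FiniteType.isNoetherianRing A _
  exact Groth.Agent.H1.CompleteNoeth.isNoetherianRing_of_isAdicComplete
    ((I.map (algebraMap A C)).map (algebraMap C
      (AdicCompletion ((I.map (algebraMap A C)).map (algebraMap C (C ⊗[A] B))) (C ⊗[A] B))))
    (Ideal.FG.map (Ideal.FG.map (IsNoetherian.noetherian I) _) _)

end tensorFacts

end Groth.Agent.H8.Rig
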