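import Mathlib
import Groth.Agent.Lib.Helper8.Rig.LocalBC
import Groth.Agent.Lib.Helper8.Rig.TensorFacts
import Groth.Agent.Lib.Helper8.Rig.EtaleLoc

set_option autoImplicit false
universe u

namespace Groth.Agent.H8.Rig

section sq

variable (A : Type u) [CommRing A] [IsNoetherianRing A] (I : Ideal A) [IsAdicComplete I A]
  (B : Type u) [CommRing B] [Algebra A B] [IsNoetherianRing B]
  (C : Type u) [CommRing C] [Algebra A C] [IsNoetherianRing C]
  [IsAdicComplete (I.map (algebraMap A C)) C]
  (D : Type u) [CommRing D] [Algebra A D] [Algebra B D] [Algebra C D] [IsScalarTower A B D]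
  [IsScalarTower A C D] [IsNoetherianRing D] [IsAdicComplete (I.map (algebraMap A D)) D]

set_option maxHeartbeats 1600000 in
/-- rig-flat base change, abstract complete form. -/
theorem flat_atPrime_of_cpush_square
    (hftC : Algebra.FiniteType A (C ⧸ I.map (algebraMap A C)))
    (hftD : Algebra.FiniteType A (D ⧸ I.map (algebraMap A D)))
    (hAB : ∀ (g : A) (Q : PrimeSpectrum (CLoc B (I.map (algebraMap A B)) (algebraMap A B g))),
      IsRigClosed (CLoc B (I.map (algebraMap A B)) (algebraMap A B g))
        (((I.map (algebraMap A B)).map (algebraMap B (Localization.Away (algebraMap A B g)))).map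
          (algebraMap (Localization.Away (algebraMap A B g))
            (CLoc B (I.map (algebraMap A B)) (algebraMap A B g)))) Q →
      ((algebraMap (CLoc B (I.map (algebraMap A B)) (algebraMap A B g))
        (Localization.AtPrime Q.asIdeal)).comp
        (CLoc.lift A B I (I.map (algebraMap A B)) g (algebraMap A B g)
          (IsLocalization.Away.algebraMap_isUnit _) le_rfl)).Flat)
    (hP : IsCPush A I B C D)
    (q : PrimeSpectrum D) (hq : IsRigClosed D (I.map (algebraMap A D)) q) :
    ((algebraMap D (Localization.AtPrime q.asIdeal)).comp (algebraMap C D)).Flat := by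
  have hIfg : I.FG := IsNoetherian.noetherian I
  obtain ⟨g, hgu, hg⟩ := exists_rigClosed_below A I D hftD q hq
  have hu1 : IsUnit (algebraMap B (Localization.Away (algebraMap A B g)) (algebraMap A B g)) :=
    IsLocalization.Away.algebraMap_isUnit _
  have hu2 : IsUnit (algebraMap C (Localization.Away (algebraMap A C g)) (algebraMap A C g)) :=
    IsLocalization.Away.algebraMap_isUnit _
  have hu3 : IsUnit (algebraMap D (Localization.Away (algebraMap A D g)) (algebraMap A D g)) :=
    IsLocalization.Away.algebraMap_isUnit _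
  have hu4 : IsUnit (algebraMap D (Localization.Away (algebraMap A D g)) (algebraMap B D (algebraMap A B g))) := by
    rw [← IsScalarTower.algebraMap_apply A B D]; exact hu3
  have hu5 : IsUnit (algebraMap D (Localization.Away (algebraMap A D g)) (algebraMap C D (algebraMap A C g))) := by
    rw [← IsScalarTower.algebraMap_apply A C D]; exact hu3
  have hK1 : (I.map (algebraMap A B)).map (algebraMap B D) = (I.map (algebraMap A D)) := by
    rw [Ideal.map_map, ← IsScalarTower.algebraMap_eq]
  have hK2 : (I.map (algebraMap A C)).map (algebraMap C D) = (I.map (algebraMap A D)) := by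
    rw [Ideal.map_map, ← IsScalarTower.algebraMap_eq]
  have c1 := CLoc.lift_trans A B D I (I.map (algebraMap A B)) (I.map (algebraMap A D)) g (algebraMap A B g) (algebraMap A D g) hIfg (IsNoetherian.noetherian _)
    hu1 hu4 hu3 le_rfl hK1.le le_rfl
  have c2 := CLoc.lift_trans A C D I (I.map (algebraMap A C)) (I.map (algebraMap A D)) g (algebraMap A C g) (algebraMap A D g) hIfg (IsNoetherian.noetherian _)
    hu2 hu5 hu3 le_rfl hK2.le le_rfl
  haveI := CLoc.isNoetherianRing A I g
  haveI := CLoc.isNoetherianRing B (I.map (algebraMap A B)) (algebraMap A B g)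
  haveI := CLoc.isNoetherianRing C (I.map (algebraMap A C)) (algebraMap A C g)
  haveI := CLoc.isNoetherianRing D (I.map (algebraMap A D)) (algebraMap A D g)
  -- algebra structures
  letI algAB : Algebra (CLoc A I g) (CLoc B (I.map (algebraMap A B)) (algebraMap A B g)) := (CLoc.lift A B I (I.map (algebraMap A B)) g (algebraMap A B g) hu1 le_rfl).toAlgebra
  letI algAC : Algebra (CLoc A I g) (CLoc C (I.map (algebraMap A C)) (algebraMap A C g)) := (CLoc.lift A C I (I.map (algebraMap A C)) g (algebraMap A C g) hu2 le_rfl).toAlgebra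
  letI algAD : Algebra (CLoc A I g) (CLoc D (I.map (algebraMap A D)) (algebraMap A D g)) := (CLoc.lift A D I (I.map (algebraMap A D)) g (algebraMap A D g) hu3 le_rfl).toAlgebra
  letI algBD : Algebra (CLoc B (I.map (algebraMap A B)) (algebraMap A B g)) (CLoc D (I.map (algebraMap A D)) (algebraMap A D g)) := (CLoc.lift B D (I.map (algebraMap A B)) (I.map (algebraMap A D)) (algebraMap A B g) (algebraMap A D g) hu4 hK1.le).toAlgebra
  letI algCD : Algebra (CLoc C (I.map (algebraMap A C)) (algebraMap A C g)) (CLoc D (I.map (algebraMap A D)) (algebraMap A D g)) := (CLoc.lift C D (I.map (algebraMap A C)) (I.map (algebraMap A D)) (algebraMap A C g) (algebraMap A D g) hu5 hK2.le).toAlgebra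
  haveI tABD : IsScalarTower (CLoc A I g) (CLoc B (I.map (algebraMap A B)) (algebraMap A B g)) (CLoc D (I.map (algebraMap A D)) (algebraMap A D g)) := .of_algebraMap_eq fun x => by
    change (CLoc.lift A D I (I.map (algebraMap A D)) g (algebraMap A D g) hu3 le_rfl) x = (CLoc.lift B D (I.map (algebraMap A B)) (I.map (algebraMap A D)) (algebraMap A B g) (algebraMap A D g) hu4 hK1.le) ((CLoc.lift A B I (I.map (algebraMap A B)) g (algebraMap A B g) hu1 le_rfl) x)
    rw [← c1]; rfl
  haveI tACD : IsScalarTower (CLoc A I g) (CLoc C (I.map (algebraMap A C)) (algebraMap A C g)) (CLoc D (I.map (algebraMap A D)) (algebraMap A D g)) := .of_algebraMap_eq fun x => by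
    change (CLoc.lift A D I (I.map (algebraMap A D)) g (algebraMap A D g) hu3 le_rfl) x = (CLoc.lift C D (I.map (algebraMap A C)) (I.map (algebraMap A D)) (algebraMap A C g) (algebraMap A D g) hu5 hK2.le) ((CLoc.lift A C I (I.map (algebraMap A C)) g (algebraMap A C g) hu2 le_rfl) x)
    rw [← c2]; rfl
  have hP2 : IsCPush A I B (CLoc C (I.map (algebraMap A C)) (algebraMap A C g)) (CLoc D (I.map (algebraMap A D)) (algebraMap A D g)) :=
    hP.cloc A I B C D hIfg (I.map (algebraMap A C)) (I.map (algebraMap A D)) rfl rfl (algebraMap A C g) (algebraMap A D g)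
      (IsScalarTower.algebraMap_apply A C D g).symm hu5 hK2.le rfl
  haveI tABD2 : IsScalarTower A B (CLoc D (I.map (algebraMap A D)) (algebraMap A D g)) := inferInstance
  haveI tACD2 : IsScalarTower A (CLoc C (I.map (algebraMap A C)) (algebraMap A C g)) (CLoc D (I.map (algebraMap A D)) (algebraMap A D g)) := .of_algebraMap_eq fun x => by
    rw [IsScalarTower.algebraMap_apply A C (CLoc C (I.map (algebraMap A C)) (algebraMap A C g))]
    change _ = (CLoc.lift C D (I.map (algebraMap A C)) (I.map (algebraMap A D)) (algebraMap A C g) (algebraMap A D g) hu5 hK2.le) _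
    rw [CLoc.lift_algebraMap, ← IsScalarTower.algebraMap_apply A C D,
      ← IsScalarTower.algebraMap_apply A D (CLoc D (I.map (algebraMap A D)) (algebraMap A D g))]
  -- compatibilities
  have hA1C : (algebraMap (CLoc A I g) (CLoc C (I.map (algebraMap A C)) (algebraMap A C g))).comp (algebraMap A (CLoc A I g)) = algebraMap A (CLoc C (I.map (algebraMap A C)) (algebraMap A C g)) := by
    refine RingHom.ext fun a => ?_
    rw [RingHom.comp_apply]
    change (CLoc.lift A C I (I.map (algebraMap A C)) g (algebraMap A C g) hu2 le_rfl) _ = _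
    rw [CLoc.lift_algebraMap, ← IsScalarTower.algebraMap_apply A C (CLoc C (I.map (algebraMap A C)) (algebraMap A C g))]
  have hA1D : (algebraMap (CLoc A I g) (CLoc D (I.map (algebraMap A D)) (algebraMap A D g))).comp (algebraMap A (CLoc A I g)) = algebraMap A (CLoc D (I.map (algebraMap A D)) (algebraMap A D g)) := by
    refine RingHom.ext fun a => ?_
    rw [RingHom.comp_apply]
    change (CLoc.lift A D I (I.map (algebraMap A D)) g (algebraMap A D g) hu3 le_rfl) _ = _
    rw [CLoc.lift_algebraMap, ← IsScalarTower.algebraMap_apply A D (CLoc D (I.map (algebraMap A D)) (algebraMap A D g))]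
  have hA1B : (algebraMap (CLoc A I g) (CLoc B (I.map (algebraMap A B)) (algebraMap A B g))).comp (algebraMap A (CLoc A I g)) =
      (algebraMap B (CLoc B (I.map (algebraMap A B)) (algebraMap A B g))).comp (algebraMap A B) := by
    refine RingHom.ext fun a => ?_
    rw [RingHom.comp_apply, RingHom.comp_apply]
    change (CLoc.lift A B I (I.map (algebraMap A B)) g (algebraMap A B g) hu1 le_rfl) _ = _
    rw [CLoc.lift_algebraMap]
  have hBD : (algebraMap (CLoc B (I.map (algebraMap A B)) (algebraMap A B g)) (CLoc D (I.map (algebraMap A D)) (algebraMap A D g))).comp (algebraMap B (CLoc B (I.map (algebraMap A B)) (algebraMap A B g))) = algebraMap B (CLoc D (I.map (algebraMap A D)) (algebraMap A D g)) := by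
    refine RingHom.ext fun b => ?_
    rw [RingHom.comp_apply]
    change (CLoc.lift B D (I.map (algebraMap A B)) (I.map (algebraMap A D)) (algebraMap A B g) (algebraMap A D g) hu4 hK1.le) _ = _
    rw [CLoc.lift_algebraMap, ← IsScalarTower.algebraMap_apply B D (CLoc D (I.map (algebraMap A D)) (algebraMap A D g))]
  haveI tAA1C : IsScalarTower A (CLoc A I g) (CLoc C (I.map (algebraMap A C)) (algebraMap A C g)) := .of_algebraMap_eq fun x => by
    rw [← hA1C]; rfl
  haveI tAA1D : IsScalarTower A (CLoc A I g) (CLoc D (I.map (algebraMap A D)) (algebraMap A D g)) := .of_algebraMap_eq fun x => by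
    rw [← hA1D]; rfl
  -- ideals
  have hJC : (I.map (algebraMap A (CLoc A I g))).map (algebraMap (CLoc A I g) (CLoc C (I.map (algebraMap A C)) (algebraMap A C g))) = (I.map (algebraMap A C)).map (algebraMap C (CLoc C (I.map (algebraMap A C)) (algebraMap A C g))) :=
    (Ideal.map_map _ _).trans ((congrArg (fun h => I.map h) hA1C).trans
      ((congrArg (fun h => I.map h) (IsScalarTower.algebraMap_eq A C (CLoc C (I.map (algebraMap A C)) (algebraMap A C g)))).trans
        (Ideal.map_map _ _).symm))
  have hJD : (I.map (algebraMap A (CLoc A I g))).map (algebraMap (CLoc A I g) (CLoc D (I.map (algebraMap A D)) (algebraMap A D g))) = (I.map (algebraMap A D)).map (algebraMap D (CLoc D (I.map (algebraMap A D)) (algebraMap A D g))) :=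
    (Ideal.map_map _ _).trans ((congrArg (fun h => I.map h) hA1D).trans
      ((congrArg (fun h => I.map h) (IsScalarTower.algebraMap_eq A D (CLoc D (I.map (algebraMap A D)) (algebraMap A D g)))).trans
        (Ideal.map_map _ _).symm))
  have hJB : (I.map (algebraMap A (CLoc A I g))).map (algebraMap (CLoc A I g) (CLoc B (I.map (algebraMap A B)) (algebraMap A B g))) = (I.map (algebraMap A B)).map (algebraMap B (CLoc B (I.map (algebraMap A B)) (algebraMap A B g))) :=
    (Ideal.map_map _ _).trans ((congrArg (fun h => I.map h) hA1B).trans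
        (Ideal.map_map _ _).symm)
  haveI cA1 : IsAdicComplete (I.map (algebraMap A (CLoc A I g))) (CLoc A I g) := CLoc.isAdicComplete A I g
  have keyC : ∀ J : Ideal (CLoc C (I.map (algebraMap A C)) (algebraMap A C g)), (I.map (algebraMap A C)).map (algebraMap C (CLoc C (I.map (algebraMap A C)) (algebraMap A C g))) = J →
      IsAdicComplete J (CLoc C (I.map (algebraMap A C)) (algebraMap A C g)) ∧ Algebra.FiniteType A ((CLoc C (I.map (algebraMap A C)) (algebraMap A C g)) ⧸ J) := by
    rintro J rfl
    exact ⟨CLoc.isAdicComplete C _ _, CLoc.finiteType_quotient C _ _ A hftC⟩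
  obtain ⟨cC, ftC⟩ := keyC _ hJC.symm
  have keyD : ∀ J : Ideal (CLoc D (I.map (algebraMap A D)) (algebraMap A D g)), (I.map (algebraMap A D)).map (algebraMap D (CLoc D (I.map (algebraMap A D)) (algebraMap A D g))) = J →
      IsAdicComplete J (CLoc D (I.map (algebraMap A D)) (algebraMap A D g)) ∧ Algebra.FiniteType A ((CLoc D (I.map (algebraMap A D)) (algebraMap A D g)) ⧸ J) := by
    rintro J rfl
    exact ⟨CLoc.isAdicComplete D _ _, CLoc.finiteType_quotient D _ _ A hftD⟩
  obtain ⟨cD, ftD⟩ := keyD _ hJD.symm
  have ftC1 : Algebra.FiniteType (CLoc A I g) ((CLoc C (I.map (algebraMap A C)) (algebraMap A C g)) ⧸ (I.map (algebraMap A (CLoc A I g))).map (algebraMap (CLoc A I g) (CLoc C (I.map (algebraMap A C)) (algebraMap A C g)))) :=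
    Algebra.FiniteType.of_restrictScalars_finiteType A _ _
  have ftD1 : Algebra.FiniteType (CLoc A I g) ((CLoc D (I.map (algebraMap A D)) (algebraMap A D g)) ⧸ (I.map (algebraMap A (CLoc A I g))).map (algebraMap (CLoc A I g) (CLoc D (I.map (algebraMap A D)) (algebraMap A D g)))) :=
    Algebra.FiniteType.of_restrictScalars_finiteType A _ _
  -- flatness of `B₁` over `A₁` away from `V(I)`
  have hF : ∀ (qB : Ideal (CLoc B (I.map (algebraMap A B)) (algebraMap A B g))) [qB.IsPrime], ¬ (I.map (algebraMap A (CLoc A I g))).map (algebraMap (CLoc A I g) (CLoc B (I.map (algebraMap A B)) (algebraMap A B g))) ≤ qB →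
      Module.Flat (CLoc A I g) (Localization.AtPrime qB) := by
    intro qB _ hqB
    have hqS : ¬ (((I.map (algebraMap A B)).map (algebraMap B (Localization.Away (algebraMap A B g)))).map
        (algebraMap (Localization.Away (algebraMap A B g)) (CLoc B (I.map (algebraMap A B)) (algebraMap A B g)))) ≤ qB := by
      intro hle
      exact hqB ((hJB.trans (CLoc.map_eq B _ _)).le.trans hle)
    have F1 := flat_atPrime_of_rigFlat (CLoc.lift A B I (I.map (algebraMap A B)) g (algebraMap A B g) hu1 le_rfl) _ (hAB g) ⟨qB, inferInstance⟩ hqS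
    have e : algebraMap (CLoc A I g) (Localization.AtPrime qB) =
        (algebraMap (CLoc B (I.map (algebraMap A B)) (algebraMap A B g)) (Localization.AtPrime qB)).comp (algebraMap (CLoc A I g) (CLoc B (I.map (algebraMap A B)) (algebraMap A B g))) :=
      IsScalarTower.algebraMap_eq _ _ _
    rw [← RingHom.flat_algebraMap_iff, e]
    exact F1
  -- the prime `Q = q D_{g}`
  obtain ⟨hQprime, hQbij⟩ := isPrime_map_and_bijective D (I.map (algebraMap A D)) q.asIdeal
    (algebraMap A D g) (Localization.Away (algebraMap A D g)) hgu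
  have hQc : (q.asIdeal.map (algebraMap D (CLoc D (I.map (algebraMap A D)) (algebraMap A D g)))).comap (algebraMap D (CLoc D (I.map (algebraMap A D)) (algebraMap A D g))) = q.asIdeal := by
    apply le_antisymm _ Ideal.le_comap_map
    intro x hx
    have h0 : Ideal.quotientMap (q.asIdeal.map (algebraMap D (CLoc D (I.map (algebraMap A D)) (algebraMap A D g)))) (algebraMap D (CLoc D (I.map (algebraMap A D)) (algebraMap A D g))) Ideal.le_comap_map
        (Ideal.Quotient.mk q.asIdeal x) = 0 := by
      rw [Ideal.quotientMap_mk, Ideal.Quotient.eq_zero_iff_mem]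
      exact hx
    have h1 := hQbij.1 (h0.trans (map_zero _).symm)
    exact Ideal.Quotient.eq_zero_iff_mem.mp h1
  have hQI : ¬ (I.map (algebraMap A (CLoc A I g))).map (algebraMap (CLoc A I g) (CLoc D (I.map (algebraMap A D)) (algebraMap A D g))) ≤ (q.asIdeal.map (algebraMap D (CLoc D (I.map (algebraMap A D)) (algebraMap A D g)))) := by
    intro hle
    apply hq.1
    rw [← hQc, ← Ideal.map_le_iff_le_comap]
    exact hJD.symm.le.trans hle
  have hjD : (I.map (algebraMap A D)) ≤ Ideal.jacobson ⊥ := IsAdicComplete.le_jacobson_bot _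
  have hjD2 : (I.map (algebraMap A (CLoc A I g))).map (algebraMap (CLoc A I g) (CLoc D (I.map (algebraMap A D)) (algebraMap A D g))) ≤ Ideal.jacobson ⊥ :=
    IsAdicComplete.le_jacobson_bot _
  have hdim := ((isRigClosed_iff hjD q).mp hq).1
  have hQrig : IsRigClosed (CLoc D (I.map (algebraMap A D)) (algebraMap A D g)) ((I.map (algebraMap A (CLoc A I g))).map (algebraMap (CLoc A I g) (CLoc D (I.map (algebraMap A D)) (algebraMap A D g)))) ⟨(q.asIdeal.map (algebraMap D (CLoc D (I.map (algebraMap A D)) (algebraMap A D g)))), hQprime⟩ := by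
    rw [isRigClosed_iff hjD2]
    refine ⟨?_, hQI⟩
    rw [← hdim]
    exact (ringKrullDim_eq_of_ringEquiv (RingEquiv.ofBijective _ hQbij)).symm
  have hp : IsRigClosed (CLoc A I g) (I.map (algebraMap A (CLoc A I g)))
      (PrimeSpectrum.comap (algebraMap (CLoc A I g) (CLoc D (I.map (algebraMap A D)) (algebraMap A D g))) ⟨(q.asIdeal.map (algebraMap D (CLoc D (I.map (algebraMap A D)) (algebraMap A D g)))), hQprime⟩) := by
    obtain ⟨hpprime, hpI, hpmax⟩ := hg (CLoc.lift A D I (I.map (algebraMap A D)) g (algebraMap A D g) hu3 le_rfl) (CLoc.lift_comp A D I _ g _ hu3 le_rfl)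
    refine ⟨hpI, ?_⟩
    intro y hle hyI
    apply PrimeSpectrum.ext
    exact hpmax y hle hyI
  have htf := (tfae_comap (CLoc A I g) (I.map (algebraMap A (CLoc A I g))) (CLoc D (I.map (algebraMap A D)) (algebraMap A D g)) ftD1 ⟨(q.asIdeal.map (algebraMap D (CLoc D (I.map (algebraMap A D)) (algebraMap A D g)))), hQprime⟩ hQrig).out 1 2
  have hfin : Module.Finite (CLoc A I g) ((CLoc D (I.map (algebraMap A D)) (algebraMap A D g)) ⧸ (q.asIdeal.map (algebraMap D (CLoc D (I.map (algebraMap A D)) (algebraMap A D g))))) := htf.mp hp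
  haveI := hQprime
  have F2 := flat_atPrime_of_isCPush A I B (CLoc C (I.map (algebraMap A C)) (algebraMap A C g)) (CLoc D (I.map (algebraMap A D)) (algebraMap A D g)) (CLoc A I g) (CLoc B (I.map (algebraMap A B)) (algebraMap A B g)) hP2 hA1C hA1B hBD
    (fun E _ N _ p1 p2 h12 hN => CLoc.hom_ext_of_agree B (I.map (algebraMap A B)) (algebraMap A B g) N (Ideal.FG.map hIfg _)
      p1 p2 h12 hN) ftC1 hF (q.asIdeal.map (algebraMap D (CLoc D (I.map (algebraMap A D)) (algebraMap A D g)))) hQI hfin
  -- descend to `C → D`
  have hfl : (algebraMap C (CLoc C (I.map (algebraMap A C)) (algebraMap A C g))).Flat := RingHom.flat_algebraMap_iff.mpr (CLoc.flat C _ _)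
  have F3 := hfl.comp F2
  have e : (algebraMap (CLoc C (I.map (algebraMap A C)) (algebraMap A C g)) (CLoc D (I.map (algebraMap A D)) (algebraMap A D g))).comp (algebraMap C (CLoc C (I.map (algebraMap A C)) (algebraMap A C g))) =
      (algebraMap D (CLoc D (I.map (algebraMap A D)) (algebraMap A D g))).comp (algebraMap C D) :=
    RingHom.ext fun x => CLoc.lift_algebraMap C D _ _ _ _ hu5 hK2.le x
  rw [RingHom.comp_assoc, e] at F3
  have hγ : (algebraMap D (CLoc D (I.map (algebraMap A D)) (algebraMap A D g))).Flat := RingHom.flat_algebraMap_iff.mpr (CLoc.flat D _ _)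
  have F4 := flat_atPrime_descent (algebraMap C D) (algebraMap D (CLoc D (I.map (algebraMap A D)) (algebraMap A D g))) hγ ⟨_, hQprime⟩ F3
  have hqq : PrimeSpectrum.comap (algebraMap D (CLoc D (I.map (algebraMap A D)) (algebraMap A D g))) ⟨_, hQprime⟩ = q := PrimeSpectrum.ext hQc
  rw [hqq] at F4
  exact F4

end sq

end Groth.Agent.H8.Rig

namespace Groth.Agent.H8.Rig

section wrap

variable (A : Type u) [CommRing A] [IsNoetherianRing A] (I : Ideal A) [IsAdicComplete I A]
  (B : Type u) [CommRing B] [Algebra A B] [IsNoetherianRing B]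
  (C : Type u) [CommRing C] [Algebra A C] [IsNoetherianRing C]
  (D : Type u) [CommRing D] [Algebra A D] [Algebra B D] [Algebra C D] [IsScalarTower A B D]
  [IsScalarTower A C D] [IsNoetherianRing D]

set_option maxHeartbeats 1600000 in
/-- rig-flat base change along a completed pushout. -/
theorem rigFlat_of_isCPush
    (hftC : Algebra.FiniteType A (C ⧸ I.map (algebraMap A C)))
    (hftD : Algebra.FiniteType A (D ⧸ ((I.map (algebraMap A C)).map (algebraMap C D))))
    (hAB : ∀ (g : A) (Q : PrimeSpectrum (CLoc B (I.map (algebraMap A B)) (algebraMap A B g))),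
      IsRigClosed (CLoc B (I.map (algebraMap A B)) (algebraMap A B g))
        (((I.map (algebraMap A B)).map (algebraMap B (Localization.Away (algebraMap A B g)))).map
          (algebraMap (Localization.Away (algebraMap A B g))
            (CLoc B (I.map (algebraMap A B)) (algebraMap A B g)))) Q →
      ((algebraMap (CLoc B (I.map (algebraMap A B)) (algebraMap A B g))
        (Localization.AtPrime Q.asIdeal)).comp
        (CLoc.lift A B I (I.map (algebraMap A B)) g (algebraMap A B g)
          (IsLocalization.Away.algebraMap_isUnit _) le_rfl)).Flat)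
    (hP : IsCPush A I B C D)
    (h : C) (q : PrimeSpectrum (CLoc D ((I.map (algebraMap A C)).map (algebraMap C D)) (algebraMap C D h)))
    (hq : IsRigClosed (CLoc D ((I.map (algebraMap A C)).map (algebraMap C D)) (algebraMap C D h)) ((((I.map (algebraMap A C)).map (algebraMap C D)).map (algebraMap D (Localization.Away (algebraMap C D h)))).map
      (algebraMap (Localization.Away (algebraMap C D h)) (CLoc D ((I.map (algebraMap A C)).map (algebraMap C D)) (algebraMap C D h)))) q) :
    ((algebraMap (CLoc D ((I.map (algebraMap A C)).map (algebraMap C D)) (algebraMap C D h)) (Localization.AtPrime q.asIdeal)).comp (CLoc.lift C D (I.map (algebraMap A C)) ((I.map (algebraMap A C)).map (algebraMap C D)) h (algebraMap C D h) (IsLocalization.Away.algebraMap_isUnit _) le_rfl)).Flat := by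
  have hIfg : I.FG := IsNoetherian.noetherian I
  letI alg : Algebra (CLoc C (I.map (algebraMap A C)) h) (CLoc D ((I.map (algebraMap A C)).map (algebraMap C D)) (algebraMap C D h)) := (CLoc.lift C D (I.map (algebraMap A C)) ((I.map (algebraMap A C)).map (algebraMap C D)) h (algebraMap C D h) (IsLocalization.Away.algebraMap_isUnit _) le_rfl).toAlgebra
  haveI tACD : IsScalarTower A (CLoc C (I.map (algebraMap A C)) h) (CLoc D ((I.map (algebraMap A C)).map (algebraMap C D)) (algebraMap C D h)) := .of_algebraMap_eq fun x => by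
    rw [IsScalarTower.algebraMap_apply A C (CLoc C (I.map (algebraMap A C)) h)]
    change _ = (CLoc.lift C D (I.map (algebraMap A C)) ((I.map (algebraMap A C)).map (algebraMap C D)) h (algebraMap C D h) (IsLocalization.Away.algebraMap_isUnit _) le_rfl) _
    rw [CLoc.lift_algebraMap, ← IsScalarTower.algebraMap_apply A C D,
      ← IsScalarTower.algebraMap_apply A D (CLoc D ((I.map (algebraMap A C)).map (algebraMap C D)) (algebraMap C D h))]
  haveI := CLoc.isNoetherianRing C (I.map (algebraMap A C)) h
  haveI := CLoc.isNoetherianRing D ((I.map (algebraMap A C)).map (algebraMap C D)) (algebraMap C D h)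
  have hKD : I.map (algebraMap A D) = ((I.map (algebraMap A C)).map (algebraMap C D)) :=
    ((Ideal.map_map _ _).trans (congrArg (fun h => I.map h)
      (IsScalarTower.algebraMap_eq A C D).symm)).symm
  have hI1 : (I.map (algebraMap A C)).map (algebraMap C (CLoc C (I.map (algebraMap A C)) h)) = I.map (algebraMap A (CLoc C (I.map (algebraMap A C)) h)) :=
    (Ideal.map_map _ _).trans (congrArg (fun h => I.map h)
      (IsScalarTower.algebraMap_eq A C (CLoc C (I.map (algebraMap A C)) h)).symm)
  have hI2 : ((I.map (algebraMap A C)).map (algebraMap C D)).map (algebraMap D (CLoc D ((I.map (algebraMap A C)).map (algebraMap C D)) (algebraMap C D h))) = I.map (algebraMap A (CLoc D ((I.map (algebraMap A C)).map (algebraMap C D)) (algebraMap C D h))) :=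
    (congrArg (fun L : Ideal D => L.map (algebraMap D (CLoc D ((I.map (algebraMap A C)).map (algebraMap C D)) (algebraMap C D h)))) hKD.symm).trans
      ((Ideal.map_map _ _).trans (congrArg (fun h => I.map h)
        (IsScalarTower.algebraMap_eq A D (CLoc D ((I.map (algebraMap A C)).map (algebraMap C D)) (algebraMap C D h))).symm))
  have keyC : ∀ J : Ideal (CLoc C (I.map (algebraMap A C)) h), (I.map (algebraMap A C)).map (algebraMap C (CLoc C (I.map (algebraMap A C)) h)) = J →
      IsAdicComplete J (CLoc C (I.map (algebraMap A C)) h) ∧ Algebra.FiniteType A ((CLoc C (I.map (algebraMap A C)) h) ⧸ J) := by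
    rintro J rfl
    exact ⟨CLoc.isAdicComplete C _ _, CLoc.finiteType_quotient C _ _ A hftC⟩
  obtain ⟨cC, ftC⟩ := keyC _ hI1
  have keyD : ∀ J : Ideal (CLoc D ((I.map (algebraMap A C)).map (algebraMap C D)) (algebraMap C D h)), ((I.map (algebraMap A C)).map (algebraMap C D)).map (algebraMap D (CLoc D ((I.map (algebraMap A C)).map (algebraMap C D)) (algebraMap C D h))) = J →
      IsAdicComplete J (CLoc D ((I.map (algebraMap A C)).map (algebraMap C D)) (algebraMap C D h)) ∧ Algebra.FiniteType A ((CLoc D ((I.map (algebraMap A C)).map (algebraMap C D)) (algebraMap C D h)) ⧸ J) := by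
    rintro J rfl
    exact ⟨CLoc.isAdicComplete D _ _, CLoc.finiteType_quotient D _ _ A hftD⟩
  obtain ⟨cD, ftD⟩ := keyD _ hI2
  have hP1 : IsCPush A I B (CLoc C (I.map (algebraMap A C)) h) (CLoc D ((I.map (algebraMap A C)).map (algebraMap C D)) (algebraMap C D h)) :=
    hP.cloc A I B C D hIfg (I.map (algebraMap A C)) ((I.map (algebraMap A C)).map (algebraMap C D)) rfl hKD h (algebraMap C D h) rfl
      (IsLocalization.Away.algebraMap_isUnit _) le_rfl rfl
  have hq2 : IsRigClosed (CLoc D ((I.map (algebraMap A C)).map (algebraMap C D)) (algebraMap C D h)) (I.map (algebraMap A (CLoc D ((I.map (algebraMap A C)).map (algebraMap C D)) (algebraMap C D h)))) q := by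
    have key : ∀ J : Ideal (CLoc D ((I.map (algebraMap A C)).map (algebraMap C D)) (algebraMap C D h)),
        ((((I.map (algebraMap A C)).map (algebraMap C D)).map (algebraMap D (Localization.Away (algebraMap C D h)))).map
          (algebraMap (Localization.Away (algebraMap C D h)) (CLoc D ((I.map (algebraMap A C)).map (algebraMap C D)) (algebraMap C D h)))) = J → IsRigClosed _ J q := by
      rintro J rfl; exact hq
    exact key _ ((CLoc.map_eq D _ _).symm.trans hI2)
  exact flat_atPrime_of_cpush_square A I B (CLoc C (I.map (algebraMap A C)) h) (CLoc D ((I.map (algebraMap A C)).map (algebraMap C D)) (algebraMap C D h)) ftC ftD hAB hP1 q hq2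

end wrap

end Groth.Agent.H8.Rig

namespace Groth.Agent.H8.Rig

section final

open TensorProduct

attribute [local instance] Algebra.TensorProduct.rightAlgebra

variable (A : Type u) [CommRing A] [IsNoetherianRing A] (I : Ideal A) [IsAdicComplete I A]
  (B : Type u) [CommRing B] [Algebra A B] [IsNoetherianRing B]
  (C : Type u) [CommRing C] [Algebra A C] [IsNoetherianRing C]

set_option maxHeartbeats 1600000 in
/-- rig-flat base change to the completed tensor product. -/
theorem rigFlat_baseChange_tensor
    (hftB : Algebra.FiniteType A (B ⧸ I.map (algebraMap A B)))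
    (hftC : Algebra.FiniteType A (C ⧸ I.map (algebraMap A C)))
    (hAB : ∀ (g : A) (Q : PrimeSpectrum (CLoc B (I.map (algebraMap A B)) (algebraMap A B g))),
      IsRigClosed (CLoc B (I.map (algebraMap A B)) (algebraMap A B g))
        (((I.map (algebraMap A B)).map (algebraMap B (Localization.Away (algebraMap A B g)))).map
          (algebraMap (Localization.Away (algebraMap A B g))
            (CLoc B (I.map (algebraMap A B)) (algebraMap A B g)))) Q →
      ((algebraMap (CLoc B (I.map (algebraMap A B)) (algebraMap A B g))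
        (Localization.AtPrime Q.asIdeal)).comp
        (CLoc.lift A B I (I.map (algebraMap A B)) g (algebraMap A B g)
          (IsLocalization.Away.algebraMap_isUnit _) le_rfl)).Flat)
    (h : C) (q : PrimeSpectrum (CLoc (AdicCompletion ((I.map (algebraMap A C)).map (algebraMap C (C ⊗[A] B))) (C ⊗[A] B)) ((I.map (algebraMap A C)).map (algebraMap C (AdicCompletion ((I.map (algebraMap A C)).map (algebraMap C (C ⊗[A] B))) (C ⊗[A] B)))) (algebraMap C (AdicCompletion ((I.map (algebraMap A C)).map (algebraMap C (C ⊗[A] B))) (C ⊗[A] B)) h)))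
    (hq : IsRigClosed (CLoc (AdicCompletion ((I.map (algebraMap A C)).map (algebraMap C (C ⊗[A] B))) (C ⊗[A] B)) ((I.map (algebraMap A C)).map (algebraMap C (AdicCompletion ((I.map (algebraMap A C)).map (algebraMap C (C ⊗[A] B))) (C ⊗[A] B)))) (algebraMap C (AdicCompletion ((I.map (algebraMap A C)).map (algebraMap C (C ⊗[A] B))) (C ⊗[A] B)) h))
      ((((I.map (algebraMap A C)).map (algebraMap C (AdicCompletion ((I.map (algebraMap A C)).map (algebraMap C (C ⊗[A] B))) (C ⊗[A] B)))).map
        (algebraMap (AdicCompletion ((I.map (algebraMap A C)).map (algebraMap C (C ⊗[A] B))) (C ⊗[A] B)) (Localization.Away (algebraMap C (AdicCompletion ((I.map (algebraMap A C)).map (algebraMap C (C ⊗[A] B))) (C ⊗[A] B)) h)))).map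
      (algebraMap (Localization.Away (algebraMap C (AdicCompletion ((I.map (algebraMap A C)).map (algebraMap C (C ⊗[A] B))) (C ⊗[A] B)) h))
        (CLoc (AdicCompletion ((I.map (algebraMap A C)).map (algebraMap C (C ⊗[A] B))) (C ⊗[A] B)) ((I.map (algebraMap A C)).map (algebraMap C (AdicCompletion ((I.map (algebraMap A C)).map (algebraMap C (C ⊗[A] B))) (C ⊗[A] B)))) (algebraMap C (AdicCompletion ((I.map (algebraMap A C)).map (algebraMap C (C ⊗[A] B))) (C ⊗[A] B)) h)))) q) :
    ((algebraMap (CLoc (AdicCompletion ((I.map (algebraMap A C)).map (algebraMap C (C ⊗[A] B))) (C ⊗[A] B)) ((I.map (algebraMap A C)).map (algebraMap C (AdicCompletion ((I.map (algebraMap A C)).map (algebraMap C (C ⊗[A] B))) (C ⊗[A] B)))) (algebraMap C (AdicCompletion ((I.map (algebraMap A C)).map (algebraMap C (C ⊗[A] B))) (C ⊗[A] B)) h))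
      (Localization.AtPrime q.asIdeal)).comp
      (CLoc.lift C (AdicCompletion ((I.map (algebraMap A C)).map (algebraMap C (C ⊗[A] B))) (C ⊗[A] B)) (I.map (algebraMap A C)) ((I.map (algebraMap A C)).map (algebraMap C (AdicCompletion ((I.map (algebraMap A C)).map (algebraMap C (C ⊗[A] B))) (C ⊗[A] B)))) h (algebraMap C (AdicCompletion ((I.map (algebraMap A C)).map (algebraMap C (C ⊗[A] B))) (C ⊗[A] B)) h)
        (IsLocalization.Away.algebraMap_isUnit _) le_rfl)).Flat := by
  obtain ⟨hN, hc, hft⟩ := tensor_completion_facts A I B C hftB hftC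
  haveI := hN
  exact rigFlat_of_isCPush A I B C (AdicCompletion ((I.map (algebraMap A C)).map (algebraMap C (C ⊗[A] B))) (C ⊗[A] B)) hftC hft hAB
    (isCPush_tensor A I B C (IsNoetherian.noetherian I)) h q hq

end final

end Groth.Agent.H8.Rig
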