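import Mathlib
import Groth.Agent.Lib.Helper3.CA.CplMap

set_option autoImplicit false
universe u

namespace Groth.Agent.H8.Rig

/-- the map of completions induced by a flat adic map of Noetherian rings is flat. -/
theorem cplMap_flat {T1 T2 : Type u} [CommRing T1] [CommRing T2] [IsNoetherianRing T1]
    [IsNoetherianRing T2] (g : T1 →+* T2) (hg : g.Flat) (J1 : Ideal T1) (J2 : Ideal T2)
    (hJ : J1.map g = J2) :
    (Groth.Agent.H3.CplMap.cplMap g J1 J2 hJ.le).Flat := by
  algebraize [g, Groth.Agent.H3.CplMap.cplMap g J1 J2 hJ.le,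
    (algebraMap T2 (AdicCompletion J2 T2)).comp g]
  haveI : IsScalarTower T1 T2 (AdicCompletion J2 T2) := .of_algebraMap_eq fun x => rfl
  haveI : IsScalarTower T1 (AdicCompletion J1 T1) (AdicCompletion J2 T2) :=
    .of_algebraMap_eq fun x => (Groth.Agent.H3.CplMap.cplMap_of g J1 J2 hJ.le x).symm
  haveI : Module.Flat T1 (AdicCompletion J2 T2) := Module.Flat.trans T1 T2 _
  have c2 : IsAdicComplete J2 (AdicCompletion J2 T2) :=
    AdicCompletion.isAdicComplete (IsNoetherian.noetherian J2)
  have key : ∀ K : Ideal T2, K = J2 → IsAdicComplete K (AdicCompletion J2 T2) := by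
    rintro K rfl; exact c2
  have c3 : IsAdicComplete (J1.map (algebraMap T1 T2)) (AdicCompletion J2 T2) := key _ hJ
  rw [IsAdicComplete.map_algebraMap_iff] at c3
  haveI c4 : IsAdicComplete (J1.map (algebraMap T1 (AdicCompletion J1 T1)))
      (AdicCompletion J2 T2) :=
    (IsAdicComplete.map_algebraMap_iff (S := AdicCompletion J1 T1) _ _).mpr c3
  rw [RingHom.Flat]
  exact Groth.Agent.H3.CplMap.flat_over_completion T1 J1 (AdicCompletion J2 T2)

end Groth.Agent.H8.Rig
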