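import Mathlib
import Groth.Agent.Lib.Helper8.Rig.Finite

set_option autoImplicit false
universe u

namespace Groth.Agent.H8.Rig

section Main

variable (A : Type u) [CommRing A] [IsNoetherianRing A] (I : Ideal A)
  (B : Type u) [CommRing B] [Algebra A B] [IsNoetherianRing B]

/-- existence of a rig-closed prime over a rig-closed prime `p` as soon as `pB ≠ B` (going down). -/
theorem exists_isRigClosed_comap_eq [Module.Flat A B] (p : PrimeSpectrum A)
    (hp : IsRigClosed A I p) (Q : PrimeSpectrum B)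
    (hQ : p.asIdeal ≤ (PrimeSpectrum.comap (algebraMap A B) Q).asIdeal) :
    ∃ q : PrimeSpectrum B, IsRigClosed B (I.map (algebraMap A B)) q ∧
      PrimeSpectrum.comap (algebraMap A B) q = p := by
  obtain ⟨f, hfI, hfp⟩ := SetLike.not_le_iff_exists.mp hp.1
  -- going down
  haveI : Q.asIdeal.LiesOver (Q.asIdeal.comap (algebraMap A B)) := ⟨rfl⟩
  haveI : (Q.asIdeal.comap (algebraMap A B)).IsPrime := Ideal.comap_isPrime _ _
  obtain ⟨r, hrQ, hrprime, hrover⟩ :=
    Ideal.exists_ideal_le_liesOver_of_le (p := p.asIdeal) (q := Q.asIdeal.comap (algebraMap A B))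
      Q.asIdeal hQ
  have hr : r.comap (algebraMap A B) = p.asIdeal := (hrover.over).symm
  let S : Set (Ideal B) := {q | q.IsPrime ∧ p.asIdeal ≤ q.comap (algebraMap A B) ∧
    algebraMap A B f ∉ q}
  have hSne : S.Nonempty := ⟨r, hrprime, hr.ge, fun h => hfp (by rw [← hr]; exact h)⟩
  obtain ⟨q, hqS, hqmax⟩ := set_has_maximal_iff_noetherian.mpr
    (inferInstance : IsNoetherian B B) S hSne
  obtain ⟨hqprime, hpq, hfq⟩ := hqS
  have hfIB : algebraMap A B f ∈ I.map (algebraMap A B) := Ideal.mem_map_of_mem _ hfI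
  have key : ∀ q' : Ideal B, q'.IsPrime → p.asIdeal ≤ q'.comap (algebraMap A B) →
      ¬ (I.map (algebraMap A B)) ≤ q' → algebraMap A B f ∉ q' := by
    intro q' hq'prime hpq' hIq' hfq'
    apply hIq'
    rw [Ideal.map_le_iff_le_comap]
    by_contra hI
    have := hp.2 ⟨q'.comap (algebraMap A B), Ideal.comap_isPrime _ _⟩ hpq' hI
    apply hfp
    rw [← this]
    exact hfq'
  refine ⟨⟨q, hqprime⟩, ⟨fun h => hfq (h hfIB), ?_⟩, ?_⟩
  · intro q' hqq' hIq'
    have hpq' : p.asIdeal ≤ q'.asIdeal.comap (algebraMap A B) :=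
      hpq.trans (Ideal.comap_mono hqq')
    have hfq' := key q'.asIdeal q'.2 hpq' hIq'
    have hnot := hqmax q'.asIdeal ⟨q'.2, hpq', hfq'⟩
    have hle : q ≤ q'.asIdeal := hqq'
    apply PrimeSpectrum.ext
    exact (eq_of_le_of_not_lt hle hnot).symm
  · apply hp.2 _ hpq
    intro hI
    exact hfq (hI hfI)

variable [IsAdicComplete I A] [IsAdicComplete (I.map (algebraMap A B)) B]

theorem exists_prime_of_isRigClosed_comap (p : PrimeSpectrum A) (hp : IsRigClosed A I p)
    (q : PrimeSpectrum B) (hqp : PrimeSpectrum.comap (algebraMap A B) q = p) :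
    ∃ Q : PrimeSpectrum B, (I.map (algebraMap A B)) ≤ Q.asIdeal ∧
      p.asIdeal ≤ (PrimeSpectrum.comap (algebraMap A B) Q).asIdeal ∧
      (PrimeSpectrum.comap (algebraMap A B) Q).asIdeal.IsMaximal := by
  have hjacB : I.map (algebraMap A B) ≤ Ideal.jacobson ⊥ := IsAdicComplete.le_jacobson_bot _
  have hjacA : I ≤ Ideal.jacobson ⊥ := IsAdicComplete.le_jacobson_bot _
  obtain ⟨m, hm, hqm⟩ := Ideal.exists_le_maximal q.asIdeal q.2.ne_top
  have hIm : I.map (algebraMap A B) ≤ m := le_of_isMaximal hjacB m hm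
  have hpm : p.asIdeal ≤ m.comap (algebraMap A B) := by
    rw [← hqp]; exact Ideal.comap_mono hqm
  haveI := hm.isPrime
  refine ⟨⟨m, hm.isPrime⟩, hIm, hpm, ?_⟩
  apply isMaximal_of_isRigClosed_of_le hjacA p hp _ hpm
  rw [← Ideal.map_le_iff_le_comap]; exact hIm

end Main

end Groth.Agent.H8.Rig
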