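import Mathlib
import Groth.Agent.Lib.Helper8.Rig.CLoc
import Groth.Agent.Lib.Helper8.Rig.FlatTransfer
import Groth.Agent.Lib.Helper1.LocalCriterion

set_option autoImplicit false
universe u

open TensorProduct

namespace Groth.Agent.H8.Rig

section R1

variable (A : Type u) [CommRing A] [IsNoetherianRing A] (I : Ideal A) [IsAdicComplete I A]
  (D : Type u) [CommRing D] [Algebra A D] [IsNoetherianRing D]
  [IsAdicComplete (I.map (algebraMap A D)) D]

/-- an element of `A` which is a unit in `D` is a unit modulo the contraction of a rig-closed prime,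
when the contraction is rig-closed. -/
theorem isUnit_mk_comap_of_isUnit (hft : Algebra.FiniteType A (D ⧸ (I.map (algebraMap A D))))
    (q' : PrimeSpectrum D) (hq' : IsRigClosed D (I.map (algebraMap A D)) q')
    (hp : IsRigClosed A I (PrimeSpectrum.comap (algebraMap A D) q'))
    (u : A) (hu : IsUnit (algebraMap A D u)) :
    IsUnit (Ideal.Quotient.mk (PrimeSpectrum.comap (algebraMap A D) q').asIdeal u) := by
  have h := (tfae_comap A I D hft q' hq').out 1 2
  haveI hfin : Module.Finite A (D ⧸ q'.asIdeal) := h.mp hp
  haveI : Algebra.IsIntegral A (D ⧸ q'.asIdeal) := Algebra.IsIntegral.of_finite A _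
  let φ : A ⧸ (PrimeSpectrum.comap (algebraMap A D) q').asIdeal →+* D ⧸ q'.asIdeal :=
    Ideal.quotientMap q'.asIdeal (algebraMap A D) le_rfl
  have hinj : Function.Injective φ := Ideal.quotientMap_injective' le_rfl
  have hcomp : φ.comp (Ideal.Quotient.mk _) = algebraMap A (D ⧸ q'.asIdeal) := by
    ext a; rfl
  have hint : φ.IsIntegral := by
    apply RingHom.IsIntegral.tower_top (Ideal.Quotient.mk _) φ
    rw [hcomp]
    exact algebraMap_isIntegral_iff.mpr inferInstance
  haveI := hint.isLocalHom hinj
  apply isUnit_of_map_unit φ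
  rw [Ideal.quotientMap_mk]
  exact hu.map _

end R1

section Main

variable (A : Type u) [CommRing A] [IsNoetherianRing A] (I : Ideal A) [IsAdicComplete I A]
  (B : Type u) [CommRing B] [Algebra A B] [IsNoetherianRing B]
  [IsAdicComplete (I.map (algebraMap A B)) B]

/-- Stacks: naively rig-flat implies rig-flat when `A/I` is Jacobson. -/
theorem flat_of_naive (hft : Algebra.FiniteType A (B ⧸ (I.map (algebraMap A B))))
    (hJ : IsJacobsonRing (A ⧸ I))
    (hnaive : ∀ q : PrimeSpectrum B, IsRigClosed B (I.map (algebraMap A B)) q →
      (algebraMap A (Localization.AtPrime q.asIdeal)).Flat)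
    (f : A) (ψ : CLoc A I f →+* CLoc B (I.map (algebraMap A B)) (algebraMap A B f))
    (hψ : ψ.comp (algebraMap (Localization.Away f) (CLoc A I f)) =
      (algebraMap (Localization.Away (algebraMap A B f))
        (CLoc B (I.map (algebraMap A B)) (algebraMap A B f))).comp
        (Localization.awayMap (algebraMap A B) f))
    (q' : PrimeSpectrum (CLoc B (I.map (algebraMap A B)) (algebraMap A B f)))
    (hq' : IsRigClosed (CLoc B (I.map (algebraMap A B)) (algebraMap A B f))
      ((I.map (algebraMap A B)).map
        (algebraMap B (CLoc B (I.map (algebraMap A B)) (algebraMap A B f)))) q') :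
    ((algebraMap (CLoc B (I.map (algebraMap A B)) (algebraMap A B f))
      (Localization.AtPrime q'.asIdeal)).comp ψ).Flat := by
  -- abbreviations
  haveI hAhatN := CLoc.isNoetherianRing A I f
  haveI hBhatN := CLoc.isNoetherianRing B (I.map (algebraMap A B)) (algebraMap A B f)
  haveI hBhatC := CLoc.isAdicComplete B (I.map (algebraMap A B)) (algebraMap A B f)
  have hIeq : I.map (algebraMap A (CLoc B (I.map (algebraMap A B)) (algebraMap A B f))) =
      (I.map (algebraMap A B)).map
        (algebraMap B (CLoc B (I.map (algebraMap A B)) (algebraMap A B f))) :=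
    (congrArg (fun g => I.map g) (IsScalarTower.algebraMap_eq A B
      (CLoc B (I.map (algebraMap A B)) (algebraMap A B f)))).trans (Ideal.map_map _ _).symm
  haveI hcD : IsAdicComplete
      (I.map (algebraMap A (CLoc B (I.map (algebraMap A B)) (algebraMap A B f))))
      (CLoc B (I.map (algebraMap A B)) (algebraMap A B f)) := by rw [hIeq]; exact hBhatC
  have hftD : Algebra.FiniteType A (CLoc B (I.map (algebraMap A B)) (algebraMap A B f) ⧸
      I.map (algebraMap A (CLoc B (I.map (algebraMap A B)) (algebraMap A B f)))) := by
    rw [hIeq]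
    exact CLoc.finiteType_quotient B (I.map (algebraMap A B)) (algebraMap A B f) A hft
  have hq'D : IsRigClosed (CLoc B (I.map (algebraMap A B)) (algebraMap A B f))
      (I.map (algebraMap A (CLoc B (I.map (algebraMap A B)) (algebraMap A B f)))) q' := by
    rw [hIeq]; exact hq'
  -- p rig-closed, f unit mod p
  have hp := isRigClosed_comap_of_isJacobsonRing A I _ hftD q' hq'D hJ
  have hfu := isUnit_mk_comap_of_isUnit A I _ hftD q' hq'D hp f (by
    rw [IsScalarTower.algebraMap_apply A B]
    exact CLoc.isUnit_algebraMap B (I.map (algebraMap A B)) (algebraMap A B f))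
  -- q rig-closed
  haveI : Algebra.FiniteType (A ⧸ I) (B ⧸ I.map (algebraMap A B)) :=
    Algebra.FiniteType.of_restrictScalars_finiteType A _ _
  have hJB : IsJacobsonRing (B ⧸ I.map (algebraMap A B)) := isJacobsonRing_of_finiteType (A := A ⧸ I)
  have hftD' : Algebra.FiniteType B (CLoc B (I.map (algebraMap A B)) (algebraMap A B f) ⧸
      (I.map (algebraMap A B)).map
        (algebraMap B (CLoc B (I.map (algebraMap A B)) (algebraMap A B f)))) :=
    CLoc.finiteType_quotient B (I.map (algebraMap A B)) (algebraMap A B f) B
      (Algebra.FiniteType.of_surjective (Ideal.Quotient.mkₐ B _) Ideal.Quotient.mk_surjective)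
  have hq := isRigClosed_comap_of_isJacobsonRing B (I.map (algebraMap A B)) _ hftD' q' hq' hJB
  -- flatness over A
  have hflat1 : Module.Flat A (Localization.AtPrime
      (PrimeSpectrum.comap (algebraMap B (CLoc B (I.map (algebraMap A B)) (algebraMap A B f)))
        q').asIdeal) := RingHom.flat_algebraMap_iff.mp (hnaive _ hq)
  haveI : q'.asIdeal.LiesOver (PrimeSpectrum.comap
      (algebraMap B (CLoc B (I.map (algebraMap A B)) (algebraMap A B f))) q').asIdeal := ⟨rfl⟩
  letI := Localization.AtPrime.algebraOfLiesOver (PrimeSpectrum.comap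
      (algebraMap B (CLoc B (I.map (algebraMap A B)) (algebraMap A B f))) q').asIdeal q'.asIdeal
  haveI : Module.Flat B (CLoc B (I.map (algebraMap A B)) (algebraMap A B f)) :=
    CLoc.flat B (I.map (algebraMap A B)) (algebraMap A B f)
  haveI hflatA : Module.Flat A (Localization.AtPrime q'.asIdeal) :=
    Module.Flat.trans A (Localization.AtPrime (PrimeSpectrum.comap
      (algebraMap B (CLoc B (I.map (algebraMap A B)) (algebraMap A B f))) q').asIdeal) _
  -- algebra structure over Ahat
  letI algS : Algebra (CLoc A I f) (Localization.AtPrime q'.asIdeal) :=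
    ((algebraMap (CLoc B (I.map (algebraMap A B)) (algebraMap A B f))
      (Localization.AtPrime q'.asIdeal)).comp ψ).toAlgebra
  have hcomm : ψ.comp (algebraMap A (CLoc A I f)) =
      algebraMap A (CLoc B (I.map (algebraMap A B)) (algebraMap A B f)) := by
    have e1 := IsScalarTower.algebraMap_eq A (Localization.Away f) (CLoc A I f)
    have e2 := IsScalarTower.algebraMap_eq B (Localization.Away (algebraMap A B f))
      (CLoc B (I.map (algebraMap A B)) (algebraMap A B f))
    have e3 : (Localization.awayMap (algebraMap A B) f).comp (algebraMap A (Localization.Away f)) =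
        (algebraMap B (Localization.Away (algebraMap A B f))).comp (algebraMap A B) := by
      ext a
      simp [Localization.awayMap, IsLocalization.Away.map]
    rw [e1, ← RingHom.comp_assoc, hψ, RingHom.comp_assoc, e3, ← RingHom.comp_assoc, ← e2,
      ← IsScalarTower.algebraMap_eq]
  haveI towerS : IsScalarTower A (CLoc A I f) (Localization.AtPrime q'.asIdeal) := by
    apply IsScalarTower.of_algebraMap_eq
    intro a
    change _ = (algebraMap (CLoc B (I.map (algebraMap A B)) (algebraMap A B f))
      (Localization.AtPrime q'.asIdeal)) (ψ (algebraMap A (CLoc A I f) a))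
    have := congrArg (fun g => g a) hcomm
    simp only [RingHom.comp_apply] at this
    rw [this, ← IsScalarTower.algebraMap_apply]
  change Module.Flat (CLoc A I f) (Localization.AtPrime q'.asIdeal)
  -- local criterion
  set P := (PrimeSpectrum.comap
    (algebraMap A (CLoc B (I.map (algebraMap A B)) (algebraMap A B f))) q').asIdeal with hPdef
  refine Groth.Agent.H1.flat_of_forall_flat_quotient_pow (A := CLoc A I f)
    (B := Localization.AtPrime q'.asIdeal) (M := Localization.AtPrime q'.asIdeal)
    (P.map (algebraMap A (CLoc A I f))) ?_ ?_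
  · have hmm : (P.map (algebraMap A (CLoc A I f))).map
        (algebraMap (CLoc A I f) (Localization.AtPrime q'.asIdeal)) =
        P.map (algebraMap A (Localization.AtPrime q'.asIdeal)) :=
      (Ideal.map_map _ _).trans (congrArg (fun g => P.map g)
        (IsScalarTower.algebraMap_eq A (CLoc A I f) (Localization.AtPrime q'.asIdeal)).symm)
    rw [hmm]
    refine le_trans ?_ (IsLocalRing.maximalIdeal_le_jacobson ⊥)
    rw [Ideal.map_le_iff_le_comap]
    intro a ha
    rw [Ideal.mem_comap, IsScalarTower.algebraMap_apply A
      (CLoc B (I.map (algebraMap A B)) (algebraMap A B f)) (Localization.AtPrime q'.asIdeal),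
      IsLocalization.AtPrime.to_map_mem_maximal_iff _ q'.asIdeal]
    exact ha
  · intro n hn
    have key : ∀ K : Ideal (CLoc A I f), K = (P ^ n).map (algebraMap A (CLoc A I f)) →
        Module.Flat (CLoc A I f ⧸ K) ((CLoc A I f ⧸ K) ⊗[CLoc A I f]
          Localization.AtPrime q'.asIdeal) := by
      rintro K rfl
      apply flat_quotient_tensor A (CLoc A I f) (Localization.AtPrime q'.asIdeal) (P ^ n)
      exact (quotientMap_completion_bijective A I (P ^ n) f (Localization.Away f)
        (isUnit_mk_pow P f hfu n)).2
    exact key _ (Ideal.map_pow _ _ _).symm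

end Main

end Groth.Agent.H8.Rig
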